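import Cfsg.Agent.Lib.TwE6MinDeg.Orbit

/-!
Weights above a given weight, translations, and elements acting as scalars on a line.
-/

set_option autoImplicit false
set_option linter.unusedSectionVars false
set_option maxRecDepth 100000

namespace CfsgLib.TwE6MinDeg

open Module Cfsg.Lie CfsgLib.Chev CfsgLib.EMinDeg CfsgLib.SUMinDegree

/-- The sequence leaves the coordinates of `A` outside reach. -/
noncomputable def chkFixes (S A : List ℕ) (es : List (ℕ × ℕ)) : Bool :=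
  es.all fun e => S.all fun b => outside tabE6 S A e.1 b

variable {K : Type*} [Field K] {S : List ℕ}

theorem run_fix {A : List ℕ} : ∀ {es : List (ℕ × ℕ)}, chkFixes S A es = true → ∀ (s : ℕ → K)
    {φ : Ix S → K}, Supp A φ → run tabE6 es s φ = φ
  | [], _, _, _, _ => rfl
  | e :: r, h, s, φ, hφ => by
    simp only [chkFixes, List.all_cons, Bool.and_eq_true] at h
    show mv tabE6 e.1 (s e.2) (run tabE6 r s φ) = φ
    rw [run_fix (es := r) h.2 s hφ]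
    exact co_ext fun b hb => co_mv_outside (List.all_eq_true.1 h.1 b hb) _ hφ

variable [Fintype K] {q : ℕ} (f : K →+* K) (hf : ∀ t, f t = t ^ q) (hK : Fintype.card K = q ^ 2)
variable {V : Type*} [AddCommGroup V] [Module ℂ V] [FiniteDimensional ℂ V] {θ : AddChar K ℂ}
  {ρ : Representation ℂ (Tw f) V} {W : Submodule ℂ V}
include hf

theorem sg_res {S2 : List ℕ} [IsSet S] [IsSet S2] (h : ∀ a ∈ S, a ∈ S2) {ψ : Ix S2 → K}
    (hψ : sg q ψ = ψ) : sg q (res ψ : Ix S → K) = res ψ := by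
  funext b
  show (twistE6.ep b : K) * co (res ψ : Ix S → K) (twistE6.rt b) ^ q = co ψ b
  rw [co_of_mem _ (set_spec b.2).2.2.1, co_of_mem ψ (h b b.2)]
  exact congrFun hψ ⟨b, h b b.2⟩

theorem sg_extend {S2 : List ℕ} [IsSet S] [IsSet S2] (h : ∀ a ∈ S, a ∈ S2) {φ : Ix S → K}
    (hφ : sg q φ = φ) : sg q (ext φ : Ix S2 → K) = ext φ := sg_ext f hf h hφ

/-- Splitting along a partition. -/
theorem stab_union {S' S2 : List ℕ} [IsSet S] [IsSet S'] [IsSet S2] (h : ∀ a ∈ S, a ∈ S2)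
    (h' : ∀ a ∈ S', a ∈ S2) (hc : ∀ a ∈ S2, a ∈ S ∨ a ∈ S') (hd : ∀ a ∈ S', a ∉ S)
    (hW : ∀ a, Stab f ρ W (rg f hf S a)) (hW' : ∀ a, Stab f ρ W (rg f hf S' a)) (a : fixV f hf S2) :
    Stab f ρ W (rg f hf S2 a) := by
  let v : fixV f hf S := ⟨res (a : Ix S2 → K), sg_res f hf h a.2⟩
  let v' : fixV f hf S' := ⟨res (a : Ix S2 → K), sg_res f hf h' a.2⟩
  have eg : rg f hf S2 a = rg f hf S v * rg f hf S' v' := incl_injective f (by
    rw [map_mul, incl_rg, incl_rg, incl_rg, ← yy_ext (S2 := S2) h, ← yy_ext (S2 := S2) h',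
      ← AddChar.map_add_eq_mul]
    congr 1
    funext b
    show (a : Ix S2 → K) b = co (res (a : Ix S2 → K) : Ix S → K) b + co (res (a : Ix S2 → K) : Ix S' → K) b
    rcases hc b b.2 with hb | hb
    · rw [co_of_mem _ hb, co, dif_neg (fun hb' => hd b hb' hb), add_zero]
      exact (co_of_mem _ b.2).symm
    · rw [co, dif_neg (hd b hb), co_of_mem _ hb, zero_add]
      exact (co_of_mem _ b.2).symm)
  intro w hw
  rw [eg, map_mul, Module.End.mul_apply]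
  exact hW v _ (hW' v' w hw)

include hK

/-- A weight on a larger list above a given one. -/
theorem exists_above {S2 : List ℕ} [IsSet S] [IsSet S2] (hθ : θ 1 ≠ 1) (h : ∀ a ∈ S, a ∈ S2)
    {φ : Ix S → K} (hφ : sg q φ = φ) (hW : W ≤ Wt f hf ρ θ S φ)
    (hst : ∀ a, Stab f ρ W (rg f hf S2 a)) (hne : W ≠ ⊥) :
    ∃ ψ : Ix S2 → K, sg q ψ = ψ ∧ res ψ = φ ∧ W ⊓ Wt f hf ρ θ S2 ψ ≠ ⊥ := by
  obtain ⟨ψ, hψ, h0⟩ := exists_wt f hf hK hθ hst hne
  refine ⟨ψ, hψ, ?_, h0⟩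
  obtain ⟨w, hw, hw0⟩ := (Submodule.ne_bot_iff _).1 h0
  have h1 := (mem_Wt f hf).1 (Wt_res f hf h hw.2)
  have h2 := (mem_Wt f hf).1 (hW hw.1)
  refine chi_injective f hf hK hθ (sg_res f hf h hψ) hφ (DFunLike.ext _ _ fun a => ?_)
  exact smul_left_injective ℂ hw0 ((h1 a).symm.trans (h2 a))

/-- The translates of a weight of a cell. -/
theorem shift_le [IsSet S] (hθ : θ 1 ≠ 1) {d : Cell} (hd : d.chk S = true) {φ₀ : Ix S → K}
    (hφ₀ : sg q φ₀ = φ₀) (hs : Supp d.A φ₀) (hm : co φ₀ d.m ≠ 0) (hz : ∀ e ∈ d.es, co φ₀ e.2 = 0)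
    (hW : ∀ s : FPar K q d.es, Stab f ρ W (elT f hf hK (Cell.spec hd).2.1 s.2)) :
    q ^ d.es.length * finrank ℂ (W ⊓ Wt f hf ρ θ S φ₀ : Submodule ℂ V) ≤ finrank ℂ W := by
  have := family_le (θ := θ) (ρ := ρ) (W := W) f hf hK hθ (cs := [d])
    (fun x hx => by rw [List.mem_singleton.1 hx]; exact hd) (List.pairwise_singleton _ _) (ι := Fin 1)
    (fun _ => ⟨0, Nat.zero_lt_one⟩) (fun _ => φ₀) (fun _ => ⟨hs, hm, hz⟩)
    (fun i j _ _ => Subsingleton.elim i j) (fun _ => hφ₀) (fun _ s => hW s)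
    (D := finrank ℂ (W ⊓ Wt f hf ρ θ S φ₀ : Submodule ℂ V)) (fun _ => le_rfl)
  simp only [Finset.univ_unique, Finset.sum_singleton, List.get_eq_getElem, List.getElem_cons_zero] at this
  omega

/-- Translations move any weight with the given leading coordinate to one vanishing on the targets. -/
theorem normalise [IsSet S] {d : Cell} (hd : d.chk S = true) {ψ : Ix S → K}
    (hψ : sg q ψ = ψ) (hs : Supp d.A ψ) (hm : co ψ d.m ≠ 0)
    (hW : ∀ s : FPar K q d.es, Stab f ρ W (elT f hf hK (Cell.spec hd).2.1 s.2)) :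
    ∃ φ₀ : Ix S → K, sg q φ₀ = φ₀ ∧ Supp d.A φ₀ ∧ co φ₀ d.m = co ψ d.m ∧
      (∀ e ∈ d.es, co φ₀ e.2 = 0) ∧
      (∀ b ∈ S, b ∉ d.es.map Prod.snd → (∀ e ∈ d.es, outside tabE6 S d.A e.1 b = true) →
        co φ₀ b = co ψ b) ∧
      finrank ℂ (W ⊓ Wt f hf ρ θ S φ₀ : Submodule ℂ V) =
        finrank ℂ (W ⊓ Wt f hf ρ θ S ψ : Submodule ℂ V) := by
  obtain ⟨s, φ₀, e, h1, h2, h3, h4⟩ := clear f hf hK hd hψ hs hm
  refine ⟨φ₀, h1, h2, h3, h4, fun b hb _ ho => ?_, ?_⟩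
  · rw [← e]
    exact (run_other (Cell.spec hd).1 _ h2 b ho).symm
  · rw [← finrank_Wt_eq f hf (hW s) (cpt_act f hf hK hd s) φ₀, e]

section Line

variable {ℓ : Submodule ℂ V}

omit hf hK in
theorem exists_scalar (hℓ : finrank ℂ ℓ = 1) {g : Tw f} (hg : Stab f ρ ℓ g) {w : V} (hw : w ∈ ℓ)
    (hw0 : w ≠ 0) : ∃ μ : ℂ, μ ≠ 0 ∧ ρ g w = μ • w := by
  obtain ⟨μ, hμ⟩ := (finrank_eq_one_iff_of_nonzero' (⟨w, hw⟩ : ℓ) (by simp [hw0])).1 hℓ ⟨ρ g w, hg w hw⟩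
  have e : μ • w = ρ g w := congrArg Subtype.val hμ
  refine ⟨μ, fun e0 => hw0 (rho_injective f (ρ := ρ) g ?_), e.symm⟩
  rw [← e, e0, zero_smul, map_zero]

/-- The weight of a line does not move under elements preserving it. -/
theorem line_weight_fixed {H : List ℕ} [IsSet H] (hθ : θ 1 ≠ 1) (hℓ : finrank ℂ ℓ = 1) {g : Tw f}
    (hg : Stab f ρ ℓ g) {Φ : (Ix H → K) → (Ix H → K)} (hA : Act (incl f g) H H Φ) {ψ : Ix H → K}
    (hψ : sg q ψ = ψ) (hle : ℓ ≤ Wt f hf ρ θ H ψ) : Φ ψ = ψ := by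
  obtain ⟨w, hw, hw0⟩ := ℓ.ne_bot_iff.1 fun e => by rw [e, finrank_bot] at hℓ; omega
  obtain ⟨μ, hμ0, hμ⟩ := exists_scalar f hℓ hg hw hw0
  have h1 := rho_mem_Wt f hf hA (hle hw)
  have h2 := hle (hg w hw)
  rw [mem_Wt] at h1 h2
  have hne : ρ g w ≠ 0 := by rw [hμ]; exact smul_ne_zero hμ0 hw0
  exact chi_injective f hf hK hθ (hA.fixed f hf hK (hom_incl f g) hψ) hψ
    (DFunLike.ext _ _ fun a => smul_left_injective ℂ hne ((h1 a).symm.trans (h2 a)))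

theorem line_wt {H : List ℕ} [IsSet H] (hθ : θ 1 ≠ 1) (hℓ : finrank ℂ ℓ = 1)
    (hst : ∀ a, Stab f ρ ℓ (rg f hf H a)) :
    ∃ ψ : Ix H → K, sg q ψ = ψ ∧ ℓ ≤ Wt f hf ρ θ H ψ := by
  have hne : ℓ ≠ ⊥ := fun e => by rw [e, finrank_bot] at hℓ; omega
  obtain ⟨ψ, hψ, h0⟩ := exists_wt f hf hK hθ hst hne
  refine ⟨ψ, hψ, ?_⟩
  have : ℓ ⊓ Wt f hf ρ θ H ψ = ℓ := by
    refine Submodule.eq_of_le_of_finrank_le inf_le_left ?_
    rw [hℓ]
    exact Nat.one_le_iff_ne_zero.2 fun e => h0 (Submodule.finrank_eq_zero.1 e)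
  exact this ▸ inf_le_right

end Line

end CfsgLib.TwE6MinDeg
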