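import Cfsg.Agent.Lib.EMinDeg.PolyCert

/-!
The degrees just below the bound do not divide the order of twisted E6 (certificates generated).
-/

set_option autoImplicit false
set_option maxRecDepth 100000

namespace CfsgLib.TwE6MinDeg

open CfsgLib.EMinDeg

/-- The bound. -/
def degT (q : ℕ) : ℕ := q ^ 11 + q ^ 7 + q ^ 5 + q - (q ^ 8 + q ^ 4)

/-- A multiple of the order. -/
def ordW (q : ℕ) : ℕ :=
  q ^ 36 * (q ^ 2 - 1) * (q ^ 5 + 1) * (q ^ 6 - 1) * (q ^ 8 - 1) * (q ^ 9 + 1) * (q ^ 12 - 1)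

/-- The certificates. -/
def facsTwE6 : List (List ℤ × List Fac) := [
  ([-1, 1, 0, 0, -1, 1, 0, 1, -1, 0, 0, 1], [
    ⟨[0, 1], 36, 0, 1, [-1], [1, 0, 0, -1, 1, 0, 1, -1, 0, 0, 1], [-1, 1, 0, 0, -1, 1, 0, 1, -1, 0, 0, 1]⟩,
    ⟨[-1, 1], 4, 0, 1, [1], [-2, -1, -1, -1, -2, -1, -1, 0, -1, -1, -1], [-1, 1, 0, 0, -1, 1, 0, 1, -1, 0, 0, 1]⟩,
    ⟨[1, 1], 6, 0, 7, [-1], [6, -5, 5, -5, 4, -3, 3, -2, 1, -1, 1], [-1, 1, 0, 0, -1, 1, 0, 1, -1, 0, 0, 1]⟩,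
    ⟨[1, 1, 1], 2, 0, 2, [-1], [1, 0, -1, 1, -1, 1, 0, 0, -1, 1], [-1, 1, 0, 0, -1, 1, 0, 1, -1, 0, 0, 1]⟩,
    ⟨[1, 0, 1], 2, 0, 3, [-1], [2, 1, -2, -1, 1, 2, -1, -1, 0, 1], [-1, 1, 0, 0, -1, 1, 0, 1, -1, 0, 0, 1]⟩,
    ⟨[1, -1, 1], 3, 0, 2, [1], [3, 2, -1, -3, -1, 1, 2, 0, -1, -1], [-1, 1, 0, 0, -1, 1, 0, 1, -1, 0, 0, 1]⟩,
    ⟨[1, 0, 0, 0, 1], 1, 0, 1, [-1], [0, 1, 0, 0, -1, 0, 0, 1], [-1, 1, 0, 0, -1, 1, 0, 1, -1, 0, 0, 1]⟩,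
    ⟨[1, -1, 1, -1, 1], 1, 0, 1, [0, -1, 0, -1], [1, 0, 0, 0, 0, -1, 0, 0, 1, 1, 1], [-1, 1, 0, 0, -1, 1, 0, 1, -1, 0, 0, 1]⟩,
    ⟨[1, 0, -1, 0, 1], 1, 1, 37, [-14, -11, 8, 1], [23, 3, 28, -1, 9, -8, -1], [-1, 1, -1, 1, -1, 1, 0, 1]⟩,
    ⟨[1, 0, 0, -1, 0, 0, 1], 1, 0, 1, [-1], [0, 1, 0, 0, 0, 1], [-1, 1, 0, 0, -1, 1, 0, 1, -1, 0, 0, 1]⟩]),
  ([-2, 1, 0, 0, -1, 1, 0, 1, -1, 0, 0, 1], [
    ⟨[0, 1], 36, 0, 2, [-1], [1, 0, 0, -1, 1, 0, 1, -1, 0, 0, 1], [-2, 1, 0, 0, -1, 1, 0, 1, -1, 0, 0, 1]⟩,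
    ⟨[-1, 1], 4, 1, 12, [1], [-10, -9, -8, -7, -5, -4, -3, -3, -2, -1], [2, 1, 1, 1, 2, 1, 1, 0, 1, 1, 1]⟩,
    ⟨[1, 1], 6, 0, 8, [-1], [6, -5, 5, -5, 4, -3, 3, -2, 1, -1, 1], [-2, 1, 0, 0, -1, 1, 0, 1, -1, 0, 0, 1]⟩,
    ⟨[1, 1, 1], 2, 0, 3, [-1], [1, 0, -1, 1, -1, 1, 0, 0, -1, 1], [-2, 1, 0, 0, -1, 1, 0, 1, -1, 0, 0, 1]⟩,
    ⟨[1, 0, 1], 2, 0, 4, [-1], [2, 1, -2, -1, 1, 2, -1, -1, 0, 1], [-2, 1, 0, 0, -1, 1, 0, 1, -1, 0, 0, 1]⟩,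
    ⟨[1, -1, 1], 3, 0, 1, [1], [3, 2, -1, -3, -1, 1, 2, 0, -1, -1], [-2, 1, 0, 0, -1, 1, 0, 1, -1, 0, 0, 1]⟩,
    ⟨[1, 0, 0, 0, 1], 1, 0, 2, [-1], [0, 1, 0, 0, -1, 0, 0, 1], [-2, 1, 0, 0, -1, 1, 0, 1, -1, 0, 0, 1]⟩,
    ⟨[1, -1, 1, -1, 1], 1, 0, 11, [-5, -3, -1, -1], [1, 0, 0, 0, -5, -3, 4, 7, 4, 2, 1], [-2, 1, 0, 0, -1, 1, 0, 1, -1, 0, 0, 1]⟩,
    ⟨[1, 0, -1, 0, 1], 1, 0, 1, [-1], [-1, 1, -1, 1, -1, 1, 0, 1], [-2, 1, 0, 0, -1, 1, 0, 1, -1, 0, 0, 1]⟩,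
    ⟨[1, 0, 0, -1, 0, 0, 1], 1, 0, 2, [-1], [0, 1, 0, 0, 0, 1], [-2, 1, 0, 0, -1, 1, 0, 1, -1, 0, 0, 1]⟩])]

/-- The product. -/
def prodTwE6 : List ℤ :=
  [0, 0, 0, 0, 0, 0, 0, 0, 0, 0, 0, 0, 0, 0, 0, 0, 0, 0, 0, 0, 0, 0, 0, 0, 0, 0, 0, 0, 0, 0, 0, 0, 0, 0, 0, 0, 1, 0, -1, 0, 0, 1, -1, -1, 0, 1, 1, -2, -1, 0, 3, 0, -2, -1, 1, 3, -1, -2, -1, 3, 1, -1, -2, 0, 3, 0, -1, -2, 1, 1, 0, -1, -1, 1, 0, 0, -1, 0, 1]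

theorem chkFacsTwE6 : (facsTwE6.all fun p => chkFacs p.1 prodTwE6 p.2) = true := by decide +kernel

theorem chkBoundTwE6 :
    (chkBound 600 10 4 (facsTwE6[0]!).2 && chkBound 600 10 1 (facsTwE6[1]!).2) = true := by
  decide +kernel

theorem smallTwE6 : ((List.range 597).all fun i => (List.range 2).all fun j =>
    decide (ordW (i + 3) % (degT (i + 3) - (j + 1)) ≠ 0)) = true := by decide +kernel

theorem smallTwoTwE6 : ((List.range 12).all fun j => decide (ordW 2 % (degT 2 - (j + 1)) ≠ 0)) = true := by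
  decide +kernel

theorem degT_eq (q : ℕ) : degT q = q * (q ^ 6 - q ^ 3 + 1) * (q ^ 4 + 1) := by
  rcases Nat.eq_zero_or_pos q with rfl | hq
  · rfl
  have h1 : q ^ 3 ≤ q ^ 6 := Nat.pow_le_pow_right hq (by norm_num)
  obtain ⟨a, ha⟩ : ∃ a, q ^ 6 = q ^ 3 + a := ⟨q ^ 6 - q ^ 3, by omega⟩
  have e : q ^ 6 - q ^ 3 + 1 = a + 1 := by omega
  rw [degT, e]
  have h2 : q ^ 11 + q ^ 7 + q ^ 5 + q = q * (a + 1) * (q ^ 4 + 1) + (q ^ 8 + q ^ 4) := by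
    have : q ^ 11 = q ^ 5 * (q ^ 3 + a) := by rw [← ha]; ring
    have : q ^ 7 = q * (q ^ 3 + a) := by rw [← ha]; ring
    linarith [show q * (a + 1) * (q ^ 4 + 1) = q ^ 5 * a + q * a + q ^ 5 + q by ring,
      show q ^ 5 * (q ^ 3 + a) = q ^ 8 + q ^ 5 * a by ring, show q * (q ^ 3 + a) = q ^ 4 + q * a by ring]
  omega

/-- The degrees just below the bound do not divide the order. -/
theorem not_dvd_TwE6 {q d : ℕ} (hq : 3 ≤ q) (hd : d < 2) : ¬ degT q - (d + 1) ∣ ordW q := by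
  rcases Nat.lt_or_ge q 600 with hq' | hq'
  · have h := smallTwE6
    simp only [List.all_eq_true, List.mem_range, decide_eq_true_eq] at h
    have h' := h (q - 3) (by omega) d hd
    rw [Nat.sub_add_cancel hq] at h'
    exact fun hdvd => h' (Nat.mod_eq_zero_of_dvd hdvd)
  intro hdvd
  have hb := chkBoundTwE6
  simp only [Bool.and_eq_true] at hb
  have hf := chkFacsTwE6
  simp only [List.all_eq_true] at hf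
  have h1 : ∀ e, 1 ≤ q ^ e := fun e => Nat.one_le_pow _ _ (by omega)
  have hW : evalL (q : ℤ) prodTwE6 = ((ordW q : ℕ) : ℤ) := by
    rw [ordW]
    push_cast [Nat.cast_sub (h1 _)]
    simp only [prodTwE6, evalL]
    ring
  have h84 : q ^ 8 + q ^ 4 ≤ q ^ 11 := by
    have a1 : q ^ 4 ≤ q ^ 8 := Nat.pow_le_pow_right (by omega) (by norm_num)
    have a2 : 2 * q ^ 8 ≤ q ^ 11 := by
      rw [show q ^ 11 = q ^ 3 * q ^ 8 by ring]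
      exact Nat.mul_le_mul_right _ (le_trans (by omega) (Nat.le_self_pow (by norm_num) q))
    omega
  have hlow : q ^ 10 ≤ degT q - (d + 1) := by
    have a1 : q ^ 8 ≤ q ^ 10 := Nat.pow_le_pow_right (by omega) (by norm_num)
    have a2 : q ^ 4 ≤ q ^ 10 := Nat.pow_le_pow_right (by omega) (by norm_num)
    have a3 : 3 * q ^ 10 ≤ q ^ 11 := by
      rw [show q ^ 11 = q * q ^ 10 by ring]
      exact Nat.mul_le_mul_right _ hq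
    rw [degT]
    omega
  have hK : ∀ i, i < 2 → d = i → evalL (q : ℤ) (facsTwE6[i]!).1 = ((degT q - (d + 1) : ℕ) : ℤ) := by
    intro i hi e
    rw [Nat.cast_sub (show d + 1 ≤ degT q by have := h1 10; omega), degT,
      Nat.cast_sub (show q ^ 8 + q ^ 4 ≤ q ^ 11 + q ^ 7 + q ^ 5 + q by omega)]
    interval_cases i <;> (subst e; simp [facsTwE6, evalL]; ring)
  rcases (show d = 0 ∨ d = 1 by omega) with e | e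
  · refine not_dvd_of_chk (x := (q : ℤ)) (hf _ (by simp [facsTwE6])) hb.1 (by exact_mod_cast hq')
      (by exact_mod_cast h1 0 |>.trans (by simp; omega)) ?_ ?_
    · rw [hK 0 (by omega) e]; exact_mod_cast hlow
    · rw [hK 0 (by omega) e, hW]; exact_mod_cast hdvd
  · refine not_dvd_of_chk (x := (q : ℤ)) (hf _ (by simp [facsTwE6])) hb.2 (by exact_mod_cast hq')
      (by exact_mod_cast h1 0 |>.trans (by simp; omega)) ?_ ?_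
    · rw [hK 1 (by omega) e]; exact_mod_cast hlow
    · rw [hK 1 (by omega) e, hW]; exact_mod_cast hdvd

end CfsgLib.TwE6MinDeg
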