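import Cfsg.Agent.Lib.TwE6MinDeg.Moves

/-!
Families of weights with a leading coordinate, and the fixed vectors of a root subgroup on free orbits.
-/

set_option autoImplicit false
set_option linter.unusedSectionVars false
set_option maxRecDepth 100000

namespace CfsgLib.TwE6MinDeg

open Module Cfsg.Lie CfsgLib.Chev CfsgLib.EMinDeg CfsgLib.SUMinDegree

/-- A leading coordinate, the allowed coordinates and the roots clearing the others. -/
structure Cell where
  /-- the leading coordinate -/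
  m : ℕ
  /-- the allowed coordinates -/
  A : List ℕ
  /-- the roots and their targets -/
  es : List (ℕ × ℕ)

/-- The sign of the root feeding a target. -/
noncomputable def epT (es : List (ℕ × ℕ)) (a : ℕ) : ℤ :=
  ((es.find? fun e => decide (e.2 = a)).map fun e => twistE6.ep e.1).getD 1

/-- The targets fixed by the twist. -/
noncomputable def fixT (es : List (ℕ × ℕ)) : List ℕ :=
  (es.map Prod.snd).filter fun a => decide (twistE6.rt a = a)

/-- The first targets of the pairs. -/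
noncomputable def lowT (es : List (ℕ × ℕ)) : List ℕ :=
  (es.map Prod.snd).filter fun a => decide (a < twistE6.rt a)

/-- The signs match the twist. -/
noncomputable def chkSign (S : List ℕ) (es : List (ℕ × ℕ)) : Bool :=
  es.all fun e => es.all fun e' => !decide (e'.2 = twistE6.rt e.2) ||
    match tgt tabE6 S e.1 e.2, tgt tabE6 S e'.1 e'.2 with
    | some kc, some kc' => decide (kc'.2 * twistE6.ep e.1 = twistE6.ep e.2 * kc.2)
    | _, _ => false

/-- The check of a cell. -/
noncomputable def Cell.chk (S : List ℕ) (d : Cell) : Bool :=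
  chkRun tabE6 [] S d.A [d.m] d.m d.es && chkBlocks d.es && chkSign S d.es &&
    decide (d.m ∈ S) && decide (twistE6.rt d.m = d.m) && decide (twistE6.ep d.m = 1) &&
    decide ((fixT d.es).length + 2 * (lowT d.es).length = d.es.length) &&
    (d.es.all fun e => decide (twistE6.rt e.2 ∈ d.es.map Prod.snd) && decide (e.2 < tabE6.n) &&
      decide (epT d.es e.2 = twistE6.ep e.1) && decide (epT d.es (twistE6.rt e.2) = twistE6.ep e.1) &&
      decide (twistE6.ep e.1 * twistE6.ep e.1 = 1) &&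
      (decide (twistE6.rt e.2 ≠ e.2) || decide (twistE6.ep e.1 = 1)) &&
      d.es.all fun e' => decide (e' = e) || outside tabE6 S d.A e'.1 e.2)

variable {S : List ℕ} {d : Cell}

theorem Cell.spec (h : d.chk S = true) :
    chkRun tabE6 [] S d.A [d.m] d.m d.es = true ∧ chkBlocks d.es = true ∧ chkSign S d.es = true ∧
      d.m ∈ S ∧ twistE6.rt d.m = d.m ∧ twistE6.ep d.m = 1 ∧
      (fixT d.es).length + 2 * (lowT d.es).length = d.es.length ∧
      ∀ e ∈ d.es, twistE6.rt e.2 ∈ d.es.map Prod.snd ∧ e.2 < tabE6.n ∧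
        epT d.es e.2 = twistE6.ep e.1 ∧ epT d.es (twistE6.rt e.2) = twistE6.ep e.1 ∧
        twistE6.ep e.1 * twistE6.ep e.1 = 1 ∧ (twistE6.rt e.2 = e.2 → twistE6.ep e.1 = 1) ∧
        ∀ e' ∈ d.es, e' = e ∨ outside tabE6 S d.A e'.1 e.2 = true := by
  simp only [Cell.chk, Bool.and_eq_true, Bool.or_eq_true, decide_eq_true_eq, List.all_eq_true] at h
  obtain ⟨⟨⟨⟨⟨⟨⟨h1, h2⟩, h3⟩, h4⟩, h5⟩, h6⟩, h7⟩, h8⟩ := h
  refine ⟨h1, h2, h3, h4, h5, h6, h7, fun e he => ?_⟩
  obtain ⟨⟨⟨⟨⟨⟨a1, a2⟩, a3⟩, a4⟩, a5⟩, a6⟩, a7⟩ := h8 e he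
  exact ⟨a1, a2, a3, a4, a5, fun e0 => a6.resolve_left (fun h0 => h0 e0), a7⟩

theorem chkMove_of_chkRun {psi A keep : List ℕ} {m : ℕ} : ∀ {es : List (ℕ × ℕ)},
    chkRun tabE6 [] psi A keep m es = true → ∀ e ∈ es, chkMove tabE6 [] psi e.1 = true
  | [], _, _, he => absurd he List.not_mem_nil
  | e :: r, h, e', he => by
    obtain ⟨h1, -, -, -, -, -, h7⟩ := chkRun_cons h
    rcases List.mem_cons.1 he with rfl | he
    · exact h1
    · exact chkMove_of_chkRun h7 e' he

theorem Cell.tgt_of (h : d.chk S = true) {e : ℕ × ℕ} (he : e ∈ d.es) :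
    ∃ c : ℤ, tgt tabE6 S e.1 e.2 = some (d.m, c) ∧ c * c = 1 := by
  have key : ∀ {es : List (ℕ × ℕ)}, chkRun tabE6 [] S d.A [d.m] d.m es = true → e ∈ es →
      ∃ c : ℤ, tgt tabE6 S e.1 e.2 = some (d.m, c) ∧ c * c = 1 := by
    intro es
    induction es with
    | nil => intro _ he; exact absurd he List.not_mem_nil
    | cons a r ih =>
      intro h he
      obtain ⟨-, -, h3, -, -, -, h7⟩ := chkRun_cons h
      rcases List.mem_cons.1 he with rfl | he
      · exact h3
      · exact ih h7 he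
  exact key (Cell.spec h).1 he

variable {K : Type*} [Field K] [Fintype K] {q : ℕ}

/-- Parameters of a fixed element. -/
abbrev FPar (K : Type*) [Field K] (q : ℕ) (es : List (ℕ × ℕ)) : Type _ :=
  {s : Par K es // Compat q es (ext0 s)}

/-- A weight of a cell. -/
noncomputable def cpt {es : List (ℕ × ℕ)} (s : Par K es) (φ : Ix S → K) : Ix S → K :=
  run tabE6 es (ext0 s) φ

/-- The coordinate fed by a root. -/
theorem run_target {A : List ℕ} {m : ℕ} : ∀ {es : List (ℕ × ℕ)},
    chkRun tabE6 [] S A [m] m es = true →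
    (∀ e ∈ es, ∀ e' ∈ es, e' = e ∨ outside tabE6 S A e'.1 e.2 = true) →
    ∀ (s : ℕ → K) {φ : Ix S → K}, Supp A φ → ∀ {e : ℕ × ℕ}, e ∈ es → ∀ {c : ℤ},
      tgt tabE6 S e.1 e.2 = some (m, c) →
      co (run tabE6 es s φ) e.2 = co φ e.2 + (c : K) * (-s e.2) * co φ m
  | [], _, _, _, _, _, _, he, _, _ => absurd he List.not_mem_nil
  | a :: r, h, hp, s, φ, hφ, e, he, c, hc => by
    obtain ⟨-, h2, -, -, -, h6, h7⟩ := chkRun_cons h
    have hr := supp_run h7 s hφ
    show co (mv tabE6 a.1 (s a.2) (run tabE6 r s φ)) e.2 = _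
    rcases List.mem_cons.1 he with rfl | he'
    · rw [co_mv_some hc h2, run_other h7 s hφ _ fun x hx => (h6 x hx).1,
        run_keep h7 s hφ m List.mem_cons_self]
    · rcases hp e he a List.mem_cons_self with e0 | ho
      · exact absurd (congrArg Prod.snd e0.symm) (h6 e he').2
      · rw [co_mv_outside ho _ hr, run_target h7
          (fun x hx y hy => hp x (List.mem_cons_of_mem _ hx) y (List.mem_cons_of_mem _ hy)) s hφ he' hc]

theorem cpt_target (h : d.chk S = true) (s : Par K d.es) {φ : Ix S → K} (hφ : Supp d.A φ)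
    {e : ℕ × ℕ} (he : e ∈ d.es) {c : ℤ} (hc : tgt tabE6 S e.1 e.2 = some (d.m, c)) :
    co (cpt s φ) e.2 = co φ e.2 + (c : K) * (-ext0 s e.2) * co φ d.m :=
  run_target (Cell.spec h).1 (fun x hx => ((Cell.spec h).2.2.2.2.2.2.2 x hx).2.2.2.2.2.2) _ hφ he hc

theorem cpt_keep (h : d.chk S = true) (s : Par K d.es) {φ : Ix S → K} (hφ : Supp d.A φ) :
    co (cpt s φ) d.m = co φ d.m :=
  run_keep (Cell.spec h).1 _ hφ d.m List.mem_cons_self

theorem cpt_supp (h : d.chk S = true) (s : Par K d.es) {φ : Ix S → K} (hφ : Supp d.A φ) :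
    Supp d.A (cpt s φ) :=
  supp_run (Cell.spec h).1 _ hφ

variable (f : K →+* K) (hf : ∀ t, f t = t ^ q) (hK : Fintype.card K = q ^ 2)
include hf hK

theorem card_fpar (h : d.chk S = true) : Nat.card (FPar K q d.es) = q ^ d.es.length := by
  classical
  obtain ⟨h1, -, -, -, -, -, hlen, h8⟩ := Cell.spec h
  have hnd := nodup_targets h1
  let T := d.es.map Prod.snd
  have hT : ∀ a ∈ T, twistE6.rt a ∈ T ∧ twistE6.rt (twistE6.rt a) = a ∧
      epT d.es (twistE6.rt a) = epT d.es a ∧ (epT d.es a : K) * epT d.es a = 1 ∧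
      (twistE6.rt a = a → epT d.es a = 1) := fun a ha => by
    obtain ⟨e, he, rfl⟩ := List.mem_map.1 ha
    obtain ⟨a1, a2, a3, a4, a5, a6, -⟩ := h8 e he
    refine ⟨a1, (tw_spec a2).2.1, a4.trans a3.symm, ?_, fun e0 => a3.trans (a6 e0)⟩
    rw [a3]; exact_mod_cast congrArg (fun z : ℤ => (z : K)) a5
  have hcomp : ∀ s : Par K d.es, Compat q d.es (ext0 s) ↔
      ∀ a ∈ T, ext0 s (twistE6.rt a) = (epT d.es a : K) * ext0 s a ^ q := by
    intro s
    constructor
    · intro hs a ha
      obtain ⟨e, he, rfl⟩ := List.mem_map.1 ha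
      rw [(h8 e he).2.2.1]; exact hs e he
    · intro hs e he
      rw [← (h8 e he).2.2.1]; exact hs _ (List.mem_map.2 ⟨e, he, rfl⟩)
  have hfix : ∀ a ∈ fixT d.es, a ∈ T ∧ twistE6.rt a = a := fun a ha => by
    simpa [fixT, T] using ha
  have hlow : ∀ a ∈ lowT d.es, a ∈ T ∧ a < twistE6.rt a := fun a ha => by
    simpa [lowT, T] using ha
  have hval : ∀ (s : Par K d.es) {a : ℕ} (ha : a ∈ T), ext0 s a = s ⟨a, ha⟩ := fun s a ha => by
    rw [ext0, dif_pos ha]
  have key : Nat.card (FPar K q d.es) =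
      Nat.card (({a // a ∈ fixT d.es} → {t : K // t ^ q = t}) × ({a // a ∈ lowT d.es} → K)) := by
    refine Nat.card_eq_of_bijective
      (fun s => (fun a => ⟨ext0 s.1 a, ?_⟩, fun a => ext0 s.1 a)) ⟨?_, ?_⟩
    · obtain ⟨ha, hfx⟩ := hfix a a.2
      have e := (hcomp s.1).1 s.2 a ha
      rw [hfx, (hT a ha).2.2.2.2 hfx, Int.cast_one, one_mul] at e
      exact e.symm
    · intro s s' e
      simp only [Prod.mk.injEq] at e
      refine Subtype.ext (funext fun a => ?_)
      obtain ⟨a, ha⟩ := a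
      rw [← hval s.1 ha, ← hval s'.1 ha]
      rcases lt_trichotomy a (twistE6.rt a) with hl | he | hl
      · exact congrFun e.2 ⟨a, List.mem_filter.2 ⟨ha, decide_eq_true hl⟩⟩
      · exact congrArg Subtype.val (congrFun e.1 ⟨a, List.mem_filter.2 ⟨ha, decide_eq_true he.symm⟩⟩)
      · obtain ⟨hra, hrr, -, -, -⟩ := hT a ha
        have h3 := congrFun e.2 ⟨twistE6.rt a, List.mem_filter.2 ⟨hra, decide_eq_true (by rw [hrr]; exact hl)⟩⟩
        have e1 := (hcomp s.1).1 s.2 _ hra
        have e2 := (hcomp s'.1).1 s'.2 _ hra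
        rw [hrr] at e1 e2
        rw [e1, e2, h3]
    · rintro ⟨x, y⟩
      let val : ℕ → K := fun a =>
        if hl : a ∈ lowT d.es then y ⟨a, hl⟩
        else if hx : a ∈ fixT d.es then (x ⟨a, hx⟩ : K)
        else if hl' : twistE6.rt a ∈ lowT d.es then (epT d.es a : K) * y ⟨twistE6.rt a, hl'⟩ ^ q else 0
      have hv : ∀ a ∈ T, ext0 (fun b : {a // a ∈ d.es.map Prod.snd} => val b) a = val a := fun a ha => by
        rw [ext0, dif_pos ha]
      refine ⟨⟨fun b => val b, (hcomp _).2 fun a ha => ?_⟩, ?_⟩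
      · obtain ⟨hra, hrr, hee, h2, hone⟩ := hT a ha
        rw [hv _ hra, hv _ ha]
        rcases lt_trichotomy a (twistE6.rt a) with hl | he | hl
        · have hal : a ∈ lowT d.es := List.mem_filter.2 ⟨ha, decide_eq_true hl⟩
          have hn1 : twistE6.rt a ∉ lowT d.es := fun h' => by
            have := (hlow _ h').2; rw [hrr] at this; omega
          have hn2 : twistE6.rt a ∉ fixT d.es := fun h' => by
            have := (hfix _ h').2; rw [hrr] at this; omega
          simp only [val, dif_pos hal, dif_neg hn1, dif_neg hn2]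
          rw [dif_pos (show twistE6.rt (twistE6.rt a) ∈ lowT d.es by rw [hrr]; exact hal), hee]
          simp only [hrr]
        · have hn1 : a ∉ lowT d.es := fun h' => by have := (hlow _ h').2; omega
          have hax : a ∈ fixT d.es := List.mem_filter.2 ⟨ha, decide_eq_true he.symm⟩
          simp only [← he, val, dif_neg hn1, dif_pos hax, hone he.symm, Int.cast_one, one_mul]
          exact (x ⟨a, hax⟩).2.symm
        · have hn1 : a ∉ lowT d.es := fun h' => by have := (hlow _ h').2; omega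
          have hn2 : a ∉ fixT d.es := fun h' => by have := (hfix _ h').2; omega
          have hrl : twistE6.rt a ∈ lowT d.es := List.mem_filter.2 ⟨hra, decide_eq_true (by rw [hrr]; exact hl)⟩
          simp only [val, dif_neg hn1, dif_neg hn2, dif_pos hrl]
          rw [mul_pow, int_pow_q f hf, pow_q_q hK, ← mul_assoc, h2, one_mul]
      · refine Prod.ext (funext fun a => Subtype.ext ?_) (funext fun a => ?_)
        · show ext0 _ (a : ℕ) = _
          rw [hv _ (hfix a a.2).1]
          have hn : (a : ℕ) ∉ lowT d.es := fun h' => by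
            have h1 := (hfix a a.2).2
            have h2 := (hlow _ h').2
            omega
          simp [val, hn, a.2]
        · show ext0 _ (a : ℕ) = _
          rw [hv _ (hlow a a.2).1]
          simp [val, a.2]
  rw [key, Nat.card_prod, Nat.card_fun, Nat.card_fun, card_small hK, Nat.card_eq_fintype_card (α := K), hK,
    ← pow_mul, ← pow_add]
  congr 1
  rw [Nat.card_eq_fintype_card, Nat.card_eq_fintype_card,
    Fintype.card_of_subtype (fixT d.es).toFinset fun _ => List.mem_toFinset,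
    Fintype.card_of_subtype (lowT d.es).toFinset fun _ => List.mem_toFinset,
    List.toFinset_card_of_nodup (show (fixT d.es).Nodup from hnd.filter _),
    List.toFinset_card_of_nodup (show (lowT d.es).Nodup from hnd.filter _)]
  exact hlen

theorem cpt_act [IsSet S] (h : d.chk S = true) (s : FPar K q d.es) :
    Act (incl f (elT f hf hK (Cell.spec h).2.1 s.2)) S S (cpt (S := S) s.1) :=
  act_el (chkMove_of_chkRun (Cell.spec h).1) _

theorem cpt_fixed [IsSet S] (h : d.chk S = true) (s : FPar K q d.es) {φ : Ix S → K} (hφ : sg q φ = φ) :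
    sg q (cpt s.1 φ) = cpt s.1 φ :=
  (cpt_act f hf hK h s).fixed f hf hK (hom_incl f _) hφ

/-- The targets can be cleared by a fixed element. -/
theorem clear [IsSet S] (h : d.chk S = true) {φ : Ix S → K} (hφ : sg q φ = φ) (hs : Supp d.A φ)
    (hm : co φ d.m ≠ 0) :
    ∃ (s : FPar K q d.es) (φ₀ : Ix S → K), cpt s.1 φ₀ = φ ∧ sg q φ₀ = φ₀ ∧ Supp d.A φ₀ ∧
      co φ₀ d.m = co φ d.m ∧ ∀ e ∈ d.es, co φ₀ e.2 = 0 := by
  obtain ⟨h1, -, h3, hmS, hrm, hem, -, h8⟩ := Cell.spec h
  obtain ⟨s, φ₀, hrun, hs0, hkeep, hz⟩ := exists_normal (m := d.m) List.mem_cons_self h1 hs hm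
  let s' : Par K d.es := fun a => s a
  have hext : ∀ e ∈ d.es, ext0 s' e.2 = s e.2 := fun e he => by
    rw [ext0, dif_pos (List.mem_map.2 ⟨e, he, rfl⟩)]
  have e1 : cpt s' φ₀ = φ := by rw [cpt, run_congr φ₀ hext, hrun]
  have hmm : co φ₀ d.m = co φ d.m := hkeep _ List.mem_cons_self
  have hcm : co φ d.m ^ q = co φ d.m := by
    have := congrFun hφ ⟨d.m, hmS⟩
    simp only [sg, hrm, hem, Int.cast_one, one_mul] at this
    rw [this, co_of_mem φ hmS]
  have hcompat : Compat q d.es (ext0 s') := by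
    intro e he
    obtain ⟨e', he', hee⟩ := List.mem_map.1 (h8 e he).1
    obtain ⟨c, hc, hcc⟩ := Cell.tgt_of h he
    obtain ⟨c', hc', hcc'⟩ := Cell.tgt_of h he'
    have hsgn : c' * twistE6.ep e.1 = twistE6.ep e.2 * c := by
      have := h3
      simp only [chkSign, List.all_eq_true, Bool.or_eq_true, Bool.not_eq_true', decide_eq_false_iff_not] at this
      have := (this e he e' he').resolve_left (fun h0 => h0 hee)
      simpa [hc, hc'] using this
    have a1 := cpt_target h s' hs0 he hc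
    have a2 := cpt_target h s' hs0 he' hc'
    rw [e1, hz e he, zero_add, hmm] at a1
    rw [e1, hz e' he', zero_add, hmm, hee] at a2
    have heS : e.2 ∈ S := chkRun_mem h1 e he
    have heq : co φ (twistE6.rt e.2) = (twistE6.ep e.2 : K) * co φ e.2 ^ q := by
      have := congrFun hφ ⟨twistE6.rt e.2, (set_spec heS).2.2.1⟩
      simp only [sg, (tw_spec (h8 e he).2.1).2.1, (tw_spec (h8 e he).2.1).2.2.2.1] at this
      rw [co_of_mem φ (set_spec heS).2.2.1, ← this]
    rw [a1, a2, mul_pow, mul_pow, hcm, int_pow_q f hf, ← hf (-_), map_neg, hf] at heq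
    have hsgnK : (c' : K) * twistE6.ep e.1 = twistE6.ep e.2 * c := by
      exact_mod_cast congrArg (fun z : ℤ => (z : K)) hsgn
    have hc0 : (c' : K) ≠ 0 := fun h0 => by
      have h2 := congrArg (fun z : ℤ => (z : K)) hcc'
      simp [h0] at h2
    refine mul_left_cancel₀ (mul_ne_zero hc0 hm) ?_
    linear_combination -heq - co φ d.m * (ext0 s' e.2 ^ q) * hsgnK
  refine ⟨⟨s', hcompat⟩, φ₀, e1, ?_, hs0, hmm, hz⟩
  have hA := cpt_act f hf hK h ⟨s', hcompat⟩
  obtain ⟨Ψ, hl, hinv⟩ := hA.inv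
  rw [show φ₀ = Ψ φ by rw [← hl φ₀, e1]]
  rw [← map_inv] at hinv
  exact hinv.fixed f hf hK (hom_incl f _) hφ

section Family

variable {V : Type*} [AddCommGroup V] [Module ℂ V] [FiniteDimensional ℂ V] {θ : AddChar K ℂ}
  {ρ : Representation ℂ (Tw f) V} {W : Submodule ℂ V} [IsSet S]

theorem finrank_cpt (h : d.chk S = true)
    (hW : ∀ s : FPar K q d.es, Stab f ρ W (elT f hf hK (Cell.spec h).2.1 s.2)) (s : FPar K q d.es)
    (φ : Ix S → K) :
    finrank ℂ (W ⊓ Wt f hf ρ θ S (cpt s.1 φ) : Submodule ℂ V) =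
      finrank ℂ (W ⊓ Wt f hf ρ θ S φ : Submodule ℂ V) :=
  finrank_Wt_eq f hf (hW s) (cpt_act f hf hK h s) φ

/-- Leading coordinates are not allowed in later cells. -/
noncomputable def chkLeads (cs : List Cell) : Bool :=
  decide (cs.Pairwise fun d d' => d.m ∉ d'.A)

/-- Translates of different bases are different weights. -/
theorem family_inj {cs : List Cell} (hcs : ∀ d ∈ cs, d.chk S = true)
    (hl : cs.Pairwise fun d d' => d.m ∉ d'.A) {ι : Type*} (k : ι → Fin cs.length) (b : ι → Ix S → K)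
    (hb : ∀ i, Supp (cs.get (k i)).A (b i) ∧ co (b i) (cs.get (k i)).m ≠ 0 ∧ ∀ e ∈ (cs.get (k i)).es, co (b i) e.2 = 0)
    (hi : ∀ i j, k i = k j → b i = b j → i = j) :
    Function.Injective fun p : Σ i, FPar K q (cs.get (k i)).es => cpt p.2.1 (b p.1) := by
  rintro ⟨i, s⟩ ⟨j, t⟩ e
  simp only at e
  have hm : ∀ (i : ι) (d' : Cell), d' ∈ cs → (cs.get (k i)).m ∉ d'.A → ∀ (j : ι) (u : Par K (cs.get (k j)).es),
      (cs.get (k j)) = d' → co (cpt u (b j)) (cs.get (k i)).m = 0 := fun i d' hd' hn j u e' => by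
    subst e'
    exact cpt_supp (hcs _ hd') u (hb j).1 _ (Cell.spec (hcs _ (List.get_mem cs _))).2.2.2.1 hn
  have hne : ∀ (i : ι) (u : Par K (cs.get (k i)).es), co (cpt u (b i)) (cs.get (k i)).m ≠ 0 := fun i u e => by
    have := cpt_keep (d := (cs.get (k i))) (hcs _ (List.get_mem cs _)) u (hb i).1
    exact (hb i).2.1 (this.symm.trans e)
  have hk : k i = k j := by
    rcases lt_trichotomy (k i) (k j) with hlt | he | hlt
    · refine absurd ?_ (hne i s.1)
      rw [e]
      exact hm i _ (List.get_mem cs _) (List.pairwise_iff_get.1 hl _ _ hlt) j t.1 rfl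
    · exact he
    · refine absurd ?_ (hne j t.1)
      rw [← e]
      exact hm j _ (List.get_mem cs _) (List.pairwise_iff_get.1 hl _ _ hlt) i s.1 rfl
  have key : ∀ (n : Fin cs.length) (hn : k j = n) (u : Par K (cs.get (n)).es),
      cpt u (b j) = cpt s.1 (b i) → n = k i → b i = b j := by
    rintro n hn u e' rfl
    obtain ⟨h1, -⟩ := Cell.spec (hcs _ (List.get_mem cs (k i)))
    have hbj := hb j
    rw [hn] at hbj
    refine ((run_inj (m := (cs.get (k i)).m) List.mem_cons_self h1 (hb i).1 hbj.1 (fun x hx => ?_) ?_ (hb i).2.1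
      (e'.symm : run tabE6 (cs.get (k i)).es (ext0 s.1) (b i) = run tabE6 (cs.get (k i)).es (ext0 u) (b j))).1)
    · rw [(hb i).2.2 x hx, hbj.2.2 x hx]
    · rw [← cpt_keep (hcs _ (List.get_mem cs _)) s.1 (hb i).1, ← e',
        cpt_keep (hcs _ (List.get_mem cs _)) u hbj.1]
  obtain rfl : i = j := hi i j hk (key (k j) rfl t.1 e.symm hk.symm)
  obtain ⟨h1, -⟩ := Cell.spec (hcs _ (List.get_mem cs (k i)))
  have := (run_inj (m := (cs.get (k i)).m) List.mem_cons_self h1 (hb i).1 (hb i).1 (fun _ _ => rfl) rfl (hb i).2.1 e).2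
  rw [Subtype.ext (ext0_inj this) (a1 := s) (a2 := t)]

/-- Families of translates span independent subspaces. -/
theorem family_le (hθ : θ 1 ≠ 1) {cs : List Cell} (hcs : ∀ d ∈ cs, d.chk S = true)
    (hl : cs.Pairwise fun d d' => d.m ∉ d'.A) {ι : Type*} [Fintype ι] (k : ι → Fin cs.length)
    (b : ι → Ix S → K)
    (hb : ∀ i, Supp (cs.get (k i)).A (b i) ∧ co (b i) (cs.get (k i)).m ≠ 0 ∧ ∀ e ∈ (cs.get (k i)).es, co (b i) e.2 = 0)
    (hi : ∀ i j, k i = k j → b i = b j → i = j) (hbf : ∀ i, sg q (b i) = b i)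
    (hW : ∀ (i : ι) (s : FPar K q (cs.get (k i)).es),
      Stab f ρ W (elT f hf hK (Cell.spec (hcs _ (List.get_mem cs (k i)))).2.1 s.2))
    {D : ℕ} (hD : ∀ i, D ≤ finrank ℂ (W ⊓ Wt f hf ρ θ S (b i) : Submodule ℂ V)) :
    (∑ i, q ^ (cs.get (k i)).es.length) * D + finrank ℂ (W ⊓ Wt f hf ρ θ S 0 : Submodule ℂ V) ≤
      finrank ℂ W := by
  classical
  let P := fun p : Σ i, FPar K q (cs.get (k i)).es => cpt p.2.1 (b p.1)
  have hP0 : ∀ p, P p ≠ 0 := fun p e => by
    have h1 := cpt_keep (hcs _ (List.get_mem cs (k p.1))) p.2.1 (hb p.1).1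
    rw [show cpt p.2.1 (b p.1) = 0 from e] at h1
    refine (hb p.1).2.1 (h1.symm.trans ?_)
    rw [co]; split_ifs <;> rfl
  have hinjP : Function.Injective P := family_inj f hf hK hcs hl k b hb hi
  let P' : Option (Σ i, FPar K q (cs.get (k i)).es) → Ix S → K := fun o => o.elim 0 P
  refine le_trans ?_ (sum_wt_le (S := S) (W := W) (ρ := ρ) f hf hK hθ P' (fun o => ?_) ?_)
  rotate_left
  · cases o with
    | none => exact (fixV f hf S).zero_mem
    | some p => exact cpt_fixed f hf hK (hcs _ (List.get_mem cs _)) p.2 (hbf p.1)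
  · rintro (_ | p) (_ | p') e
    · rfl
    · exact absurd e.symm (hP0 p')
    · exact absurd e (hP0 p)
    · exact congrArg some (hinjP e)
  rw [Fintype.sum_option, add_comm]
  refine Nat.add_le_add le_rfl ?_
  rw [Fintype.sum_sigma, Finset.sum_mul]
  refine Finset.sum_le_sum fun i _ => ?_
  rw [← card_fpar f hf hK (hcs _ (List.get_mem cs (k i))), Nat.card_eq_fintype_card,
    ← Finset.card_univ, ← smul_eq_mul, ← Finset.sum_const]
  refine Finset.sum_le_sum fun s _ => ?_
  show D ≤ finrank ℂ (W ⊓ Wt f hf ρ θ S (cpt s.1 (b i)) : Submodule ℂ V)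
  rw [finrank_cpt f hf hK (hcs _ (List.get_mem cs _)) (hW i)]
  exact hD i

end Family

section Orbit

variable {V : Type*} [AddCommGroup V] [Module ℂ V] [FiniteDimensional ℂ V] {θ : AddChar K ℂ}
  {ρ : Representation ℂ (Tw f) V} {W : Submodule ℂ V} {G : List ℕ} [IsSet S] [IsSet G]

/-- Orbit sums are fixed vectors. -/
theorem orbit_le (hθ : θ 1 ≠ 1) (hW : ∀ a, Stab f ρ W (rg f hf G a))
    {Φ : fixV f hf G → (Ix S → K) → (Ix S → K)} (hΦ : ∀ a, Act (incl f (rg f hf G a)) S S (Φ a))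
    (h0 : W ⊓ Wt f hf ρ θ S 0 ≤ Wt f hf ρ θ G 0) {ι : Type*} [Fintype ι] (φ : ι → Ix S → K)
    (hφ : ∀ i, sg q (φ i) = φ i) (hφ0 : ∀ i, φ i ≠ 0)
    (hne : ∀ i, W ⊓ Wt f hf ρ θ S (φ i) ≠ ⊥)
    (hi : Function.Injective fun p : ι × fixV f hf G => Φ p.2 (φ p.1)) :
    Fintype.card ι + finrank ℂ (W ⊓ Wt f hf ρ θ S 0 : Submodule ℂ V) ≤
      finrank ℂ (W ⊓ Wt f hf ρ θ G 0 : Submodule ℂ V) := by
  classical
  choose v hv hv0 using fun i => (Submodule.ne_bot_iff _).1 (hne i)
  let u : ι → V := fun i => ∑ a, ρ (rg f hf G a) (v i)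
  have hu : ∀ i, u i ∈ W ⊓ Wt f hf ρ θ G 0 := fun i =>
    ⟨W.sum_mem fun a _ => hW a _ (hv i).1, (mem_Wt_zero f hf).2 fun b => by
      rw [map_sum]
      refine Fintype.sum_equiv (Equiv.addLeft b) _ _ fun a => ?_
      rw [← Module.End.mul_apply, ← map_mul, ← rg_add, Equiv.coe_addLeft]⟩
  let L : ((ι → ℂ) × (W ⊓ Wt f hf ρ θ S 0 : Submodule ℂ V)) →ₗ[ℂ]
      (W ⊓ Wt f hf ρ θ G 0 : Submodule ℂ V) :=
    LinearMap.coprod (∑ i, LinearMap.toSpanSingleton ℂ _ (⟨u i, hu i⟩ : (W ⊓ Wt f hf ρ θ G 0 : Submodule ℂ V))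
      ∘ₗ LinearMap.proj i)
      (Submodule.inclusion fun w hw => ⟨hw.1, h0 hw⟩)
  have hL : ∀ c x, (L (c, x) : V) = (∑ i, c i • u i) + (x : V) := fun c x => by
    simp [L, LinearMap.sum_apply]
    rfl
  have hinj : Function.Injective L := by
    rw [← LinearMap.ker_eq_bot, LinearMap.ker_eq_bot']
    rintro ⟨c, x⟩ h
    have h' := congrArg Subtype.val h
    rw [hL] at h'
    have hc : c = 0 := funext fun i => by
      set ξ : AddChar (fixV f hf S) ℂ := chi f θ hf (Φ 0 (φ i))
      have hp : ∀ {χ : Ix S → K}, sg q χ = χ → ∀ {w : V}, w ∈ Wt f hf ρ θ S χ →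
          SUMinDegree.proj ρ (rg f hf S) ξ w =
            (if χ = Φ 0 (φ i) then (Fintype.card (fixV f hf S) : ℂ) else 0) • w := by
        intro χ hχ w hw
        rw [proj_of_weight ρ (T := rg f hf S) ξ (chi f θ hf χ) hw]
        congr 1
        by_cases e : χ = Φ 0 (φ i)
        · rw [if_pos e, if_pos (by rw [e])]
        · rw [if_neg e, if_neg fun e' =>
            e (chi_injective f hf hK hθ hχ ((hΦ 0).fixed f hf hK (hom_incl f _) (hφ i)) e')]
      have hlin : ∀ a b : V, SUMinDegree.proj ρ (rg f hf S) ξ (a + b) =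
          SUMinDegree.proj ρ (rg f hf S) ξ a + SUMinDegree.proj ρ (rg f hf S) ξ b := fun a b => by
        simp only [SUMinDegree.proj, map_add, smul_add, Finset.sum_add_distrib]
      let P : V →ₗ[ℂ] V :=
        { toFun := SUMinDegree.proj ρ (rg f hf S) ξ
          map_add' := hlin
          map_smul' := fun r a => by
            simp only [SUMinDegree.proj, map_smul, RingHom.id_apply, Finset.smul_sum, smul_comm r] }
      have hP := congrArg P h'
      simp only [map_add, map_sum, map_smul, map_zero, u, ZeroMemClass.coe_zero] at hP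
      have hne0 : (0 : Ix S → K) ≠ Φ 0 (φ i) := fun e => by
        obtain ⟨Ψ, hl, hA⟩ := (hΦ 0).inv
        exact hφ0 i (by rw [← hl (φ i), ← e, hA.map_zero])
      rw [show P (x : V) = 0 by
        show SUMinDegree.proj ρ _ ξ (x : V) = 0
        rw [hp (show sg q (0 : Ix S → K) = 0 from (fixV f hf S).zero_mem) x.2.2, if_neg hne0, zero_smul],
        add_zero] at hP
      have hterm : ∀ j a, P (ρ (rg f hf G a) (v j)) =
          (if j = i ∧ a = 0 then (Fintype.card (fixV f hf S) : ℂ) else 0) • ρ (rg f hf G a) (v j) := by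
        intro j a
        show SUMinDegree.proj ρ _ ξ _ = _
        rw [hp ((hΦ a).fixed f hf hK (hom_incl f _) (hφ j)) (rho_mem_Wt f hf (hΦ a) (hv j).2)]
        congr 1
        by_cases e : j = i ∧ a = 0
        · rw [if_pos e, if_pos (by rw [e.1, e.2])]
        · rw [if_neg e, if_neg fun e' => e (Prod.ext_iff.1 (hi (a₁ := (j, a)) (a₂ := (i, 0)) e'))]
      rw [Finset.sum_eq_single i (fun j _ hj => by
        rw [Finset.sum_eq_zero fun a _ => by rw [hterm, if_neg fun e => hj e.1, zero_smul], smul_zero])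
        (fun h => absurd (Finset.mem_univ _) h),
        Finset.sum_eq_single 0 (fun a _ ha => by rw [hterm, if_neg fun e => ha e.2, zero_smul])
        (fun h => absurd (Finset.mem_univ _) h), hterm, if_pos ⟨rfl, rfl⟩, smul_smul] at hP
      have hv0' : ρ (rg f hf G 0) (v i) ≠ 0 := fun e =>
        hv0 i (rho_injective f (ρ := ρ) _ (e.trans (map_zero _).symm))
      exact (mul_eq_zero.1 ((smul_eq_zero.1 hP).resolve_right hv0')).resolve_right
        (Nat.cast_ne_zero.2 Fintype.card_ne_zero)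
    subst hc
    simp only [Pi.zero_apply, zero_smul, Finset.sum_const_zero, zero_add, ZeroMemClass.coe_zero] at h'
    exact Prod.ext rfl (Subtype.ext h')
  have := LinearMap.finrank_le_finrank_of_injective hinj
  rwa [finrank_prod, finrank_fintype_fun_eq_card] at this

end Orbit

end CfsgLib.TwE6MinDeg
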