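import Cfsg.Agent.Lib.TwE6MinDeg.Elems

/-!
Reaching the top coordinate of a level, scaling, and the dimensions along the singular orbit.
-/

set_option autoImplicit false
set_option linter.unusedSectionVars false
set_option maxRecDepth 100000

namespace CfsgLib.TwE6MinDeg

open Module Cfsg.Lie CfsgLib.Chev CfsgLib.EMinDeg CfsgLib.SUMinDegree

variable {K : Type*} [Field K] {S : List ℕ}

/-- A weight at one coordinate. -/
def one (S : List ℕ) (m : ℕ) (a : K) : Ix S → K := fun b => if (b : ℕ) = m then a else 0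

/-- A weight at two coordinates. -/
def two (S : List ℕ) (m : ℕ) (a : K) (o : ℕ) (c : K) : Ix S → K :=
  fun b => if (b : ℕ) = m then a else if (b : ℕ) = o then c else 0

theorem co_one {m b : ℕ} (hb : b ∈ S) (a : K) : co (one S m a) b = if b = m then a else 0 := by
  rw [co_of_mem _ hb]; rfl

theorem co_two {m o b : ℕ} (hb : b ∈ S) (a c : K) :
    co (two S m a o c) b = if b = m then a else if b = o then c else 0 := by
  rw [co_of_mem _ hb]; rfl

theorem two_zero (m o : ℕ) (a : K) : two S m a o 0 = one S m a := by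
  funext b
  simp [two, one]

theorem supp_one {A : List ℕ} {m : ℕ} (hm : m ∈ A) (a : K) : Supp A (one S m a) := fun b hb hn => by
  rw [co_one hb, if_neg]
  rintro rfl
  exact hn hm

theorem supp_two {A : List ℕ} {m o : ℕ} (hm : m ∈ A) (ho : o ∈ A) (a c : K) :
    Supp A (two S m a o c) := fun b hb hn => by
  rw [co_two hb, if_neg, if_neg] <;> rintro rfl
  exacts [hn ho, hn hm]

variable [Fintype K] {q : ℕ}

theorem int_ne_zero {n : ℤ} (h : n * n = 1) : (n : K) ≠ 0 := fun h0 => by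
  have := congrArg (fun z : ℤ => (z : K)) h
  simp [h0] at this

/-- A fixed root with sign one. -/
noncomputable def chkLong (S : List ℕ) (m : ℕ) : Bool :=
  decide (m ∈ S) && decide (twistE6.rt m = m) && decide (twistE6.ep m = 1)

theorem long_spec {m : ℕ} (h : chkLong S m = true) :
    m ∈ S ∧ twistE6.rt m = m ∧ twistE6.ep m = 1 := by
  simpa [chkLong, and_assoc] using h

theorem co_fixed {φ : Ix S → K} (hφ : sg q φ = φ) {m : ℕ} (h : chkLong S m = true) :
    co φ m ^ q = co φ m := by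
  obtain ⟨hm, hr, he⟩ := long_spec h
  have := congrFun hφ ⟨m, hm⟩
  simp only [sg, hr, he, Int.cast_one, one_mul] at this
  rw [this, co_of_mem φ hm]

variable (f : K →+* K) (hf : ∀ t, f t = t ^ q) (hK : Fintype.card K = q ^ 2)
include hf

theorem sg_two [IsSet S] {m o : ℕ} (hm : chkLong S m = true) (ho : chkLong S o = true) {a c : K}
    (ha : a ^ q = a) (hc : c ^ q = c) : sg q (two S m a o c) = two S m a o c := by
  obtain ⟨hmS, hmr, hme⟩ := long_spec hm
  obtain ⟨hoS, hor, hoe⟩ := long_spec ho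
  funext b
  have hb := set_spec b.2
  have hiff : ∀ x, twistE6.rt x = x → ((twistE6.rt b : ℕ) = x ↔ (b : ℕ) = x) := fun x hx =>
    ⟨fun e => by rw [← (tw_spec hb.2.1).2.1, e, hx], fun e => by rw [e, hx]⟩
  show (twistE6.ep b : K) * co (two S m a o c) (twistE6.rt b) ^ q = _
  rw [co_two hb.2.2.1]
  simp only [two, hiff m hmr, hiff o hor]
  split_ifs with h1 h2
  · rw [h1, hme, ha, Int.cast_one, one_mul]
  · rw [h2, hoe, hc, Int.cast_one, one_mul]
  · rw [zero_pow_q f hf, mul_zero]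

theorem sg_one [IsSet S] {m : ℕ} (hm : chkLong S m = true) {a : K} (ha : a ^ q = a) :
    sg q (one S m a) = one S m a := by
  rw [← two_zero m m]
  exact sg_two f hf hm hm ha (zero_pow_q f hf)

section Stabilizers

variable {V : Type*} [AddCommGroup V] [Module ℂ V] {θ : AddChar K ℂ} {ρ : Representation ℂ (Tw f) V}
  {S2 : List ℕ} [IsSet S] [IsSet S2]

theorem rg_stab (h : ∀ a ∈ S, a ∈ S2) (φ : Ix S → K) (a : fixV f hf S2) :
    Stab f ρ (Wt f hf ρ θ S φ) (rg f hf S2 a) := by
  intro w hw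
  rw [mem_Wt] at hw ⊢
  intro b
  have e : rg f hf S b * rg f hf S2 a = rg f hf S2 a * rg f hf S b := incl_injective f (by
    rw [map_mul, map_mul, incl_rg, incl_rg, ← yy_ext h, ← AddChar.map_add_eq_mul,
      ← AddChar.map_add_eq_mul, add_comm])
  rw [← Module.End.mul_apply, ← map_mul, e, map_mul, Module.End.mul_apply, hw, map_smul]

/-- The diagonal sequence of a list. -/
def diag (G : List ℕ) : List (ℕ × ℕ) := G.map fun g => (g, g)

theorem act_rg {G : List ℕ} [IsSet G] (h : (G.all fun g => chkMove tabE6 [] S g) = true)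
    (a : fixV f hf G) :
    Act (incl f (rg f hf G a)) S S (run tabE6 (diag G) (co (a : Ix G → K))) := by
  have e : incl f (rg f hf G a) = el (diag G) (co (a : Ix G → K)) := Subtype.ext (by
    rw [incl_rg, yy_eq_prodX, el, SubmonoidClass.coe_list_prod, prodX, diag, List.map_map, List.map_map]
    exact congrArg List.prod (List.map_congr_left fun g hg => by
      simp only [Function.comp_apply, coe_xr certE6 (set_spec hg).2.1]))
  rw [e]
  refine act_el (fun x hx => ?_) _
  obtain ⟨g, hg, rfl⟩ := List.mem_map.1 hx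
  exact List.all_eq_true.1 h g hg

theorem rg_stab_zero {G : List ℕ} [IsSet G] (h : (G.all fun g => chkMove tabE6 [] S g) = true)
    (a : fixV f hf G) : Stab f ρ (Wt f hf ρ θ S 0) (rg f hf G a) :=
  stab_wt_zero f hf (act_rg f hf h a)

include hK

theorem elT_stab_zero {es : List (ℕ × ℕ)} (hb : chkBlocks es = true)
    (h : (es.all fun e => chkMove tabE6 [] S e.1) = true) {s : ℕ → K} (hs : Compat q es s) :
    Stab f ρ (Wt f hf ρ θ S 0) (elT f hf hK hb hs) :=
  stab_wt_zero f hf (Φ := run tabE6 es s) (act_el (fun x hx => List.all_eq_true.1 h x hx) s)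

omit hK in
theorem wel_stab_zero {g : Tw f} {w : List ℕ} (hg : IsWel f g w) (h : chkInto w S S = true) :
    Stab f ρ (Wt f hf ρ θ S 0) g := by
  obtain ⟨c, -, hA⟩ := hg.act f h
  exact stab_wt_zero f hf hA

end Stabilizers

section Top

variable {V : Type*} [AddCommGroup V] [Module ℂ V] [FiniteDimensional ℂ V] {θ : AddChar K ℂ}
  {ρ : Representation ℂ (Tw f) V} {W : Submodule ℂ V} [IsSet S]
include hK

omit hf hK in
/-- A pair feeds the coordinate `z`. -/
noncomputable def chkFeed (S : List ℕ) (z : ℕ) (e e' : ℕ × ℕ) : Bool :=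
  decide (z ∈ S) && chkBlocks [e, e'] &&
    decide (twistE6.rt e.1 = e'.1) && decide (twistE6.rt e.2 = e'.2) && decide (twistE6.rt e'.2 = e.2) &&
    decide (e'.2 ≠ e.2) && decide (twistE6.ep e.1 * twistE6.ep e.1 = 1) &&
    decide (twistE6.ep e'.1 = twistE6.ep e.1) && chkMove tabE6 [] S e.1 && chkMove tabE6 [] S e'.1 &&
    (match tgt tabE6 S e.1 z, tgt tabE6 S e'.1 z with
    | some kc, some kc' => decide (kc.1 = e.2) && decide (kc'.1 = e'.2) && decide (kc.2 * kc.2 = 1) &&
        decide (kc'.2 * twistE6.ep e.1 = twistE6.ep e.2 * kc.2)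
    | _, _ => false)

theorem exists_feed {z : ℕ} {e e' : ℕ × ℕ} (h : chkFeed S z e e' = true) {φ : Ix S → K}
    (hφ : sg q φ = φ) (hk0 : co φ e.2 ≠ 0) (hz0 : co φ z = 0)
    (hmid : ∀ kc, tgt tabE6 S e'.1 e.2 = some kc → co φ kc.1 = 0) :
    ∃ (hb : chkBlocks [e, e'] = true) (s : ℕ → K) (hs : Compat q [e, e'] s),
      co (run tabE6 [e, e'] s φ) z ≠ 0 ∧
        Act (incl f (elT f hf hK hb hs)) S S (run tabE6 [e, e'] s) := by
  classical
  simp only [chkFeed, Bool.and_eq_true, decide_eq_true_eq] at h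
  obtain ⟨⟨⟨⟨⟨⟨⟨⟨⟨⟨hz, hb⟩, hg'⟩, hk'⟩, hk''⟩, hkne⟩, hee⟩, hee'⟩, hm1⟩, hm2⟩, hmatch⟩ := h
  cases h1 : tgt tabE6 S e.1 z with
  | none => rw [h1] at hmatch; exact absurd hmatch (by simp)
  | some kc =>
    cases h2 : tgt tabE6 S e'.1 z with
    | none => rw [h1, h2] at hmatch; exact absurd hmatch (by simp)
    | some kc' =>
      obtain ⟨k, c⟩ := kc
      obtain ⟨k', c'⟩ := kc'
      simp only [h1, h2, Bool.and_eq_true, decide_eq_true_eq] at hmatch
      obtain ⟨⟨⟨rfl, rfl⟩, hcc⟩, hsgn⟩ := hmatch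
      have hkS : e.2 ∈ S := (tgt_mem h1).1
      obtain ⟨u, hu⟩ := exists_trace_one hK hf
      let t : K := u / ((c : K) * co φ e.2)
      let s : ℕ → K := fun a => if a = e.2 then t else (twistE6.ep e.1 : K) * t ^ q
      have hkk : e'.2 ≠ e.2 := hkne
      have hse : s e.2 = t := if_pos rfl
      have hse' : s e'.2 = (twistE6.ep e.1 : K) * t ^ q := if_neg hkk
      have hcomp : Compat q [e, e'] s := by
        intro x hx
        simp only [List.mem_cons, List.not_mem_nil, or_false] at hx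
        rcases hx with rfl | rfl
        · rw [hk', hse', hse]
        · rw [hk'', hse', hse, hee', mul_pow, int_pow_q f hf, pow_q_q hK, ← mul_assoc,
            show (twistE6.ep e.1 : K) * twistE6.ep e.1 = 1 by
              exact_mod_cast congrArg (fun z : ℤ => (z : K)) hee, one_mul]
      refine ⟨hb, s, hcomp, ?_, act_el (fun x hx => by
        simp only [List.mem_cons, List.not_mem_nil, or_false] at hx
        rcases hx with rfl | rfl <;> assumption) s⟩
      have hkeep : co (mv tabE6 e'.1 (s e'.2) φ) e.2 = co φ e.2 := by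
        cases hn : tgt tabE6 S e'.1 e.2 with
        | none => rw [co_mv_none hn]
        | some kc => obtain ⟨k, c⟩ := kc; rw [co_mv_some hn hkS, hmid _ hn, mul_zero, add_zero]
      show co (mv tabE6 e.1 (s e.2) (mv tabE6 e'.1 (s e'.2) φ)) z ≠ 0
      rw [co_mv_some h1 hz, co_mv_some h2 hz, hkeep, hz0, hse, hse']
      have hconj : co φ e'.2 = (twistE6.ep e.2 : K) * co φ e.2 ^ q := by
        rw [← hk']
        have := congrFun hφ ⟨twistE6.rt e.2, (set_spec hkS).2.2.1⟩
        simp only [sg, (tw_spec (set_spec hkS).2.1).2.1, (tw_spec (set_spec hkS).2.1).2.2.2.1] at this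
        rw [co_of_mem φ (set_spec hkS).2.2.1, ← this]
      have hsgnK : (c' : K) * twistE6.ep e.1 = twistE6.ep e.2 * c := by
        exact_mod_cast congrArg (fun z : ℤ => (z : K)) hsgn
      have hc0 := int_ne_zero (K := K) hcc
      have hu' : (c : K) * t * co φ e.2 = u := by simp only [t]; field_simp
      have hee2 : (twistE6.ep e.2 : K) * twistE6.ep e.2 = 1 := by
        exact_mod_cast congrArg (fun z : ℤ => (z : K)) (tw_spec (set_spec hkS).2.1).2.2.2.2
      intro hh
      have hval : (0 : K) + (c' : K) * (-((twistE6.ep e.1 : K) * t ^ q)) * co φ e'.2 +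
          (c : K) * (-t) * co φ e.2 = -1 := by
        rw [hconj]
        have : ((c : K) * t * co φ e.2) ^ q = (c : K) * t ^ q * co φ e.2 ^ q := by
          rw [mul_pow, mul_pow, int_pow_q f hf]
        rw [hu'] at this
        linear_combination -hu + this - hu' - (t ^ q * co φ e.2 ^ q * twistE6.ep e.2) * hsgnK -
          (t ^ q * co φ e.2 ^ q * c) * hee2
      rw [hval] at hh
      exact one_ne_zero (neg_eq_zero.1 hh)


omit hf hK in
/-- The long coordinates go to `z` by words, the short ones feed it. -/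
noncomputable def chkTop (S : List ℕ) (z : ℕ) (Lg : List (ℕ × List ℕ)) (es : List (ℕ × ℕ)) : Bool :=
  (Lg.all fun l => chkWel l.2 && chkInto l.2 S S && decide (rword tabE6 l.2.reverse z = l.1)) &&
    (match es with
    | [e, e'] => chkFeed S z e e' &&
        (match tgt tabE6 S e'.1 e.2 with
        | some kc => decide (kc.1 ∈ Lg.map Prod.fst)
        | none => true) &&
        S.all fun a => decide (a = z) || decide (a ∈ Lg.map Prod.fst) || decide (a = e.2) || decide (a = e'.2)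
    | _ => false)

theorem exists_top {z : ℕ} {Lg : List (ℕ × List ℕ)} {es : List (ℕ × ℕ)} (h : chkTop S z Lg es = true)
    (hwel : ∀ l ∈ Lg, ∀ g : Tw f, IsWel f g l.2 → Stab f ρ W g)
    (hel : ∀ (hb : chkBlocks es = true) {s : ℕ → K} (hs : Compat q es s),
      Stab f ρ W (elT f hf hK hb hs))
    {φ : Ix S → K} (hφ : sg q φ = φ) (hφ0 : φ ≠ 0) (hne : W ⊓ Wt f hf ρ θ S φ ≠ ⊥) :
    ∃ χ : Ix S → K, sg q χ = χ ∧ co χ z ≠ 0 ∧ W ⊓ Wt f hf ρ θ S χ ≠ ⊥ := by
  classical
  have key : ∀ (g : Tw f) (Φ : (Ix S → K) → (Ix S → K)), Stab f ρ W g → Act (incl f g) S S Φ →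
      sg q (Φ φ) = Φ φ ∧ W ⊓ Wt f hf ρ θ S (Φ φ) ≠ ⊥ := fun g Φ hs hA =>
    ⟨hA.fixed f hf hK (hom_incl f g) hφ, fun e => hne (Submodule.finrank_eq_zero.1 (by
      rw [← finrank_Wt_eq f hf hs hA φ, e, finrank_bot]))⟩
  simp only [chkTop, Bool.and_eq_true, List.all_eq_true, decide_eq_true_eq] at h
  obtain ⟨hL, hm⟩ := h
  obtain ⟨e, e', rfl⟩ : ∃ e e', es = [e, e'] := by
    match es, hm with
    | [e, e'], _ => exact ⟨e, e', rfl⟩
  simp only [Bool.and_eq_true, Bool.or_eq_true, decide_eq_true_eq, List.all_eq_true] at hm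
  obtain ⟨⟨hfeed, hnone⟩, hcover⟩ := hm
  have hfs := hfeed
  simp only [chkFeed, Bool.and_eq_true, decide_eq_true_eq] at hfs
  obtain ⟨⟨⟨⟨⟨⟨⟨⟨⟨⟨hz, -⟩, -⟩, hk'⟩, -⟩, -⟩, -⟩, -⟩, -⟩, -⟩, -⟩ := hfs
  by_cases hz0 : co φ z ≠ 0
  · exact ⟨φ, hφ, hz0, hne⟩
  rw [not_not] at hz0
  by_cases hlong : ∃ l ∈ Lg, co φ l.1 ≠ 0
  · obtain ⟨l, hl, hl0⟩ := hlong
    obtain ⟨⟨hw, hinto⟩, hrw⟩ := hL l hl
    obtain ⟨g, hg⟩ := exists_wel f hf hK hw
    obtain ⟨c, hc, hA⟩ := hg.act f hinto
    obtain ⟨h1, h2⟩ := key g _ (hwel l hl g hg) hA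
    refine ⟨_, h1, ?_, h2⟩
    rw [co_of_mem _ hz]
    exact mul_ne_zero (hc _) (by rw [hrw]; exact hl0)
  push Not at hlong
  have hk0 : co φ e.2 ≠ 0 := by
    intro h0
    refine hφ0 (co_ext fun a ha => ?_)
    rw [co_of_mem (0 : Ix S → K) ha, Pi.zero_apply]
    rcases hcover a ha with ((e1 | e1) | e1) | e1
    · rw [e1]; exact hz0
    · obtain ⟨l, hl, rfl⟩ := List.mem_map.1 e1; exact hlong l hl
    · rw [e1]; exact h0
    · subst e1
      have hr : twistE6.rt e'.2 = e.2 := by
        have := hfeed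
        simp only [chkFeed, Bool.and_eq_true, decide_eq_true_eq] at this
        exact this.1.1.1.1.1.1.2
      have := congrFun hφ ⟨e'.2, ha⟩
      simp only [sg, hr, h0, zero_pow_q f hf, mul_zero] at this
      rw [co_of_mem φ ha, ← this]
  obtain ⟨hb, s, hs, hne0, hA⟩ := exists_feed f hf hK hfeed hφ hk0 hz0
    (fun kc e0 => by
      rw [e0] at hnone
      obtain ⟨l, hl, e1⟩ := List.mem_map.1 (of_decide_eq_true hnone)
      rw [← e1]; exact hlong l hl)
  obtain ⟨h3, h4⟩ := key _ _ (hel hb hs) hA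
  exact ⟨_, h3, hne0, h4⟩

end Top

end CfsgLib.TwE6MinDeg
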