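import Cfsg.Agent.Lib.EMinDeg.Run
import Cfsg.Agent.Lib.SUMinDegree.Eigen
import Cfsg.Agent.Lib.Chev.TwistE6

/-!
Abelian root groups of `²E₆(q)`, their characters and the action of normalising elements on them.
-/

set_option autoImplicit false
set_option linter.unusedSectionVars false
set_option maxRecDepth 100000

namespace CfsgLib.TwE6MinDeg

open Module Cfsg.Lie CfsgLib.Chev CfsgLib.EMinDeg

/-- A stable list of positive roots commuting pairwise. -/
noncomputable def chkSet (S : List ℕ) : Bool :=
  decide (S.Pairwise (· < ·)) && S.all fun a =>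
    decide (tabE6.half ≤ a) && decide (a < tabE6.n) && decide (twistE6.rt a ∈ S) &&
      S.all fun b => chkTerms tabE6 [] a b

theorem chkTwistTab : ((List.range tabE6.n).all fun r =>
    decide (twistE6.rt r < tabE6.n ∧ twistE6.rt (twistE6.rt r) = r ∧ twistE6.dg r = 1 ∧
      twistE6.ep (twistE6.rt r) = twistE6.ep r ∧ twistE6.ep r * twistE6.ep r = 1)) = true := by
  decide +kernel

theorem tw_spec {r : ℕ} (hr : r < tabE6.n) :
    twistE6.rt r < tabE6.n ∧ twistE6.rt (twistE6.rt r) = r ∧ twistE6.dg r = 1 ∧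
      twistE6.ep (twistE6.rt r) = twistE6.ep r ∧ twistE6.ep r * twistE6.ep r = 1 := by
  have := chkTwistTab
  simp only [List.all_eq_true, List.mem_range, decide_eq_true_eq] at this
  exact this r hr

/-- The hypotheses on a list of roots. -/
class IsSet (S : List ℕ) : Prop where
  chk : chkSet S = true

variable {S S' : List ℕ}

theorem set_spec [hS : IsSet S] {a : ℕ} (ha : a ∈ S) :
    tabE6.half ≤ a ∧ a < tabE6.n ∧ twistE6.rt a ∈ S ∧ ∀ b ∈ S, chkTerms tabE6 [] a b = true := by
  have h := hS.chk
  simp only [chkSet, Bool.and_eq_true, decide_eq_true_eq, List.all_eq_true] at h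
  obtain ⟨⟨⟨h1, h2⟩, h3⟩, h4⟩ := h.2 a ha
  exact ⟨h1, h2, h3, h4⟩

theorem set_sorted [hS : IsSet S] : S.SortedLT := by
  have h := hS.chk
  simp only [chkSet, Bool.and_eq_true, decide_eq_true_eq] at h
  exact h.1.sortedLT

variable (K : Type*) [Field K]

/-- The group of the split type. -/
abbrev Amb : Type _ := Gp chevE6 K

variable {K}

/-- The parametrisation of an abelian root group. -/
noncomputable def yy (S : List ℕ) [IsSet S] : AddChar (Ix S → K) (Amb K) :=
  let φ : (Ix S → Multiplicative K) →* Amb K :=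
    MonoidHom.noncommPiCoprod
      (fun a : Ix S => (xr certE6 (a : ℕ) (F := K)).toMonoidHom)
      (fun a b _ t u => xr_comm certE6 (set_spec a.2).2.1 (set_spec b.2).2.1
        ((set_spec a.2).2.2.2 b b.2) t.toAdd u.toAdd)
  { toFun := fun v => φ fun a => Multiplicative.ofAdd (v a)
    map_zero_eq_one' := map_one φ
    map_add_eq_mul' := fun v u =>
      map_mul φ (fun a => Multiplicative.ofAdd (v a)) fun a => Multiplicative.ofAdd (u a) }

theorem yy_single [IsSet S] (a : Ix S) (t : K) : yy S (Pi.single a t) = xr certE6 (a : ℕ) t := by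
  show (MonoidHom.noncommPiCoprod (fun a : Ix S => (xr certE6 (a : ℕ) (F := K)).toMonoidHom) (fun a b _ t u => xr_comm certE6 (set_spec a.2).2.1 (set_spec b.2).2.1 ((set_spec a.2).2.2.2 b b.2) t.toAdd u.toAdd))
    (fun b => Multiplicative.ofAdd ((Pi.single a t : Ix S → K) b)) = _
  rw [show (fun b => Multiplicative.ofAdd ((Pi.single a t : Ix S → K) b)) =
      Pi.mulSingle a (Multiplicative.ofAdd t) from funext fun b => by
    by_cases hb : b = a
    · subst hb; simp
    · simp [hb]]
  exact MonoidHom.noncommPiCoprod_mulSingle (ϕ := fun a : Ix S => (xr certE6 (a : ℕ) (F := K)).toMonoidHom) _ _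

theorem addChar_ext {M : Type*} [Monoid M] {ι : Type*} [Fintype ι] [DecidableEq ι]
    {φ χ : AddChar (ι → K) M} (h : ∀ a t, φ (Pi.single a t) = χ (Pi.single a t)) : φ = χ := by
  refine DFunLike.ext _ _ fun v => ?_
  suffices key : ∀ l : Finset ι, φ (∑ a ∈ l, Pi.single a (v a)) = χ (∑ a ∈ l, Pi.single a (v a)) by
    have := key Finset.univ
    rwa [Finset.univ_sum_single] at this
  intro l
  induction l using Finset.induction_on with
  | empty => simp
  | insert a l ha ih => rw [Finset.sum_insert ha, AddChar.map_add_eq_mul, AddChar.map_add_eq_mul, h, ih]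

theorem addChar_list_sum {A M : Type*} [AddMonoid A] [Monoid M] (φ : AddChar A M) :
    ∀ l : List A, φ l.sum = (l.map φ).prod
  | [] => by simp
  | a :: l => by
    rw [List.sum_cons, AddChar.map_add_eq_mul, addChar_list_sum φ l, List.map_cons, List.prod_cons]

theorem yy_eq_prodX [IsSet S] (v : Ix S → K) :
    ((yy S v : Amb K) : GL chevE6.Idx K) = prodX chevE6 S fun r => co v r := by
  classical
  have hnd : S.Nodup := (set_sorted (S := S)).nodup
  have e : (S.attach.map fun a => (Pi.single a (v a) : Ix S → K)).sum = v := by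
    rw [← List.sum_toFinset _ (List.nodup_attach.2 hnd)]
    conv_rhs => rw [← Finset.univ_sum_single v]
    exact Finset.sum_congr (Finset.eq_univ_iff_forall.2 fun a => by simp) fun _ _ => rfl
  conv_lhs => rw [← e]
  rw [addChar_list_sum, SubmonoidClass.coe_list_prod, prodX, List.map_map, List.map_map]
  rw [← List.attach_map_val (l := S) (f := fun r => X chevE6 r (co v r))]
  refine congrArg List.prod (List.map_congr_left fun a _ => ?_)
  simp only [Function.comp_apply, yy_single]
  rw [coe_xr certE6 (set_spec a.2).2.1, co_of_mem v a.2]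

theorem yy_injective [IsSet S] : Function.Injective (yy S (K := K)) := by
  intro v u e
  have e' := congrArg Subtype.val e
  rw [yy_eq_prodX, yy_eq_prodX] at e'
  refine co_ext fun a ha => certE6.prodX_inj S set_sorted (fun r hr => ?_) _ _ e' a ha
  exact ⟨(set_spec hr).1, (set_spec hr).2.1⟩

variable [Fintype K] (q : ℕ)

/-- The twisted parameters. -/
def sg {S : List ℕ} (v : Ix S → K) : Ix S → K := fun a =>
  (twistE6.ep a : K) * co v (twistE6.rt a) ^ q

variable {q} (f : K →+* K) (hf : ∀ t, f t = t ^ q)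
include hf

theorem τ_eq {r : ℕ} (hr : r < tabE6.n) (t : K) :
    (endoE6 f).τ r t = (twistE6.ep r : K) * t ^ q := by
  show (twistE6.ep r : K) * f t ^ twistE6.dg r = _
  rw [(tw_spec hr).2.2.1, pow_one, hf]

theorem pow_add_q (a b : K) : (a + b) ^ q = a ^ q + b ^ q := by rw [← hf, ← hf, ← hf, map_add]

theorem zero_pow_q : (0 : K) ^ q = 0 := by rw [← hf, map_zero]

theorem one_pow_q : (1 : K) ^ q = 1 := by rw [← hf, map_one]

theorem int_pow_q (n : ℤ) : (n : K) ^ q = n := by rw [← hf, map_intCast]

theorem sg_add [IsSet S] (v u : Ix S → K) : sg q (v + u) = sg q v + sg q u := by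
  funext a
  have ha := (set_spec a.2).2.2.1
  simp only [sg, Pi.add_apply, co_of_mem _ ha, pow_add_q f hf]
  ring

theorem sg_single [IsSet S] (b : Ix S) (t : K) :
    sg q (Pi.single b t) =
      (Pi.single ⟨twistE6.rt b, (set_spec b.2).2.2.1⟩ ((twistE6.ep b : K) * t ^ q) : Ix S → K) := by
  funext a
  have ha := tw_spec (set_spec a.2).2.1
  have hb := tw_spec (set_spec b.2).2.1
  simp only [sg, co_of_mem _ (set_spec a.2).2.2.1]
  by_cases e : (a : ℕ) = twistE6.rt b
  · obtain rfl : a = ⟨twistE6.rt b, (set_spec b.2).2.2.1⟩ := Subtype.ext e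
    rw [Pi.single_eq_same, show (⟨twistE6.rt (⟨twistE6.rt b, (set_spec b.2).2.2.1⟩ : Ix S), _⟩ : Ix S) = b
      from Subtype.ext hb.2.1, Pi.single_eq_same]
    simp only [hb.2.2.2.1]
  · have h1 : (⟨twistE6.rt a, (set_spec a.2).2.2.1⟩ : Ix S) ≠ b := fun h => e (by
      rw [← h]; exact ha.2.1.symm)
    have h2 : a ≠ (⟨twistE6.rt b, (set_spec b.2).2.2.1⟩ : Ix S) := fun h => e (congrArg Subtype.val h)
    rw [Pi.single_eq_of_ne h1, Pi.single_eq_of_ne h2, zero_pow_q f hf, mul_zero]

theorem act_yy [IsSet S] (v : Ix S → K) :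
    (endoE6 f).hom (yy S v) = yy S (sg q v) := by
  classical
  let L : AddChar (Ix S → K) (Amb K) := (endoE6 f).hom.compAddChar (yy S)
  let R : AddChar (Ix S → K) (Amb K) :=
    { toFun := fun v => yy S (sg q v)
      map_zero_eq_one' := by
        show yy S (sg q 0) = 1
        rw [show sg q (0 : Ix S → K) = 0 from funext fun a => by
          simp [sg, co_of_mem _ (set_spec a.2).2.2.1, zero_pow_q f hf], AddChar.map_zero_eq_one]
      map_add_eq_mul' := fun v u => by rw [sg_add f hf, AddChar.map_add_eq_mul] }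
  suffices h : L = R from DFunLike.congr_fun h v
  refine addChar_ext fun a t => Subtype.ext ?_
  show ((endoE6 f).hom (yy S (Pi.single a t)) : GL chevE6.Idx K) = (yy S (sg q (Pi.single a t)) : GL chevE6.Idx K)
  rw [sg_single f hf, yy_single, yy_single, (endoE6 f).map_X a (set_spec a.2).2.1 t _
    (coe_xr certE6 (set_spec a.2).2.1 t), coe_xr certE6 (set_spec (set_spec a.2).2.2.1).2.1,
    τ_eq f hf (set_spec a.2).2.1]
  rfl

/-- The group. -/
abbrev Tw : Type _ := ↥(endoE6 f).fix

omit hf in
/-- The inclusion in the group of the split type. -/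
noncomputable def incl : Tw f →* Amb K :=
  Subgroup.inclusion fun _ hg => ((endoE6 f).mem_fix.1 hg).1

omit hf in
theorem incl_injective : Function.Injective (incl f) := Subgroup.inclusion_injective _

omit hf in
theorem hom_incl (g : Tw f) : (endoE6 f).hom (incl f g) = incl f g :=
  Subtype.ext (by rw [← Endo.act_coe]; exact ((endoE6 f).mem_fix.1 g.2).2)

omit hf in
/-- An element fixed by the twist. -/
noncomputable def ofFix (g : Amb K) (hg : (endoE6 f).hom g = g) : Tw f :=
  ⟨(g : GL chevE6.Idx K), (endoE6 f).mem_fix.2 ⟨g.2, by rw [Endo.act_coe, hg]⟩⟩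

omit hf in
theorem incl_ofFix (g : Amb K) (hg : (endoE6 f).hom g = g) : incl f (ofFix f g hg) = g := rfl

/-- The fixed parameters. -/
def fixV (S : List ℕ) [IsSet S] : AddSubgroup (Ix S → K) where
  carrier := {v | sg q v = v}
  zero_mem' := funext fun a => by
    simp [sg, co_of_mem _ (set_spec a.2).2.2.1, zero_pow_q f hf]
  add_mem' := fun {v u} hv hu => by
    show sg q (v + u) = v + u
    rw [sg_add f hf, hv, hu]
  neg_mem' := fun {v} hv => by
    show sg q (-v) = -v
    have e := sg_add f hf v (-v)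
    rw [add_neg_cancel, hv] at e
    have e0 : sg q (0 : Ix S → K) = 0 := funext fun a => by
      simp [sg, co_of_mem _ (set_spec a.2).2.2.1, zero_pow_q f hf]
    rw [e0] at e
    exact eq_neg_of_add_eq_zero_right e.symm

theorem mem_fixV [IsSet S] {v : Ix S → K} : v ∈ fixV f hf S ↔ sg q v = v := Iff.rfl

/-- The root group. -/
noncomputable def rg (S : List ℕ) [IsSet S] (a : fixV f hf S) : Tw f :=
  ofFix f (yy S (a : Ix S → K)) (by rw [act_yy f hf, a.2])

theorem incl_rg [IsSet S] (a : fixV f hf S) : incl f (rg f hf S a) = yy S (a : Ix S → K) := rfl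

theorem rg_add [IsSet S] (a b : fixV f hf S) :
    rg f hf S (a + b) = rg f hf S a * rg f hf S b := incl_injective f (by
  rw [map_mul, incl_rg, incl_rg, incl_rg, AddSubgroup.coe_add, AddChar.map_add_eq_mul])

theorem dot_sg [IsSet S] (φ v : Ix S → K) : dot (sg q φ) (sg q v) = dot φ v ^ q := by
  classical
  rw [← hf, dot, dot, map_sum]
  refine Fintype.sum_equiv (Equiv.ofBijective (fun a : Ix S => (⟨twistE6.rt a, (set_spec a.2).2.2.1⟩ : Ix S))
    ((Finite.injective_iff_bijective).1 fun a b h => Subtype.ext (by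
      have := congrArg (fun x : Ix S => twistE6.rt x.1) h
      simpa [(tw_spec (set_spec a.2).2.1).2.1, (tw_spec (set_spec b.2).2.1).2.1] using this))) _ _ fun a => ?_
  simp only [Equiv.ofBijective_apply, sg, co_of_mem _ (set_spec a.2).2.2.1, hf, mul_pow]
  have e : (twistE6.ep a : K) * twistE6.ep a = 1 := by
    exact_mod_cast congrArg (fun z : ℤ => (z : K)) (tw_spec (set_spec a.2).2.1).2.2.2.2
  linear_combination (φ ⟨twistE6.rt a, (set_spec a.2).2.2.1⟩ ^ q * v ⟨twistE6.rt a, (set_spec a.2).2.2.1⟩ ^ q) * e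

theorem dot_fixed [IsSet S] (φ v : fixV f hf S) :
    dot (φ : Ix S → K) (v : Ix S → K) ^ q = dot (φ : Ix S → K) (v : Ix S → K) := by
  conv_rhs => rw [← φ.2, ← v.2, dot_sg f hf]

end CfsgLib.TwE6MinDeg
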