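import Cfsg.Agent.Lib.TwE6MinDeg.Cells

/-!
The root lists of `²E₆(q)`, their cells, and Weyl and torus elements acting on them.
-/

set_option autoImplicit false
set_option linter.unusedSectionVars false
set_option maxRecDepth 100000

namespace CfsgLib.TwE6MinDeg

open Module Cfsg.Lie CfsgLib.Chev CfsgLib.EMinDeg CfsgLib.SUMinDegree

/-- The first radical (`e₁±e_j`, `e₁`). -/
def sZ : List ℕ := [60, 63, 65, 66, 68, 69, 70, 71]
/-- The second radical (`e₂±e_j`, `e₂`). -/
def sZ' : List ℕ := [46, 47, 48, 50, 51, 53]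
/-- The third radical (`e₃±e₄`, `e₃`). -/
def sZ'' : List ℕ := [39, 40, 43, 44]
/-- Further lists. -/
def sZL : List ℕ := [49, 54, 60, 61, 63, 64, 65, 66, 68, 69, 70, 71]
/-- Further lists. -/
def sZR : List ℕ := [52, 55, 60, 62, 63, 65, 66, 67, 68, 69, 70, 71]
/-- Further lists. -/
def sSa : List ℕ := [54, 55, 60, 63, 64, 65, 66, 67, 68, 69, 70, 71]
/-- Further lists. -/
def sSb : List ℕ := [49, 52, 60, 61, 62, 63, 65, 66, 68, 69, 70, 71]
/-- Further lists. -/
def sZP : List ℕ := [36, 41, 56, 58, 60, 63, 65, 66, 68, 69, 70, 71]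
/-- Further lists. -/
def sZw : List ℕ := [44, 51, 53, 55, 67, 69, 70, 71]
/-- Further lists. -/
def sH1 : List ℕ := [40, 43, 53]
/-- Further lists. -/
def sH2 : List ℕ := [37, 42, 51]
/-- Further lists. -/
def sH3 : List ℕ := [37, 42, 44]
/-- Further lists. -/
def sH4 : List ℕ := [44, 55, 67, 71]
/-- Further lists. -/
def s44 : List ℕ := [44]
/-- Further lists. -/
def s53 : List ℕ := [53]
/-- Further lists. -/
def sP1 : List ℕ := [55, 67]
/-- Further lists. -/
def sTop : List ℕ := [69, 70, 71]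
/-- Further lists. -/
def s51 : List ℕ := [51]

instance : IsSet sZ := ⟨by decide +kernel⟩
instance : IsSet sZ' := ⟨by decide +kernel⟩
instance : IsSet sZ'' := ⟨by decide +kernel⟩
instance : IsSet sZL := ⟨by decide +kernel⟩
instance : IsSet sZR := ⟨by decide +kernel⟩
instance : IsSet sSa := ⟨by decide +kernel⟩
instance : IsSet sSb := ⟨by decide +kernel⟩
instance : IsSet sZP := ⟨by decide +kernel⟩
instance : IsSet sZw := ⟨by decide +kernel⟩
instance : IsSet sH1 := ⟨by decide +kernel⟩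
instance : IsSet sH2 := ⟨by decide +kernel⟩
instance : IsSet sH3 := ⟨by decide +kernel⟩
instance : IsSet sH4 := ⟨by decide +kernel⟩
instance : IsSet s44 := ⟨by decide +kernel⟩
instance : IsSet s53 := ⟨by decide +kernel⟩
instance : IsSet sP1 := ⟨by decide +kernel⟩
instance : IsSet sTop := ⟨by decide +kernel⟩
instance : IsSet s51 := ⟨by decide +kernel⟩

/-- The singular orbit of the first level. -/
def cells1 : List Cell := [
    ⟨71, [60, 63, 65, 66, 68, 69, 70, 71], [(53, 63), (51, 65), (50, 66), (48, 68), (47, 69), (46, 70)]⟩,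
    ⟨70, [60, 63, 65, 66, 68, 69, 70], [(53, 60), (44, 65), (43, 66), (40, 68), (39, 69)]⟩,
    ⟨69, [60, 63, 65, 66, 68, 69], [(51, 60), (44, 63), (42, 66), (37, 68)]⟩,
    ⟨65, [60, 63, 65], [(47, 60), (39, 63)]⟩,
    ⟨63, [60, 63], [(46, 60)]⟩,
    ⟨60, [60], []⟩]

/-- The singular orbit of the second level. -/
def cells2 : List Cell := [
    ⟨53, [46, 47, 48, 50, 51, 53], [(44, 47), (43, 48), (40, 50), (39, 51)]⟩,
    ⟨51, [46, 47, 48, 50, 51], [(44, 46), (42, 48), (37, 50)]⟩,
    ⟨47, [46, 47], [(39, 46)]⟩,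
    ⟨46, [46], []⟩]

/-- The singular orbit of the third level. -/
def cells3 : List Cell := [
    ⟨44, [39, 40, 43, 44], [(42, 40), (37, 43)]⟩,
    ⟨39, [39], []⟩]

/-- The orbits under the test root in the second level. -/
def cells2g : List Cell := [
    ⟨53, [46, 47, 48, 50, 51, 53], [(43, 48), (40, 50), (39, 51)]⟩,
    ⟨51, [46, 47, 48, 50, 51], [(42, 48), (37, 50)]⟩]

/-- The translations of the first half. -/
def shiftL : Cell := ⟨71, [49, 54, 60, 61, 64, 71], [(67, 49), (55, 61), (62, 54), (52, 64)]⟩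

/-- The translations of the second half. -/
def shiftP : Cell := ⟨60, [36, 41, 56, 58, 60, 71], [(59, 36), (45, 56), (57, 41), (38, 58)]⟩

theorem chkCells1 : (cells1.all fun d => d.chk sZ) = true := by decide +kernel
theorem chkCells2 : (cells2.all fun d => d.chk sZ') = true := by decide +kernel
theorem chkCells3 : (cells3.all fun d => d.chk sZ'') = true := by decide +kernel
theorem chkCells2g : (cells2g.all fun d => d.chk sZ') = true := by decide +kernel
theorem chkShiftL : shiftL.chk sZL = true := by decide +kernel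
theorem chkShiftP : shiftP.chk sZP = true := by decide +kernel

theorem leads1 : cells1.Pairwise fun d d' => d.m ∉ d'.A := by decide
theorem leads2 : cells2.Pairwise fun d d' => d.m ∉ d'.A := by decide
theorem leads3 : cells3.Pairwise fun d d' => d.m ∉ d'.A := by decide
theorem leads2g : cells2g.Pairwise fun d d' => d.m ∉ d'.A := by decide

/-- A word commutes with the twist. -/
noncomputable def chkWel (w : List ℕ) : Bool :=
  (w.all fun i => decide (i < tabE6.l)) &&
    (List.range tabE6.n).all fun r => decide (twistE6.rt (rword tabE6 w r) = rword tabE6 w (twistE6.rt r))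

/-- A word carries a list into another. -/
noncomputable def chkInto (w S S' : List ℕ) : Bool :=
  S.all fun b => decide (rword tabE6 w.reverse b ∈ S')

variable {K : Type*} [Field K] [Fintype K] {q : ℕ} (f : K →+* K) (hf : ∀ t, f t = t ^ q)
  (hK : Fintype.card K = q ^ 2)
include hf hK

omit hf hK in
/-- A fixed Weyl element. -/
def IsWel (g : Tw f) (w : List ℕ) : Prop :=
  WordOK tabE6 w ∧ ∀ r < tabE6.n, Maps chevE6 (g : GL chevE6.Idx K) r (rword tabE6 w r)

theorem exists_wel {w : List ℕ} (hw : chkWel w = true) : ∃ g : Tw f, IsWel f g w := by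
  simp only [chkWel, Bool.and_eq_true, List.all_eq_true, List.mem_range, decide_eq_true_eq] at hw
  obtain ⟨m, -, hm, -, hM⟩ := (endoE6 f).exists_rep (dataOK_E6 f).cls
    (repsE6 f hf hK) hw.1 hw.2
  exact ⟨⟨m, hm⟩, hw.1, hM⟩

omit hf hK in
theorem IsWel.act {g : Tw f} {w : List ℕ} (hg : IsWel f g w) {S S' : List ℕ} [IsSet S] [IsSet S']
    (h : chkInto w S S' = true) :
    ∃ c : Ix S → K, (∀ b, c b ≠ 0) ∧
      Act (incl f g) S S' (fun φ b => c b * co φ (rword tabE6 w.reverse b)) := by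
  obtain ⟨hw, hM⟩ := hg
  simp only [chkInto, List.all_eq_true, decide_eq_true_eq] at h
  have hwr : WordOK tabE6 w.reverse := fun i hi => hw i (List.mem_reverse.1 hi)
  have hex : ∀ b : Ix S, ∃ c : K, c ≠ 0 ∧ ∀ t,
      (incl f g)⁻¹ * xr certE6 (b : ℕ) t * incl f g = xr certE6 (rword tabE6 w.reverse b) (c * t) := by
    intro b
    have hb := (set_spec b.2).2.1
    have hb' := Cert.rword_lt certE6 hwr hb
    obtain ⟨c, hc, e⟩ := hM _ hb'
    rw [Cert.rword_reverse certE6 hw hb] at e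
    refine ⟨c⁻¹, inv_ne_zero hc, fun t => Subtype.ext ?_⟩
    simp only [Subgroup.coe_mul, InvMemClass.coe_inv, coe_xr certE6 hb, coe_xr certE6 hb']
    have e' := e (c⁻¹ * t)
    rw [mul_inv_cancel_left₀ hc] at e'
    show (g : GL chevE6.Idx K)⁻¹ * _ * (g : GL chevE6.Idx K) = _
    rw [← e']
    group
  choose c hc hconj using hex
  refine ⟨c, hc, ?_⟩
  have := act_monomial (g := incl f g) (π := fun b => (⟨rword tabE6 w.reverse b, h b b.2⟩ : Ix S'))
    (c := c) hconj
  convert this using 4 with φ b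
  rw [co_of_mem φ (h b b.2)]

/-- A fixed torus element. -/
theorem exists_tor (v : List ℤ) (u : Kˣ) : ∃ g : Tw f, ∀ (S : List ℕ) [IsSet S],
    Act (incl f g) S S (fun φ b =>
      ((u : K) ^ pairV tabE6 v b * ((u : K) ^ q) ^ pairV tabE6 ((List.range 6).map fun i => v.getD (piTwE6 i) 0) b)⁻¹
        * φ b) := by
  let v' : List ℤ := (List.range 6).map fun i => v.getD (piTwE6 i) 0
  let c : Fin tabE6.l → Kˣ := fun i => u ^ v.getD i 0 * (u ^ q) ^ v'.getD i 0
  have hcoe : ((tor certE6 v u * tor certE6 v' (u ^ q) : Amb K) : GL chevE6.Idx K) =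
      Cert.torusHom (D := chevE6) (T := tabE6) c := by
    rw [Subgroup.coe_mul]
    exact (map_mul (Cert.torusHom (D := chevE6) (T := tabE6) (F := K)) _ _).symm
  have hpi : ∀ i : Fin tabE6.l, v'.getD (piTwE6 i) 0 = v.getD i 0 ∧
      v'.getD i 0 = v.getD (piTwE6 i) 0 := by
    intro i
    obtain ⟨i, hi⟩ := i
    have hi' : i < 6 := hi
    interval_cases i <;> exact ⟨rfl, rfl⟩
  have hfix : (endoE6 f).tor c = c := by
    refine tor_fix_of f hf fun i => ?_
    show u ^ v.getD (piTwE6 i) 0 * (u ^ q) ^ v'.getD (piTwE6 i) 0 =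
      (u ^ v.getD (i : ℕ) 0 * (u ^ q) ^ v'.getD (i : ℕ) 0) ^ q
    have hqq : (u ^ q) ^ q = u := Units.ext (by
      rw [Units.val_pow_eq_pow_val, Units.val_pow_eq_pow_val, pow_q_q hK])
    have hswap : ∀ (w : Kˣ) (n : ℤ), (w ^ n) ^ q = (w ^ q) ^ n := fun w n => by
      rw [← zpow_natCast, ← zpow_natCast w, ← zpow_mul, ← zpow_mul, mul_comm]
    rw [(hpi i).1, (hpi i).2, mul_pow, hswap, hswap, hqq, mul_comm]
  refine ⟨⟨_, (((endoE6 f).torusHom_mem_fix hfix).1)⟩, fun S _ => ?_⟩
  have hg : incl f (⟨_, (((endoE6 f).torusHom_mem_fix hfix).1)⟩ : Tw f) =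
      tor certE6 v u * tor certE6 v' (u ^ q) := Subtype.ext hcoe.symm
  rw [hg]
  refine act_monomial (π := id) fun b t => ?_
  have hb := (set_spec b.2).2.1
  have hne : (u : K) ^ pairV tabE6 v b * ((u : K) ^ q) ^ pairV tabE6 v' b ≠ 0 :=
    mul_ne_zero (zpow_ne_zero _ u.ne_zero) (zpow_ne_zero _ (pow_ne_zero _ u.ne_zero))
  set k := (u : K) ^ pairV tabE6 v b * ((u : K) ^ q) ^ pairV tabE6 v' b with hk
  have e : tor certE6 v u * tor certE6 v' (u ^ q) * xr certE6 (b : ℕ) (k⁻¹ * t) *
      (tor certE6 v u * tor certE6 v' (u ^ q))⁻¹ = xr certE6 (b : ℕ) t := by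
    rw [show ∀ a b' x : Amb K, a * b' * x * (a * b')⁻¹ = a * (b' * x * b'⁻¹) * a⁻¹
      from fun a b' x => by group, tor_conj certE6 _ _ hb, tor_conj certE6 _ _ hb,
      Units.val_pow_eq_pow_val]
    congr 1
    rw [← mul_assoc, ← hk, mul_inv_cancel_left₀ hne]
  show _ = xr certE6 (b : ℕ) (k⁻¹ * t)
  rw [← e]
  group

end CfsgLib.TwE6MinDeg
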