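import Cfsg.Agent.Lib.TwE6MinDeg.LevelOne

/-!
When the weight line is one-dimensional, the fixed vectors of the first radical are not fixed by the second.
-/

set_option autoImplicit false
set_option linter.unusedSectionVars false
set_option maxRecDepth 100000

namespace CfsgLib.TwE6MinDeg

open Module Cfsg.Lie CfsgLib.Chev CfsgLib.EMinDeg CfsgLib.SUMinDegree

/-- A list. -/
def sR : List ℕ := [52, 55, 62, 67]
/-- A list. -/
def sZa : List ℕ := [54, 60, 63, 64, 65, 66, 68, 69, 70, 71]
/-- A list. -/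
def sZb : List ℕ := [49, 60, 61, 63, 65, 66, 68, 69, 70, 71]
/-- A list. -/
def sL0 : List ℕ := [49, 61]
/-- A list. -/
def sR1 : List ℕ := [52, 62]
/-- A list. -/
def sE4 : List ℕ := [37, 42]
/-- A list. -/
def sU1 : List ℕ := [51, 53]
/-- A list. -/
def sU2 : List ℕ := [44, 51, 53]
/-- A list. -/
def sU3 : List ℕ := [44, 51, 53, 55, 67]

instance : IsSet sR := ⟨by decide +kernel⟩
instance : IsSet sZa := ⟨by decide +kernel⟩
instance : IsSet sZb := ⟨by decide +kernel⟩
instance : IsSet sL0 := ⟨by decide +kernel⟩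
instance : IsSet sR1 := ⟨by decide +kernel⟩
instance : IsSet sE4 := ⟨by decide +kernel⟩
instance : IsSet sU1 := ⟨by decide +kernel⟩
instance : IsSet sU2 := ⟨by decide +kernel⟩
instance : IsSet sU3 := ⟨by decide +kernel⟩

variable {K : Type*} [Field K] {S : List ℕ}

theorem res_one {S S2 : List ℕ} {m : ℕ} (h : ∀ a ∈ S, a ∈ S2) (a : K) :
    (res (one S2 m a) : Ix S → K) = one S m a :=
  funext fun b => by
    show co (one S2 m a) b = _
    rw [co_one (h b b.2)]; rfl

theorem res_zero {S S2 : List ℕ} : (res (0 : Ix S2 → K) : Ix S → K) = 0 :=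
  funext fun b => by
    show co (0 : Ix S2 → K) b = 0
    rw [co]; split_ifs <;> rfl

theorem one_absent {S : List ℕ} {m : ℕ} (h : m ∉ S) (a : K) : one S m a = 0 :=
  funext fun b => if_neg fun (e : (b : ℕ) = m) => h (e ▸ b.2)

variable [Fintype K] {q : ℕ} (f : K →+* K) (hf : ∀ t, f t = t ^ q) (hK : Fintype.card K = q ^ 2)
variable {V : Type*} [AddCommGroup V] [Module ℂ V] [FiniteDimensional ℂ V] {θ : AddChar K ℂ}
  {ρ : Representation ℂ (Tw f) V} {W : Submodule ℂ V}
include hf hK

omit hK in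
/-- A sublist is handled inside the larger group. -/
theorem rg_ext {S S2 : List ℕ} [IsSet S] [IsSet S2] (h : ∀ a ∈ S, a ∈ S2) (a : fixV f hf S) :
    rg f hf S a = rg f hf S2 ⟨ext (a : Ix S → K), sg_ext f hf h a.2⟩ :=
  incl_injective f (by rw [incl_rg, incl_rg, yy_ext h])

/-- The weights above a given one restrict to it. -/
theorem res_eq {S S2 : List ℕ} [IsSet S] [IsSet S2] (hθ : θ 1 ≠ 1) (h : ∀ a ∈ S, a ∈ S2)
    {φ : Ix S → K} (hφ : sg q φ = φ) {ψ : Ix S2 → K} (hψ : sg q ψ = ψ)
    (hW : W ≤ Wt f hf ρ θ S φ) (hne : W ⊓ Wt f hf ρ θ S2 ψ ≠ ⊥) : (res ψ : Ix S → K) = φ := by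
  obtain ⟨w, hw, hw0⟩ := (Submodule.ne_bot_iff _).1 hne
  have h1 := (mem_Wt f hf).1 (Wt_res f hf h hw.2)
  have h2 := (mem_Wt f hf).1 (hW hw.1)
  refine chi_injective f hf hK hθ (sg_res f hf h hψ) hφ (DFunLike.ext _ _ fun a => ?_)
  exact smul_left_injective ℂ hw0 ((h1 a).symm.trans (h2 a))

section Commutator

/-- A root of a list is the commutator of two short pairs. -/
theorem comm_fix {ℓ : Submodule ℂ V} (hℓ : finrank ℂ ℓ = 1)
    (hg : ∀ (hb : chkBlocks [(40, 42), (43, 37)] = true) (s : ℕ → K) (hs : Compat q [(40, 42), (43, 37)] s),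
      Stab f ρ ℓ (elT f hf hK hb hs))
    (hh : ∀ a, Stab f ρ ℓ (rg f hf sE4 a)) : ℓ ≤ Wt f hf ρ θ s44 0 := by
  classical
  intro w hw
  rw [mem_Wt_zero]
  by_cases hw0 : w = 0
  · subst hw0; simp
  intro c
  have hb : chkBlocks [(40, 42), (43, 37)] = true := by decide +kernel
  have hchk : (([(40, 42), (43, 37)] : List (ℕ × ℕ)).all fun e => chkMove tabE6 [] sH3 e.1) = true := by
    decide +kernel
  have hfix2 : chkFixes sH3 [37, 42] [(40, 42), (43, 37)] = true := by decide +kernel
  obtain ⟨c1, ht1, hc1⟩ : ∃ c : ℤ, tgt tabE6 sH3 40 42 = some (44, c) ∧ c * c = 1 := by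
    have h : (match tgt tabE6 sH3 40 42 with
      | some kc => decide (kc.1 = 44) && decide (kc.2 * kc.2 = 1)
      | none => false) = true := by decide +kernel
    cases e : tgt tabE6 sH3 40 42 with
    | none => rw [e] at h; exact absurd h (by simp)
    | some kc =>
      obtain ⟨k, c⟩ := kc
      simp only [e, Bool.and_eq_true, decide_eq_true_eq] at h
      obtain ⟨rfl, hc⟩ := h
      exact ⟨c, rfl, hc⟩
  obtain ⟨c2, ht2, hs2⟩ : ∃ c : ℤ, tgt tabE6 sH3 43 37 = some (44, c) ∧
      c * twistE6.ep 40 = twistE6.ep 42 * c1 := by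
    have h : (match tgt tabE6 sH3 40 42, tgt tabE6 sH3 43 37 with
      | some kc, some kc' => decide (kc'.1 = 44) && decide (kc'.2 * twistE6.ep 40 = twistE6.ep 42 * kc.2)
      | _, _ => false) = true := by decide +kernel
    rw [ht1] at h
    cases e : tgt tabE6 sH3 43 37 with
    | none => rw [e] at h; exact absurd h (by simp)
    | some kc =>
      obtain ⟨k, c⟩ := kc
      simp only [e, Bool.and_eq_true, decide_eq_true_eq] at h
      obtain ⟨rfl, hc⟩ := h
      exact ⟨c, rfl, hc⟩
  have hn : tgt tabE6 sH3 40 37 = none ∧ tgt tabE6 sH3 43 42 = none ∧ tgt tabE6 sH3 43 44 = none ∧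
      tgt tabE6 sH3 40 44 = none ∧ twistE6.rt 42 = 37 ∧ twistE6.rt 37 = 42 ∧
      twistE6.ep 43 = twistE6.ep 40 ∧ twistE6.ep 40 * twistE6.ep 40 = 1 ∧
      twistE6.ep 37 = twistE6.ep 42 ∧ twistE6.ep 42 * twistE6.ep 42 = 1 := by decide +kernel
  obtain ⟨hn1, hn2, hn3, hn4, hr1, hr2, he1, he2, he3, he4⟩ := hn
  let s : ℕ → K := fun x => if x = 42 then 1 else (twistE6.ep 40 : K)
  have hs : Compat q [(40, 42), (43, 37)] s := by
    intro x hx
    simp only [List.mem_cons, List.not_mem_nil, or_false] at hx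
    rcases hx with rfl | rfl
    · rw [hr1]; simp [s, one_pow_q f hf]
    · rw [hr2, he1]
      simp only [s, if_true, if_neg (show ¬ (37 : ℕ) = 42 by decide), int_pow_q f hf]
      exact_mod_cast (congrArg (fun z : ℤ => (z : K)) he2).symm
  have hA : Act (incl f (elT f hf hK hb hs)) sH3 sH3 (run tabE6 [(40, 42), (43, 37)] s) :=
    act_el (fun x hx => List.all_eq_true.1 hchk x hx) s
  obtain ⟨u, hu⟩ := exists_trace_one hK hf
  set t : K := -(c1 : K) * (u * co (c : Ix s44 → K) 44) with ht
  have hc44 : co (c : Ix s44 → K) 44 ^ q = co (c : Ix s44 → K) 44 :=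
    co_fixed c.2 (by decide +kernel)
  let v : Ix sH3 → K := fun b => if (b : ℕ) = 42 then t else if (b : ℕ) = 37 then (twistE6.ep 42 : K) * t ^ q else 0
  have hcv : ∀ b ∈ sH3, co v b = if b = 42 then t else if b = 37 then (twistE6.ep 42 : K) * t ^ q else 0 :=
    fun b hb => by rw [co_of_mem v hb]
  have hvfix : sg q v = v := by
    funext b
    obtain ⟨b, hb⟩ := b
    show (twistE6.ep b : K) * co v (twistE6.rt b) ^ q = v ⟨b, hb⟩
    rw [hcv _ (set_spec hb).2.2.1, ← co_of_mem v hb, hcv b hb]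
    simp only [sH3, List.mem_cons, List.not_mem_nil, or_false] at hb
    rcases hb with rfl | rfl | rfl
    · rw [hr2, he3]; simp
    · rw [hr1, mul_comm]
      simp only [if_true, if_neg (show ¬ (37 : ℕ) = 42 by decide), mul_pow, int_pow_q f hf, pow_q_q hK]
      rw [mul_comm, ← mul_assoc, show (twistE6.ep 42 : K) * twistE6.ep 42 = 1 by
        exact_mod_cast congrArg (fun z : ℤ => (z : K)) he4, one_mul]
    · rw [show twistE6.rt 44 = 44 by decide +kernel]
      simp [zero_pow_q f hf]
  obtain ⟨M, hM, hd⟩ := hA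
  have hMv : sg q (M v) = M v := by rw [Act.sg_comm f hf (hom_incl f _) hM, hvfix]
  let v4 : fixV f hf sE4 := ⟨res v, sg_res f hf (by decide) hvfix⟩
  have hv4 : rg f hf sE4 v4 = rg f hf sH3 ⟨v, hvfix⟩ := by
    rw [rg_ext f hf (S2 := sH3) (by decide)]
    congr 1
    refine Subtype.ext (funext fun b => ?_)
    obtain ⟨b, hb⟩ := b
    show co (res v : Ix sE4 → K) b = v ⟨b, hb⟩
    rw [← co_of_mem v hb]
    by_cases h4 : b ∈ sE4
    · rw [co_of_mem _ h4]; rfl
    · rw [co, dif_neg h4, hcv b hb]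
      simp only [sE4, List.mem_cons, List.not_mem_nil, or_false, not_or] at h4
      rw [if_neg h4.2, if_neg h4.1]
  have hkey : rg f hf s44 c * rg f hf sE4 v4 =
      (elT f hf hK hb hs)⁻¹ * rg f hf sE4 v4 * elT f hf hK hb hs := incl_injective f (by
    rw [hv4, map_mul, map_mul, map_mul, map_inv, incl_rg f hf (S := sH3), hM, rg_ext f hf (S2 := sH3)
      (show ∀ a ∈ s44, a ∈ sH3 by decide), incl_rg, ← AddChar.map_add_eq_mul]
    congr 1
    refine co_ext fun x hx => ?_
    have e := hd (Pi.single ⟨x, hx⟩ 1) v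
    rw [dot_comm _ (M v), dot_single, mul_one] at e
    rw [co_of_mem (M v) hx, ← e, co_of_mem _ hx]
    show co (c : Ix s44 → K) x + v ⟨x, hx⟩ = _
    rw [← co_of_mem v hx, hcv x hx]
    rw [dot_comm, dot, ← Finset.sum_subset (Finset.subset_univ
      {⟨37, by decide⟩, ⟨42, by decide⟩, ⟨44, by decide⟩}) (fun y _ hy => absurd (by
        obtain ⟨y, hy'⟩ := y
        simp only [sH3, List.mem_cons, List.not_mem_nil, or_false] at hy'
        rcases hy' with rfl | rfl | rfl <;> simp) hy)]
    rw [Finset.sum_insert (by decide), Finset.sum_insert (by decide), Finset.sum_singleton]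
    simp only [← co_of_mem _ (show (37 : ℕ) ∈ sH3 by decide), ← co_of_mem _ (show (42 : ℕ) ∈ sH3 by decide),
      ← co_of_mem _ (show (44 : ℕ) ∈ sH3 by decide), ← co_val]
    simp only [hcv _ (show (37 : ℕ) ∈ sH3 by decide), hcv _ (show (42 : ℕ) ∈ sH3 by decide),
      hcv _ (show (44 : ℕ) ∈ sH3 by decide), run]
    rw [co_mv_none hn1, co_mv_some ht2 (by decide), co_mv_some ht1 (by decide), co_mv_none hn2,
      co_mv_none hn3, co_mv_none hn4, co_mv_none hn3]
    simp only [s, if_true, if_neg (show ¬ (37 : ℕ) = 42 by decide), if_neg (show ¬ (44 : ℕ) = 42 by decide),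
      if_neg (show ¬ (44 : ℕ) = 37 by decide), mul_zero, add_zero]
    have hco : ∀ y ∈ sH3, co (Pi.single ⟨x, hx⟩ 1 : Ix sH3 → K) y = if y = x then 1 else 0 := fun y hy => by
      rw [co_of_mem _ hy]
      by_cases e : y = x
      · subst e; simp
      · rw [Pi.single_eq_of_ne (fun e' => e (congrArg Subtype.val e')), if_neg e]
    rw [hco 37 (by decide), hco 42 (by decide), hco 44 (by decide)]
    simp only [sH3, List.mem_cons, List.not_mem_nil, or_false] at hx
    have h44 : ∀ y : ℕ, y ≠ 44 → co (c : Ix s44 → K) y = 0 := fun y hy => by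
      rw [co, dif_neg (by simp [s44, hy])]
    rcases hx with rfl | rfl | rfl
    · rw [h44 37 (by decide)]; simp
    · rw [h44 42 (by decide)]; simp
    · simp only [if_true, if_neg (show ¬ (37 : ℕ) = 44 by decide), if_neg (show ¬ (42 : ℕ) = 44 by decide),
        if_neg (show ¬ (44 : ℕ) = 42 by decide), if_neg (show ¬ (44 : ℕ) = 37 by decide)]
      have hc1K : (c1 : K) * c1 = 1 := by exact_mod_cast congrArg (fun z : ℤ => (z : K)) hc1
      have hs2K : (c2 : K) * twistE6.ep 40 = twistE6.ep 42 * c1 := by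
        exact_mod_cast congrArg (fun z : ℤ => (z : K)) hs2
      have he4K : (twistE6.ep 42 : K) * twistE6.ep 42 = 1 := by
        exact_mod_cast congrArg (fun z : ℤ => (z : K)) he4
      have htq : t ^ q = -(c1 : K) * (u ^ q * co (c : Ix s44 → K) 44) := by
        rw [ht, mul_pow, mul_pow, hc44, ← hf (-_), map_neg, hf, int_pow_q f hf]
      rw [htq, ht]
      linear_combination (-(co (c : Ix s44 → K) 44)) * hu
        - (u * co (c : Ix s44 → K) 44 + u ^ q * co (c : Ix s44 → K) 44) * hc1K
        - (c1 : K) * c1 * u ^ q * co (c : Ix s44 → K) 44 * he4K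
        - (twistE6.ep 42 : K) * c1 * u ^ q * co (c : Ix s44 → K) 44 * hs2K)
  obtain ⟨μ, hμ0, hμ⟩ := exists_scalar f hℓ (hg hb s hs) hw hw0
  obtain ⟨ν, hν0, hν⟩ := exists_scalar f hℓ (hh v4) hw hw0
  have hi : ρ (elT f hf hK hb hs)⁻¹ w = μ⁻¹ • w := by
    have e := congrArg (ρ (elT f hf hK hb hs)⁻¹) hμ
    rw [← Module.End.mul_apply, ← map_mul, inv_mul_cancel, map_one, Module.End.one_apply, map_smul] at e
    conv_rhs => rw [e, smul_smul, inv_mul_cancel₀ hμ0, one_smul]
  have h1 : ρ (rg f hf s44 c * rg f hf sE4 v4) w = ν • w := by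
    rw [hkey, map_mul, map_mul, Module.End.mul_apply, Module.End.mul_apply, hμ, map_smul, hν, map_smul,
      map_smul, hi, smul_smul, smul_smul]
    congr 1
    field_simp
  rw [map_mul, Module.End.mul_apply, hν, map_smul] at h1
  exact smul_right_injective V hν0 h1

end Commutator

variable (hθ : θ 1 ≠ 1)
include hθ

/-- The second radical moves the fixed vectors of the first. -/
theorem key (hline : finrank ℂ (Wt f hf ρ θ sZL (one sZL 71 (1 : K))) = 1) :
    ¬ Wt f hf ρ θ sZ 0 ≤ Wt f hf ρ θ sZ' 0 := by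
  classical
  intro hcon
  set ℓ := Wt f hf ρ θ sZL (one sZL 65 (1 : K)) with hℓdef
  have hℓ : finrank ℂ ℓ = 1 := by
    have := dim_move (θ := θ) (ρ := ρ) (W := ⊤) f hf hK wT_chk (fun _ _ => Stab.top f) (torStab_top f)
      (show chkLong sZL 71 = true by decide +kernel) coch1b (one_pow_q f hf) one_ne_zero
    rw [top_inf_eq, top_inf_eq] at this
    rw [hℓdef, this, hline]
  have hs65 : ∀ S : List ℕ, Supp [65] (one S 65 (1 : K)) := fun S => supp_one (by simp) _
  have hfix65 : ∀ (S : List ℕ) [IsSet S], chkLong S 65 = true →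
      sg q (one S 65 (1 : K)) = one S 65 1 := fun S _ h => sg_one f hf h (one_pow_q f hf)
  have el_stab : ∀ {es : List (ℕ × ℕ)},
      (es.all fun e => chkMove tabE6 [] sZL e.1) = true → chkFixes sZL [65] es = true →
      ∀ (hb : chkBlocks es = true) (s : ℕ → K) (hs : Compat q es s), Stab f ρ ℓ (elT f hf hK hb hs) :=
    fun h1 h2 hb s hs => elT_stab_fix f hf hK hb h1 h2 (hs65 _) hs
  have hZ : ℓ ≤ Wt f hf ρ θ sZ (one sZ 65 1) := fun w hw => by
    rw [← res_one (S2 := sZL) (by decide)]; exact Wt_res f hf (by decide) hw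
  -- the radical of the form acts trivially
  have hR : ℓ ≤ Wt f hf ρ θ sZR (one sZR 65 1) := by
    have hstR : ∀ a, Stab f ρ ℓ (rg f hf sR a) := fun a =>
      stab_of_fix f hf (act_rg f hf (show (sR.all fun g => chkMove tabE6 [] sZL g) = true by decide +kernel) a)
        (run_fix (by decide +kernel) _ (hs65 _))
    have hstZ : ∀ a, Stab f ρ ℓ (rg f hf sZ a) := fun a => by
      rw [rg_ext f hf (S2 := sZL) (by decide) a]
      exact rg_stab f hf (fun _ h => h) _ _
    obtain ⟨ψ, hψ, hle⟩ := line_wt f hf hK hθ hℓ (H := sZR)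
      (stab_union (S := sZ) (S' := sR) f hf (by decide) (by decide) (by decide) (by decide) hstZ hstR)
    have hne : ℓ ⊓ Wt f hf ρ θ sZR ψ ≠ ⊥ := by
      rw [inf_eq_left.2 hle]; intro e; rw [e, finrank_bot] at hℓ; omega
    have hres := res_eq (W := ℓ) f hf hK hθ (S := sZ) (by decide) (hfix65 sZ (by decide +kernel)) hψ hZ hne
    have h55 : co ψ 55 = 0 := coord_zero f hf hK hθ (e := (40, 52)) (e' := (43, 62)) hℓ hψ hle
      (el_stab (by decide +kernel) (by decide +kernel)) (by decide +kernel)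
    have h67 : co ψ 67 = 0 := coord_zero f hf hK hθ (e := (43, 62)) (e' := (40, 52)) hℓ hψ hle
      (el_stab (by decide +kernel) (by decide +kernel)) (by decide +kernel)
    have h52 : co ψ 52 = 0 := coord_zero f hf hK hθ (e := (31, 55)) (e' := (28, 67)) hℓ hψ hle
      (el_stab (by decide +kernel) (by decide +kernel)) (by decide +kernel)
    have h62 : co ψ 62 = 0 := coord_zero f hf hK hθ (e := (28, 67)) (e' := (31, 55)) hℓ hψ hle
      (el_stab (by decide +kernel) (by decide +kernel)) (by decide +kernel)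
    have : ψ = one sZR 65 1 := co_ext fun a ha => by
      have hm : ∀ x ∈ sZR, x ∈ sZ ∨ (x ≠ 65 ∧ (x = 52 ∨ x = 55 ∨ x = 62 ∨ x = 67)) := by decide
      rcases hm a ha with hz | ⟨hn, hcase⟩
      · have e := congrFun hres ⟨a, hz⟩
        change co ψ a = one sZ 65 1 ⟨a, hz⟩ at e
        rw [e, co_one ha]; rfl
      · rw [co_one ha, if_neg hn]
        rcases hcase with rfl | rfl | rfl | rfl <;> assumption
    rw [← this]; exact hle
  have hZa : ℓ ≤ Wt f hf ρ θ sZa (one sZa 65 1) := fun w hw => by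
    rw [← res_one (S2 := sZL) (by decide)]; exact Wt_res f hf (by decide) hw
  have hZb : ℓ ≤ Wt f hf ρ θ sZb (one sZb 65 1) := fun w hw => by
    rw [← res_one (S2 := sZL) (by decide)]; exact Wt_res f hf (by decide) hw
  have hP1 : ℓ ≤ Wt f hf ρ θ sP1 0 := fun w hw => by
    have := Wt_res f hf (S := sP1) (by decide) (hR hw)
    rwa [res_one (by decide), one_absent (by decide)] at this
  have hR1 : ℓ ≤ Wt f hf ρ θ sR1 0 := fun w hw => by
    have := Wt_res f hf (S := sR1) (by decide) (hR hw)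
    rwa [res_one (by decide), one_absent (by decide)] at this
  have hSa : ℓ ≤ Wt f hf ρ θ sSa (one sSa 65 1) := fun w hw =>
    Wt_union (S := sZa) (S' := sP1) f hf (by decide) (by decide) (by decide)
      (by rw [res_one (by decide)]; exact hZa hw)
      (by rw [res_one (by decide), one_absent (by decide)]; exact hP1 hw)
  have hSb : ℓ ≤ Wt f hf ρ θ sSb (one sSb 65 1) := fun w hw =>
    Wt_union (S := sZb) (S' := sR1) f hf (by decide) (by decide) (by decide)
      (by rw [res_one (by decide)]; exact hZb hw)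
      (by rw [res_one (by decide), one_absent (by decide)]; exact hR1 hw)
  have double : ∀ {G : List ℕ} [IsSet G], (G.all fun g => chkMove tabE6 [] sSa g) = true →
      chkFixes sSa [65] (diag G) = true → (G.all fun g => chkMove tabE6 [] sSb g) = true →
      chkFixes sSb [65] (diag G) = true → ∀ a, Stab f ρ ℓ (rg f hf G a) := by
    intro G _ h1 h2 h3 h4 a w hw
    have ha := rho_mem_Wt f hf (act_rg f hf h1 a) (hSa hw)
    have hb := rho_mem_Wt f hf (act_rg f hf h3 a) (hSb hw)
    rw [run_fix h2 _ (hs65 _)] at ha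
    rw [run_fix h4 _ (hs65 _)] at hb
    refine Wt_union (S := sZa) (S' := sZb) f hf (by decide) (by decide) (by decide) ?_ ?_
    · rw [res_one (by decide)]
      have := Wt_res f hf (S := sZa) (by decide) ha
      rwa [res_one (by decide)] at this
    · rw [res_one (by decide)]
      have := Wt_res f hf (S := sZb) (by decide) hb
      rwa [res_one (by decide)] at this
  -- long roots
  have hH1 : ∀ a, Stab f ρ ℓ (rg f hf sH1 a) := fun a =>
    stab_of_fix f hf (act_rg f hf (show (sH1.all fun g => chkMove tabE6 [] sZL g) = true by decide +kernel) a)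
      (run_fix (by decide +kernel) _ (hs65 _))
  have hH2 : ∀ a, Stab f ρ ℓ (rg f hf sH2 a) :=
    double (by decide +kernel) (by decide +kernel) (by decide +kernel) (by decide +kernel)
  have hE4 : ∀ a, Stab f ρ ℓ (rg f hf sE4 a) :=
    double (by decide +kernel) (by decide +kernel) (by decide +kernel) (by decide +kernel)
  have h53 : ℓ ≤ Wt f hf ρ θ s53 0 := by
    obtain ⟨ψ, hψ, hle⟩ := line_wt f hf hK hθ hℓ (H := sH1) hH1
    have h0 : co ψ 53 = 0 := coord_zero f hf hK hθ (e := (48, 43)) (e' := (50, 40)) hℓ hψ hle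
      (el_stab (by decide +kernel) (by decide +kernel)) (by decide +kernel)
    intro w hw
    have := Wt_res f hf (S := s53) (by decide) (hle hw)
    rwa [show (res ψ : Ix s53 → K) = 0 from funext fun b => by
      show co ψ b = 0
      rw [List.mem_singleton.1 b.2, h0]] at this
  have h51 : ℓ ≤ Wt f hf ρ θ s51 0 := by
    obtain ⟨ψ, hψ, hle⟩ := line_wt f hf hK hθ hℓ (H := sH2) hH2
    have h0 : co ψ 51 = 0 := coord_zero f hf hK hθ (e := (48, 42)) (e' := (50, 37)) hℓ hψ hle
      (el_stab (by decide +kernel) (by decide +kernel)) (by decide +kernel)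
    intro w hw
    have := Wt_res f hf (S := s51) (by decide) (hle hw)
    rwa [show (res ψ : Ix s51 → K) = 0 from funext fun b => by
      show co ψ b = 0
      rw [List.mem_singleton.1 b.2, h0]] at this
  have h44 : ℓ ≤ Wt f hf ρ θ s44 0 :=
    comm_fix (θ := θ) f hf hK hℓ (el_stab (by decide +kernel) (by decide +kernel)) hE4
  have hTop : ℓ ≤ Wt f hf ρ θ sTop 0 := fun w hw => by
    have := Wt_res f hf (S := sTop) (by decide) (hZ hw)
    rwa [res_one (by decide), one_absent (by decide)] at this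
  have union3 : ∀ (U : Submodule ℂ V), U ≤ Wt f hf ρ θ s51 0 → U ≤ Wt f hf ρ θ s53 0 →
      U ≤ Wt f hf ρ θ s44 0 → U ≤ Wt f hf ρ θ sP1 0 → U ≤ Wt f hf ρ θ sTop 0 →
      U ≤ Wt f hf ρ θ sZw 0 := by
    intro U a1 a2 a3 a4 a5 w hw
    refine Wt_union (S := sU3) (S' := sTop) f hf (by decide) (by decide) (by decide) ?_
      (by rw [res_zero]; exact a5 hw)
    rw [res_zero]
    refine Wt_union (S := sU2) (S' := sP1) f hf (by decide) (by decide) (by decide) ?_
      (by rw [res_zero]; exact a4 hw)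
    rw [res_zero]
    refine Wt_union (S := sU1) (S' := s44) f hf (by decide) (by decide) (by decide) ?_
      (by rw [res_zero]; exact a3 hw)
    rw [res_zero]
    exact Wt_union (S := s51) (S' := s53) f hf (by decide) (by decide) (by decide)
      (by rw [res_zero]; exact a1 hw) (by rw [res_zero]; exact a2 hw)
  have hℓw : ℓ ≤ Wt f hf ρ θ sZw 0 := union3 ℓ h51 h53 h44 hP1 hTop
  -- the fixed vectors of the first radical
  set W0 := Wt f hf ρ θ sZ (0 : Ix sZ → K) with hW0
  have a51 : W0 ≤ Wt f hf ρ θ s51 0 := fun w hw => by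
    have := Wt_res f hf (S := s51) (by decide) (hcon hw)
    rwa [res_zero] at this
  have a53 : W0 ≤ Wt f hf ρ θ s53 0 := fun w hw => by
    have := Wt_res f hf (S := s53) (by decide) (hcon hw)
    rwa [res_zero] at this
  have aTop : W0 ≤ Wt f hf ρ θ sTop 0 := fun w hw => by
    have := Wt_res f hf (S := sTop) (by decide) hw
    rwa [res_zero] at this
  have a44 : W0 ≤ Wt f hf ρ θ s44 0 := by
    obtain ⟨g, hg⟩ := exists_wel f hf hK (w := [1, 3]) (by decide +kernel)
    obtain ⟨c, -, hA⟩ := hg.act f (S := s44) (S' := s53) (by decide +kernel)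
    intro w hw
    have hst : Stab f ρ W0 g := wel_stab_zero f hf hg (by decide +kernel)
    have := rho_mem_Wt f hf hA (a53 (hst.inv f w hw))
    rw [hA.map_zero, ← Module.End.mul_apply, ← map_mul, mul_inv_cancel, map_one] at this
    exact this
  have aP1 : W0 ≤ Wt f hf ρ θ sP1 0 := by
    by_contra hnot
    have hnot' : ¬ W0 ≤ Wt f hf ρ θ sH4 0 := fun h => hnot fun w hw => by
      have := Wt_res f hf (S := sP1) (by decide) (h hw)
      rwa [res_zero] at this
    have hst71 : ∀ a, Stab f ρ W0 (rg f hf s71 a) := fun a => by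
      rw [rg_ext f hf (S2 := sZ) (by decide) a]
      exact rg_stab f hf (fun _ h => h) _ _
    have hst44 : ∀ a, Stab f ρ W0 (rg f hf sP44 a) := fun a =>
      rg_stab_zero f hf (show (sP44.all fun g => chkMove tabE6 [] sZ g) = true by decide +kernel) a
    obtain ⟨ψ, hψ, hψ0, hne⟩ := exists_wt_ne f hf hK hθ
      (stab_union (S := sP44) (S' := s71) (S2 := sH4) f hf (by decide) (by decide) (by decide) (by decide)
        hst44 hst71) hnot'
    have r44 := res_eq (W := W0) f hf hK hθ (S := s44) (by decide) (fixV f hf s44).zero_mem hψ a44 hne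
    have a71 : W0 ≤ Wt f hf ρ θ s71 0 := fun w hw => by
      have := Wt_res f hf (S := s71) (by decide) hw
      rwa [res_zero] at this
    have r71 := res_eq (W := W0) f hf hK hθ (S := s71) (by decide) (fixV f hf s71).zero_mem hψ a71 hne
    have h44' : co ψ 44 = 0 := congrFun r44 ⟨44, by decide⟩
    have h71' : co ψ 71 = 0 := congrFun r71 ⟨71, by decide⟩
    have h55' : co ψ 55 ≠ 0 := by
      intro h0
      refine hψ0 (co_ext fun a ha => ?_)
      rw [co_of_mem (0 : Ix sH4 → K) ha, Pi.zero_apply]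
      simp only [sH4, List.mem_cons, List.not_mem_nil, or_false] at ha
      rcases ha with rfl | rfl | rfl | rfl
      · exact h44'
      · exact h0
      · have := congrFun hψ ⟨67, by decide⟩
        simp only [sg, show twistE6.rt 67 = 55 by decide +kernel, h0, zero_pow_q f hf, mul_zero] at this
        rw [co_of_mem ψ (show (67 : ℕ) ∈ sH4 by decide), ← this]
      · exact h71'
    obtain ⟨hb, s, hs, hne0, hA⟩ := exists_feed f hf hK
      (show chkFeed sH4 44 (49, 55) (61, 67) = true by decide +kernel) hψ h55' h44'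
      (fun kc hkc => by
        have : (match tgt tabE6 sH4 61 55 with
          | some kc => decide (kc.1 = 71)
          | none => true) = true := by decide +kernel
        rw [hkc] at this
        rw [of_decide_eq_true this]; exact h71')
    have hstg : Stab f ρ W0 (elT f hf hK hb hs) :=
      elT_stab_zero f hf hK hb (by decide +kernel) hs
    have hne' : W0 ⊓ Wt f hf ρ θ sH4 (run tabE6 [(49, 55), (61, 67)] s ψ) ≠ ⊥ := fun e =>
      hne (Submodule.finrank_eq_zero.1 (by rw [← finrank_Wt_eq f hf hstg hA ψ, e, finrank_bot]))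
    have r := res_eq (W := W0) f hf hK hθ (S := s44) (by decide) (fixV f hf s44).zero_mem
      (hA.fixed f hf hK (hom_incl f _) hψ) a44 hne'
    exact hne0 (congrFun r ⟨44, by decide⟩)
  have hle0 : W0 ≤ Wt f hf ρ θ sZw 0 := union3 W0 a51 a53 a44 aP1 aTop
  have hdim : finrank ℂ (Wt f hf ρ θ sZw 0) ≤ finrank ℂ W0 := by
    obtain ⟨g, hg⟩ := exists_wel f hf hK (w := [0, 5]) (by decide +kernel)
    obtain ⟨c, -, hA⟩ := hg.act f (S := sZ) (S' := sZw) (by decide +kernel)
    have := finrank_Wt_le f hf (W := (⊤ : Submodule ℂ V)) (ρ := ρ) (θ := θ) (Stab.top f) hA 0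
    rwa [top_inf_eq, top_inf_eq, hA.map_zero] at this
  have heq := Submodule.eq_of_le_of_finrank_le hle0 hdim
  obtain ⟨w, hw, hw0⟩ := ℓ.ne_bot_iff.1 fun e => by rw [e, finrank_bot] at hℓ; omega
  have h1 : w ∈ W0 := heq ▸ hℓw hw
  have h2 := res_eq (W := (ℂ ∙ w)) f hf hK hθ (S := sZ) (S2 := sZ) (fun _ h => h)
    (hfix65 sZ (by decide +kernel)) (ψ := 0) (fixV f hf sZ).zero_mem
    ((Submodule.span_singleton_le_iff_mem w _).2 (hZ hw))
    ((Submodule.ne_bot_iff _).2 ⟨w, ⟨Submodule.mem_span_singleton_self w, h1⟩, hw0⟩)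
  have := congrFun h2 ⟨65, by decide⟩
  rw [res_zero] at this
  exact zero_ne_one (α := K) this

end CfsgLib.TwE6MinDeg
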