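import Cfsg.Agent.Lib.TwE6MinDeg.Above

/-!
The first level: the degree is large, or the fixed vectors of the first radical are moved by the second.
-/

set_option autoImplicit false
set_option linter.unusedSectionVars false
set_option maxRecDepth 100000
set_option maxHeartbeats 400000

namespace CfsgLib.TwE6MinDeg

open Module Cfsg.Lie CfsgLib.Chev CfsgLib.EMinDeg CfsgLib.SUMinDegree

/-- The pairs of the first half. -/
def sLp : List ℕ := [49, 54, 61, 64]
/-- The pairs of the second half. -/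
def sPp : List ℕ := [36, 41, 56, 58]
/-- A long root. -/
def s71 : List ℕ := [71]
/-- A list. -/
def sP44 : List ℕ := [44, 55, 67]

instance : IsSet sLp := ⟨by decide +kernel⟩
instance : IsSet sPp := ⟨by decide +kernel⟩
instance : IsSet s71 := ⟨by decide +kernel⟩
instance : IsSet sP44 := ⟨by decide +kernel⟩

theorem lg1_chk : chkTop sZ 71
    [(60, [1, 3, 4, 2, 3, 1]), (63, [1, 3, 4, 2, 3]), (65, [1, 3, 4, 2]), (69, [1, 3]), (70, [1])]
    [(21, 66), (23, 68)] = true := by decide +kernel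

theorem ws1_chk : (([(60, [1, 3, 2, 4, 3, 1]), (63, [3, 2, 4, 3, 1]), (65, [2, 4, 3, 1]), (69, [3, 1]),
    (70, [1]), (71, [])] : List (ℕ × List ℕ)).all (chkMoveTo sZ 71)) = true := by decide +kernel

theorem wT_chk : chkMoveTo sZL 71 (65, [2, 4, 3, 1, 3, 2, 4]) = true := by decide +kernel

theorem coch1b : chkCoch [0, 1, 0, 0, 0, 1] 71 60 = true := by decide +kernel
theorem coch1c : chkCoch [0, 0, 0, 0, 0, 1] 60 71 = true := by decide +kernel

theorem long71 : chkLong sZ 71 = true := by decide +kernel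
theorem long60 : chkLong sZ 60 = true := by decide +kernel

variable {K : Type*} [Field K] [Fintype K] {q : ℕ} (f : K →+* K) (hf : ∀ t, f t = t ^ q)
  (hK : Fintype.card K = q ^ 2)
variable {V : Type*} [AddCommGroup V] [Module ℂ V] [FiniteDimensional ℂ V] {θ : AddChar K ℂ} (hθ : θ 1 ≠ 1)
  {ρ : Representation ℂ (Tw f) V}
include hf hK

omit hK in
/-- Elements fixing the weights preserve the weight space. -/
theorem stab_of_fix {S : List ℕ} [IsSet S] {g : Tw f} {Φ : (Ix S → K) → (Ix S → K)}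
    (hA : Act (incl f g) S S Φ) {φ : Ix S → K} (hfix : Φ φ = φ) :
    Stab f ρ (Wt f hf ρ θ S φ) g := fun w hw => by
  have := rho_mem_Wt f hf hA hw
  rwa [hfix] at this

/-- Elements of sequences fixing a weight preserve its space. -/
theorem elT_stab_fix {S A : List ℕ} [IsSet S] {es : List (ℕ × ℕ)} (hb : chkBlocks es = true)
    (hm : (es.all fun e => chkMove tabE6 [] S e.1) = true) (hf' : chkFixes S A es = true)
    {φ : Ix S → K} (hs : Supp A φ) {s : ℕ → K} (hc : Compat q es s) :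
    Stab f ρ (Wt f hf ρ θ S φ) (elT f hf hK hb hc) :=
  stab_of_fix f hf (g := elT f hf hK hb hc) (Φ := run tabE6 es s)
    (act_el (fun x hx => List.all_eq_true.1 hm x hx) s) (run_fix hf' s hs)

include hθ

/-- The two weights of the dichotomy at the first level. -/
theorem top1 (hnt : ¬ (⊤ : Submodule ℂ V) ≤ Wt f hf ρ θ sZ 0) :
    0 < finrank ℂ ((⊤ : Submodule ℂ V) ⊓ Wt f hf ρ θ sZ (one sZ 71 1) : Submodule ℂ V) ∨
      0 < finrank ℂ ((⊤ : Submodule ℂ V) ⊓ Wt f hf ρ θ sZ (two sZ 71 1 60 1) : Submodule ℂ V) :=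
  level_dichotomy f hf hK hθ long71 long60 lg1_chk (fun _ _ _ _ => Stab.top f) (fun _ _ _ => Stab.top f)
    (d := ⟨71, [60, 63, 65, 66, 68, 69, 70, 71], [(53, 63), (51, 65), (50, 66), (48, 68), (47, 69), (46, 70)]⟩)
    (List.all_eq_true.1 chkCells1 _ (by simp [cells1])) rfl (by decide +kernel)
    (fun _ _ => Stab.top f) coch1b coch1b coch1c (torStab_top f) (by decide) (fun _ => Stab.top f) hnt

/-- The first half of the translations. -/
theorem half_one {c : K} (hc : c ^ q = c) (hne : 0 < finrank ℂ (Wt f hf ρ θ sZ (two sZ 71 1 60 c))) :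
    q ^ 4 * finrank ℂ (Wt f hf ρ θ sZL (two sZL 71 1 60 c)) ≤
      finrank ℂ (Wt f hf ρ θ sZ (two sZ 71 1 60 c)) ∧
    0 < finrank ℂ (Wt f hf ρ θ sZL (two sZL 71 1 60 c)) := by
  have hsub : ∀ a ∈ sZ, a ∈ sZL := by decide
  set φ : Ix sZ → K := two sZ 71 1 60 c with hφdef
  set U := Wt f hf ρ θ sZ φ with hUdef
  have hφ : sg q φ = φ := sg_two f hf long71 long60 (one_pow_q f hf) hc
  have hst : ∀ a, Stab f ρ U (rg f hf sZL a) := fun a => rg_stab f hf hsub φ a
  obtain ⟨ψ, hψ, hres, hψne⟩ := exists_above (θ := θ) (ρ := ρ) f hf hK hθ hsub hφ (le_refl U) hst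
    (fun e => by rw [e, finrank_bot] at hne; omega)
  have hcoψ : ∀ a ∈ sZ, co ψ a = co φ a := fun a ha => by
    rw [← hres, co_of_mem (res ψ : Ix sZ → K) ha]; rfl
  have hel : ∀ s : FPar K q shiftL.es, Stab f ρ U (elT f hf hK (Cell.spec chkShiftL).2.1 s.2) := fun s =>
    elT_stab_fix f hf hK (S := sZ) (A := sZ) (Cell.spec chkShiftL).2.1 (by decide +kernel) (by decide +kernel)
      (fun a ha hn => absurd ha hn) s.2
  have hsupp : Supp shiftL.A ψ := by
    intro a ha hn
    have haZ : a ∈ sZ ∧ a ≠ 71 ∧ a ≠ 60 := by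
      have : ∀ x ∈ sZL, x ∉ shiftL.A → x ∈ sZ ∧ x ≠ 71 ∧ x ≠ 60 := by decide
      exact this a ha hn
    rw [hcoψ a haZ.1, co_two haZ.1, if_neg haZ.2.1, if_neg haZ.2.2]
  obtain ⟨φ₀, hφ₀, hs0, hm0, hz0, hkeep, hdim⟩ := normalise (θ := θ) (ρ := ρ) (W := U) f hf hK chkShiftL hψ
    hsupp (by
      show co ψ 71 ≠ 0
      rw [hcoψ 71 (by decide), co_two (by decide), if_pos rfl]; exact one_ne_zero) hel
  have e0 : φ₀ = two sZL 71 1 60 c := co_ext fun a ha => by
    rw [co_two ha]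
    by_cases h1 : a = 71
    · rw [if_pos h1, h1, show (71 : ℕ) = shiftL.m from rfl, hm0, show shiftL.m = 71 from rfl,
        hcoψ 71 (by decide), co_two (by decide), if_pos rfl]
    rw [if_neg h1]
    by_cases h2 : a = 60
    · rw [if_pos h2, h2, hkeep 60 (by decide) (by decide) (List.all_eq_true.1
        (show (shiftL.es.all fun e => outside tabE6 sZL shiftL.A e.1 60) = true by decide +kernel)),
        hcoψ 60 (by decide), co_two (by decide), if_neg (by decide), if_pos rfl]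
    rw [if_neg h2]
    have : ∀ x ∈ sZL, x ≠ 71 → x ≠ 60 → x ∉ shiftL.A ∨ x ∈ shiftL.es.map Prod.snd := by decide
    rcases this a ha h1 h2 with h3 | h3
    · exact hs0 a ha h3
    · obtain ⟨x, hx, rfl⟩ := List.mem_map.1 h3
      exact hz0 x hx
  subst e0
  have hle : Wt f hf ρ θ sZL (two sZL 71 1 60 c) ≤ U := fun w hw => by
    have := Wt_res f hf hsub hw
    have e : (res (two sZL 71 1 60 c) : Ix sZ → K) = φ := funext fun a => by
      show co (two sZL 71 1 60 c) a = φ a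
      rw [co_two (hsub a a.2)]; rfl
    rwa [e] at this
  have hinf : U ⊓ Wt f hf ρ θ sZL (two sZL 71 1 60 c) = Wt f hf ρ θ sZL (two sZL 71 1 60 c) :=
    inf_eq_right.2 hle
  refine ⟨?_, ?_⟩
  · have := shift_le (θ := θ) (ρ := ρ) (W := U) f hf hK hθ chkShiftL hφ₀ hs0
      (by show co (two sZL 71 1 60 c) 71 ≠ 0; rw [co_two (by decide), if_pos rfl]; exact one_ne_zero) hz0 hel
    rwa [hinf] at this
  · rw [← hinf, hdim]
    exact Nat.pos_of_ne_zero fun e => hψne (Submodule.finrank_eq_zero.1 e)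

/-- The second half of the translations, for a weight off the quadric. -/
theorem half_two (hne : 0 < finrank ℂ (Wt f hf ρ θ sZL (two sZL 71 1 60 1))) :
    q ^ 4 ≤ finrank ℂ (Wt f hf ρ θ sZL (two sZL 71 1 60 1)) := by
  set W2 := Wt f hf ρ θ sZL (two sZL 71 1 60 (1 : K)) with hW2
  have hfixAll : ∀ {g : Tw f} {Φ : (Ix sZL → K) → (Ix sZL → K)}, Act (incl f g) sZL sZL Φ →
      Φ (two sZL 71 1 60 1) = two sZL 71 1 60 1 → Stab f ρ W2 g := fun hA he => stab_of_fix f hf hA he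
  have hsupp2 : Supp [60, 71] (two sZL 71 (1 : K) 60 1) := supp_two (by simp) (by simp) _ _
  have hstZ : ∀ a, Stab f ρ W2 (rg f hf sZ a) := fun a => by
    intro w hw
    have hsub : ∀ x ∈ sZ, x ∈ sZL := by decide
    rw [hW2, mem_Wt] at hw ⊢
    intro b
    have e : rg f hf sZL b * rg f hf sZ a = rg f hf sZ a * rg f hf sZL b := incl_injective f (by
      rw [map_mul, map_mul, incl_rg, incl_rg, ← yy_ext (S2 := sZL) hsub, ← AddChar.map_add_eq_mul,
        ← AddChar.map_add_eq_mul, add_comm])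
    rw [← Module.End.mul_apply, ← map_mul, e, map_mul, Module.End.mul_apply, hw, map_smul]
  have hstP : ∀ a, Stab f ρ W2 (rg f hf sPp a) := fun a =>
    hfixAll (act_rg f hf (show (sPp.all fun g => chkMove tabE6 [] sZL g) = true by decide +kernel) a)
      (run_fix (by decide +kernel) _ hsupp2)
  have hst : ∀ a, Stab f ρ W2 (rg f hf sZP a) := fun a =>
    stab_union (S := sZ) (S' := sPp) f hf (by decide) (by decide) (by decide) (by decide) hstZ hstP a
  have hsub : ∀ x ∈ sZ, x ∈ sZP := by decide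
  have hφ : sg q (two sZ 71 (1 : K) 60 1) = two sZ 71 1 60 1 :=
    sg_two f hf long71 long60 (one_pow_q f hf) (one_pow_q f hf)
  have hle : W2 ≤ Wt f hf ρ θ sZ (two sZ 71 1 60 1) := fun w hw => by
    have := Wt_res f hf (S := sZ) (by decide) hw
    have e : (res (two sZL 71 (1 : K) 60 1) : Ix sZ → K) = two sZ 71 1 60 1 := funext fun a => by
      show co (two sZL 71 (1 : K) 60 1) a = two sZ 71 1 60 1 a
      rw [co_two ((by decide : ∀ x ∈ sZ, x ∈ sZL) a a.2)]; rfl
    rwa [e] at this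
  obtain ⟨ψ, hψ, hres, hψne⟩ := exists_above (θ := θ) (ρ := ρ) f hf hK hθ hsub hφ hle hst
    (fun e => by rw [e, finrank_bot] at hne; omega)
  have hcoψ : ∀ a ∈ sZ, co ψ a = co (two sZ 71 (1 : K) 60 1) a := fun a ha => by
    rw [← hres, co_of_mem (res ψ : Ix sZ → K) ha]; rfl
  have hsupp : Supp shiftP.A ψ := by
    intro a ha hn
    have haZ : a ∈ sZ ∧ a ≠ 71 ∧ a ≠ 60 := by
      have : ∀ x ∈ sZP, x ∉ shiftP.A → x ∈ sZ ∧ x ≠ 71 ∧ x ≠ 60 := by decide
      exact this a ha hn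
    rw [hcoψ a haZ.1, co_two haZ.1, if_neg haZ.2.1, if_neg haZ.2.2]
  have hel : ∀ s : FPar K q shiftP.es, Stab f ρ W2 (elT f hf hK (Cell.spec chkShiftP).2.1 s.2) := fun s =>
    elT_stab_fix f hf hK (S := sZL) (A := [60, 71]) (Cell.spec chkShiftP).2.1 (by decide +kernel)
      (by decide +kernel) hsupp2 s.2
  have hm : co ψ shiftP.m ≠ 0 := by
    show co ψ 60 ≠ 0
    rw [hcoψ 60 (by decide), co_two (by decide), if_neg (by decide), if_pos rfl]
    exact one_ne_zero
  obtain ⟨φ₀, hφ₀, hs0, hm0, hz0, -, hdim⟩ :=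
    normalise (θ := θ) (ρ := ρ) (W := W2) f hf hK chkShiftP hψ hsupp hm hel
  have := shift_le (θ := θ) (ρ := ρ) (W := W2) f hf hK hθ chkShiftP hφ₀ hs0 (by rw [hm0]; exact hm) hz0 hel
  refine le_trans ?_ this
  rw [hdim]
  exact Nat.le_mul_of_pos_right _ (Nat.pos_of_ne_zero fun e => hψne (Submodule.finrank_eq_zero.1 e))

/-- A weight off the quadric forces a large degree. -/
theorem big1 (hne : 0 < finrank ℂ (Wt f hf ρ θ sZ (two sZ 71 1 60 1))) :
    q ^ 14 ≤ finrank ℂ V := by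
  obtain ⟨h1, h2⟩ := half_one f hf hK hθ (one_pow_q f hf) hne
  have h3 := half_two f hf hK hθ h2
  have hd : Cell.chk sZ ⟨71, [60, 63, 65, 66, 68, 69, 70, 71],
      [(53, 63), (51, 65), (50, 66), (48, 68), (47, 69), (46, 70)]⟩ = true :=
    List.all_eq_true.1 chkCells1 _ (by simp [cells1])
  have h4 := shift_le (θ := θ) (ρ := ρ) (W := ⊤) f hf hK hθ hd
    (φ₀ := two sZ 71 1 60 1) (sg_two f hf long71 long60 (one_pow_q f hf) (one_pow_q f hf))
    (supp_two (by decide) (by decide) _ _)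
    (by show co (two sZ 71 (1 : K) 60 1) 71 ≠ 0; rw [co_two (by decide), if_pos rfl]; exact one_ne_zero)
    (fun e he => by
      have h0 : ∀ x ∈ [(53, 63), (51, 65), (50, 66), (48, 68), (47, 69), (46, 70)],
          (x : ℕ × ℕ).2 ∈ sZ ∧ x.2 ≠ 71 ∧ x.2 ≠ 60 := by decide
      obtain ⟨a, b, c⟩ := h0 e he
      rw [co_two a, if_neg b, if_neg c])
    (fun _ => Stab.top f)
  rw [top_inf_eq, finrank_top] at h4
  calc q ^ 14 = q ^ 6 * (q ^ 4 * q ^ 4) := by ring
    _ ≤ q ^ 6 * (q ^ 4 * finrank ℂ (Wt f hf ρ θ sZL (two sZL 71 1 60 1))) :=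
        Nat.mul_le_mul_left _ (Nat.mul_le_mul_left _ h3)
    _ ≤ q ^ 6 * finrank ℂ (Wt f hf ρ θ sZ (two sZ 71 1 60 1)) := Nat.mul_le_mul_left _ h1
    _ ≤ finrank ℂ V := h4

/-- The count at the first level. -/
theorem count1 :
    (q - 1) * (q ^ 6 + q ^ 5 + q ^ 4 + q ^ 2 + q + 1) *
        finrank ℂ (Wt f hf ρ θ sZ (one sZ 71 1)) + finrank ℂ (Wt f hf ρ θ sZ 0) ≤ finrank ℂ V := by
  have h := sing_le (θ := θ) (ρ := ρ) (W := ⊤) f hf hK hθ long71 coch1b (torStab_top f) chkCells1 leads1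
    (by decide +kernel) ws1_chk (fun _ _ _ _ => Stab.top f) (by decide) (fun _ _ _ _ _ => Stab.top f)
  rw [top_inf_eq, top_inf_eq, finrank_top] at h
  refine le_of_eq_of_le ?_ h
  simp only [cells1, List.map_cons, List.map_nil, List.sum_cons, List.sum_nil, List.length_cons, List.length_nil]
  ring

section Line

/-- The weights of a line fixed by the stabilising elements are trivial on a fed coordinate. -/
theorem coord_zero {H : List ℕ} [IsSet H] {ℓ : Submodule ℂ V} (hℓ : finrank ℂ ℓ = 1)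
    {k : ℕ} {e e' : ℕ × ℕ} {ψ : Ix H → K} (hψ : sg q ψ = ψ) (hle : ℓ ≤ Wt f hf ρ θ H ψ)
    (hst : ∀ (hb : chkBlocks [e, e'] = true) (s : ℕ → K) (hs : Compat q [e, e'] s),
      Stab f ρ ℓ (elT f hf hK hb hs))
    (hchk : (chkBlocks [e, e'] && chkMove tabE6 [] H e.1 && chkMove tabE6 [] H e'.1 &&
      decide (e.2 ≠ e'.2) && decide (twistE6.rt e.2 = e'.2) &&
      decide (twistE6.rt e'.2 = e.2) && decide (twistE6.ep e.1 = twistE6.ep e'.1) &&
      decide (twistE6.ep e.1 * twistE6.ep e.1 = 1) && decide (e.2 ∈ H) &&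
      (match tgt tabE6 H e.1 e.2 with
      | some kc => decide (kc.1 = k) && decide (kc.2 * kc.2 = 1)
      | none => false) &&
      decide (tgt tabE6 H e'.1 e.2 = none) && decide (tgt tabE6 H e'.1 k = none)) = true) :
    co ψ k = 0 := by
  simp only [Bool.and_eq_true, decide_eq_true_eq] at hchk
  obtain ⟨⟨⟨⟨⟨⟨⟨⟨⟨⟨⟨hb, hm1⟩, hm2⟩, hne⟩, hr⟩, hr'⟩, hep⟩, hee⟩, hH⟩, hm⟩, hn1⟩, hn2⟩ := hchk
  cases ht : tgt tabE6 H e.1 e.2 with
  | none => rw [ht] at hm; exact absurd hm (by simp)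
  | some kc =>
    obtain ⟨k', c⟩ := kc
    simp only [ht, Bool.and_eq_true, decide_eq_true_eq] at hm
    obtain ⟨rfl, hcc⟩ := hm
    let s : ℕ → K := fun a => if a = e.2 then 1 else (twistE6.ep e.1 : K)
    have hse : s e.2 = 1 := if_pos rfl
    have hse' : s e'.2 = (twistE6.ep e.1 : K) := if_neg (Ne.symm hne)
    have hs : Compat q [e, e'] s := by
      intro x hx
      simp only [List.mem_cons, List.not_mem_nil, or_false] at hx
      rcases hx with rfl | rfl
      · rw [hr, hse', hse, one_pow_q f hf, mul_one]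
      · rw [hr', hse', hse, ← hep, int_pow_q f hf]
        exact_mod_cast (congrArg (fun z : ℤ => (z : K)) hee).symm
    have h := line_weight_fixed f hf hK hθ hℓ (hst hb s hs) (Φ := run tabE6 [e, e'] s)
      (act_el (fun x hx => by
        simp only [List.mem_cons, List.not_mem_nil, or_false] at hx
        rcases hx with rfl | rfl <;> assumption) s) hψ hle
    have h2 := congrArg (fun ω => co ω e.2) h
    change co (mv tabE6 e.1 (s e.2) (mv tabE6 e'.1 (s e'.2) ψ)) e.2 = co ψ e.2 at h2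
    rw [co_mv_some ht hH, co_mv_none hn1, co_mv_none hn2, hse, add_eq_left] at h2
    exact (mul_eq_zero.1 h2).resolve_left (mul_ne_zero (int_ne_zero hcc) (neg_ne_zero.2 one_ne_zero))

end Line

end CfsgLib.TwE6MinDeg
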