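import Cfsg.Agent.Lib.TwE6MinDeg.LevelTwo

/-!
The third level inside the fixed vectors of the first two radicals.
-/

set_option autoImplicit false
set_option linter.unusedSectionVars false
set_option maxRecDepth 100000

namespace CfsgLib.TwE6MinDeg

open Module Cfsg.Lie CfsgLib.Chev CfsgLib.EMinDeg CfsgLib.SUMinDegree

theorem lg3_chk : chkTop sZ'' 44 [(39, [4, 2])] [(29, 40), (34, 43)] = true := by decide +kernel
theorem ws3_chk : (([(39, [2, 4]), (44, [])] : List (ℕ × List ℕ)).all (chkMoveTo sZ'' 44)) = true := by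
  decide +kernel
theorem long44 : chkLong sZ'' 44 = true := by decide +kernel
theorem long39 : chkLong sZ'' 39 = true := by decide +kernel
theorem coch3b : chkCoch [0, 0, 0, 0, 0, -1] 44 39 = true := by decide +kernel
theorem coch3c : chkCoch [0, 0, 0, 0, -1, -1] 39 44 = true := by decide +kernel

variable {K : Type*} [Field K] [Fintype K] {q : ℕ} (f : K →+* K) (hf : ∀ t, f t = t ^ q)
  (hK : Fintype.card K = q ^ 2)
variable {V : Type*} [AddCommGroup V] [Module ℂ V] [FiniteDimensional ℂ V] {θ : AddChar K ℂ} (hθ : θ 1 ≠ 1)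
  {ρ : Representation ℂ (Tw f) V}
include hf hK

omit hK in
theorem wel_stab3 {g : Tw f} {w : List ℕ} (hg : IsWel f g w)
    (h : chkInto w sZ sZ = true ∧ chkInto w sZ' sZ' = true) :
    Stab f ρ (Wt f hf ρ θ sZ 0 ⊓ Wt f hf ρ θ sZ' 0 : Submodule ℂ V) g :=
  (wel_stab_zero f hf hg h.1).inf f (wel_stab_zero f hf hg h.2)

theorem elT_stab3 {es : List (ℕ × ℕ)} (hb : chkBlocks es = true)
    (h : ((es.all fun e => chkMove tabE6 [] sZ e.1) && (es.all fun e => chkMove tabE6 [] sZ' e.1)) = true)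
    {s : ℕ → K} (hs : Compat q es s) :
    Stab f ρ (Wt f hf ρ θ sZ 0 ⊓ Wt f hf ρ θ sZ' 0 : Submodule ℂ V) (elT f hf hK hb hs) := by
  rw [Bool.and_eq_true] at h
  exact (elT_stab_zero f hf hK hb h.1 hs).inf f (elT_stab_zero f hf hK hb h.2 hs)

theorem cells3_stab (d : Cell) (hd : d ∈ cells3) (hb : chkBlocks d.es = true) {s : ℕ → K}
    (hs : Compat q d.es s) :
    Stab f ρ (Wt f hf ρ θ sZ 0 ⊓ Wt f hf ρ θ sZ' 0 : Submodule ℂ V) (elT f hf hK hb hs) := by
  refine elT_stab3 f hf hK hb ?_ hs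
  have h : (cells3.all fun d => (d.es.all fun e => chkMove tabE6 [] sZ e.1) &&
      (d.es.all fun e => chkMove tabE6 [] sZ' e.1)) = true := by decide +kernel
  exact List.all_eq_true.1 h d hd

include hθ

/-- The third level gives many doubly fixed vectors. -/
theorem level3 (hnt : ¬ (Wt f hf ρ θ sZ 0 ⊓ Wt f hf ρ θ sZ' 0 : Submodule ℂ V) ≤ Wt f hf ρ θ sZ'' 0) :
    (q - 1) * (q ^ 2 + 1) ≤ finrank ℂ (Wt f hf ρ θ sZ 0 ⊓ Wt f hf ρ θ sZ' 0 : Submodule ℂ V) ∨
      (q - 1) ^ 2 * q ^ 2 ≤ finrank ℂ (Wt f hf ρ θ sZ 0 ⊓ Wt f hf ρ θ sZ' 0 : Submodule ℂ V) := by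
  classical
  have hW : TorStab f ρ (Wt f hf ρ θ sZ 0 ⊓ Wt f hf ρ θ sZ' 0 : Submodule ℂ V) :=
    (torStab_wt_zero f hf).inf f (torStab_wt_zero f hf)
  have hi : ∀ p ∈ ([(39, [4, 2]), (39, [2, 4]), (44, [])] : List (ℕ × List ℕ)),
      chkInto p.2 sZ sZ = true ∧ chkInto p.2 sZ' sZ' = true := by decide +kernel
  have hS : ∀ a, Stab f ρ (Wt f hf ρ θ sZ 0 ⊓ Wt f hf ρ θ sZ' 0 : Submodule ℂ V) (rg f hf sZ'' a) :=
    fun a => (rg_stab_zero f hf (by decide +kernel) a).inf f (rg_stab_zero f hf (by decide +kernel) a)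
  rcases level_dichotomy f hf hK hθ long44 long39 lg3_chk
    (fun l hl g hg => wel_stab3 f hf hg (hi l (by
      simp only [List.mem_cons, List.not_mem_nil, or_false] at hl ⊢; exact Or.inl hl)))
    (fun hb s hs => elT_stab3 f hf hK hb (by decide +kernel) hs)
    (d := ⟨44, [39, 40, 43, 44], [(42, 40), (37, 43)]⟩)
    (List.all_eq_true.1 chkCells3 _ (by simp [cells3])) rfl (by decide +kernel)
    (fun hb hs => elT_stab3 f hf hK hb (by decide +kernel) hs) coch3b coch3b coch3c hW (by decide) hS hnt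
    with h | h
  · left
    have h' := sing_le (θ := θ) (ρ := ρ) f hf hK hθ long44 coch3b hW chkCells3 leads3 (by decide +kernel)
      ws3_chk (fun p hp g hg => wel_stab3 f hf hg (hi p (List.mem_cons_of_mem _ hp))) (by decide)
      (fun d hd hb s hs => cells3_stab f hf hK d hd hb hs)
    refine le_trans ?_ ((Nat.le_add_right _ _).trans h')
    refine le_trans (le_of_eq ?_) (Nat.le_mul_of_pos_right _ h)
    simp [cells3]
  · right
    let Fu := {u : Kˣ // u ^ (q - 1) = 1}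
    let b : Fu × Fu → Ix sZ'' → K := fun p => two sZ'' 44 (p.1.1 : K) 39 (p.2.1 : K)
    have hz : (0 : ℕ) < cells3.length := by decide
    have key := family_le (θ := θ) (ρ := ρ) (W := Wt f hf ρ θ sZ 0 ⊓ Wt f hf ρ θ sZ' 0) f hf hK hθ
      (List.all_eq_true.1 chkCells3) leads3 (fun _ => ⟨0, hz⟩) b (fun p => ?_) (fun i j _ e2 => ?_)
      (fun p => sg_two f hf long44 long39 (fu_fixed f hf hK p.1) (fu_fixed f hf hK p.2))
      (fun i s => cells3_stab f hf hK _ (List.get_mem _ _) _ s.2) (D := 1) (fun p => ?_)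
    · refine le_trans ?_ (le_trans (Nat.le_add_right _ _) key)
      have hF : Fintype.card Fu = q - 1 := card_fu f hf hK
      simp only [mul_one, cells3, List.get_eq_getElem, List.getElem_cons_zero, List.length_cons,
        List.length_nil, Finset.sum_const, Finset.card_univ, Fintype.card_prod, smul_eq_mul]
      rw [hF]
      apply le_of_eq
      ring
    · refine ⟨supp_two (show 44 ∈ [39, 40, 43, 44] by simp) (show 39 ∈ [39, 40, 43, 44] by simp) _ _,
        ?_, fun e he => ?_⟩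
      · show co (two sZ'' 44 (p.1.1 : K) 39 (p.2.1 : K)) 44 ≠ 0
        rw [co_two (by decide), if_pos rfl]; exact p.1.1.ne_zero
      · have h0 : ∀ x ∈ ([(42, 40), (37, 43)] : List (ℕ × ℕ)), x.2 ∈ sZ'' ∧ x.2 ≠ 44 ∧ x.2 ≠ 39 := by
          decide
        obtain ⟨a1, a2, a3⟩ := h0 e he
        show co (two sZ'' 44 (p.1.1 : K) 39 (p.2.1 : K)) e.2 = 0
        rw [co_two a1, if_neg a2, if_neg a3]
    · have h1 := congrFun e2 ⟨44, by decide⟩
      have h2 := congrFun e2 ⟨39, by decide⟩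
      simp [b, two] at h1 h2
      exact Prod.ext (Subtype.ext (Units.ext h1)) (Subtype.ext (Units.ext h2))
    · refine le_trans h ?_
      show _ ≤ finrank ℂ (_ ⊓ Wt f hf ρ θ sZ'' (two sZ'' 44 (p.1.1 : K) 39 (p.2.1 : K)) : Submodule ℂ V)
      have hswap : ∀ x y : K, two sZ'' 39 x 44 y = two sZ'' 44 y 39 x := fun x y => funext fun b => by
        simp only [two]
        split_ifs with h1 h2 <;> first | rfl | omega
      have e1 := dim_scale (θ := θ) (W := Wt f hf ρ θ sZ 0 ⊓ Wt f hf ρ θ sZ' 0) (ρ := ρ) f hf hK hW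
        (show 44 ∈ sZ'' by decide) coch3b (fu_fixed f hf hK p.1) p.1.1.ne_zero 1 (p.2.1 : K)
      have e2 := dim_scale (θ := θ) (W := Wt f hf ρ θ sZ 0 ⊓ Wt f hf ρ θ sZ' 0) (ρ := ρ) f hf hK hW
        (show 39 ∈ sZ'' by decide) coch3c (fu_fixed f hf hK p.2) p.2.1.ne_zero 1 1
      rw [hswap, hswap, mul_one] at e2
      rw [mul_one] at e1
      rw [e1, e2]

omit hθ hK in
/-- Vectors fixed by the third radical are fixed by its test root. -/
theorem wt3_le : Wt f hf ρ θ sZ'' 0 ≤ Wt f hf ρ θ s44 0 := fun w hw => by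
  have := Wt_res f hf (S := s44) (by decide) hw
  rwa [res_zero] at this

end CfsgLib.TwE6MinDeg
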