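import Cfsg.Agent.Lib.TwE6MinDeg.Key

/-!
The second level inside the fixed vectors of the first radical.
-/

set_option autoImplicit false
set_option linter.unusedSectionVars false
set_option maxRecDepth 100000

namespace CfsgLib.TwE6MinDeg

open Module Cfsg.Lie CfsgLib.Chev CfsgLib.EMinDeg CfsgLib.SUMinDegree

/-- A cell clearing the bottom coordinate under a short one. -/
def cell47s : Cell := ⟨47, [46, 47, 48, 50], [(39, 46)]⟩
/-- A cell clearing the bottom coordinate. -/
def cell51a : Cell := ⟨51, [46, 47, 48, 50, 51], [(44, 46)]⟩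
/-- A cell clearing the short coordinate. -/
def cell51b : Cell := ⟨51, [46, 47, 48, 50, 51], [(42, 48), (37, 50)]⟩

theorem chk47s : cell47s.chk sZ' = true := by decide +kernel
theorem chk51a : cell51a.chk sZ' = true := by decide +kernel
theorem chk51b : cell51b.chk sZ' = true := by decide +kernel

theorem lg2_chk : chkTop sZ' 53 [(46, [3, 4, 2, 3]), (47, [3, 4, 2]), (51, [3])] [(28, 48), (31, 50)] = true := by
  decide +kernel

theorem ws2_chk : (([(46, [3, 2, 4, 3]), (47, [2, 4, 3]), (51, [3]), (53, [])] : List (ℕ × List ℕ)).all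
    (chkMoveTo sZ' 53)) = true := by decide +kernel

theorem long53 : chkLong sZ' 53 = true := by decide +kernel
theorem long46 : chkLong sZ' 46 = true := by decide +kernel
theorem long51 : chkLong sZ' 51 = true := by decide +kernel
theorem long47 : chkLong sZ' 47 = true := by decide +kernel

theorem coch2b : chkCoch [0, 0, 0, 0, 0, -1] 53 46 = true := by decide +kernel
theorem coch2c : chkCoch [0, 0, 0, -1, 0, -1] 46 53 = true := by decide +kernel

theorem img_two {R : Type*} [Field R] {S S' : List ℕ} (r : ℕ → ℕ) (c : Ix S → R) {m o m' o' : ℕ}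
    (hm : m' ∈ S) (ho : o' ∈ S) (h1 : r m' = m) (h2 : r o' = o)
    (h3 : ∀ b ∈ S, (r b = m → b = m') ∧ (r b = o → b = o') ∧ r b ∈ S') (a d : R) :
    (fun b : Ix S => c b * co (two S' m a o d) (r b)) =
      two S m' (c ⟨m', hm⟩ * a) o' (c ⟨o', ho⟩ * d) := by
  funext b
  obtain ⟨x, hx⟩ := b
  obtain ⟨e1, e2, e3⟩ := h3 x hx
  rw [co_two e3]
  show c _ * _ = if x = m' then _ else if x = o' then _ else _
  by_cases a1 : x = m'
  · subst a1; rw [if_pos rfl, if_pos h1]
  · rw [if_neg a1, if_neg fun e => a1 (e1 e)]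
    by_cases a2 : x = o'
    · subst a2; rw [if_pos rfl, if_pos h2]
    · rw [if_neg a2, if_neg fun e => a2 (e2 e), mul_zero]

theorem feed51 : chkFeed sZ' 51 (29, 48) (34, 50) = true := by decide +kernel

variable {K : Type*} [Field K] [Fintype K] {q : ℕ} (f : K →+* K) (hf : ∀ t, f t = t ^ q)
  (hK : Fintype.card K = q ^ 2)
variable {V : Type*} [AddCommGroup V] [Module ℂ V] [FiniteDimensional ℂ V] {θ : AddChar K ℂ} (hθ : θ 1 ≠ 1)
  {ρ : Representation ℂ (Tw f) V}
include hf hK

theorem card_fu [Fintype {u : Kˣ // u ^ (q - 1) = 1}] :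
    Fintype.card {u : Kˣ // u ^ (q - 1) = 1} = q - 1 := by
  classical
  rw [← Nat.card_eq_fintype_card, card_units_pow_eq_one, Nat.gcd_eq_right (dvd_card_E6 hK)]

theorem fu_fixed (u : {u : Kˣ // u ^ (q - 1) = 1}) : ((u.1 : K)) ^ q = u.1 := by
  have h2 := two_le_q hK
  have e : (u.1 : K) ^ (q - 1 + 1) = u.1 := by
    rw [pow_succ, ← Units.val_pow_eq_pow_val, u.2, Units.val_one, one_mul]
  rwa [Nat.sub_add_cancel (by omega)] at e

theorem fu_of {a : K} (ha : a ^ q = a) (ha0 : a ≠ 0) :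
    ∃ u : {u : Kˣ // u ^ (q - 1) = 1}, (u.1 : K) = a := by
  refine ⟨⟨Units.mk0 a ha0, Units.ext ?_⟩, rfl⟩
  rw [Units.val_pow_eq_pow_val, Units.val_mk0, Units.val_one]
  refine mul_right_cancel₀ ha0 ?_
  rw [← pow_succ, Nat.sub_add_cancel (by have := two_le_q hK; omega), ha, one_mul]

include hθ

/-- The two weights of the second level. -/
theorem top2 (hnt : ¬ Wt f hf ρ θ sZ 0 ≤ Wt f hf ρ θ sZ' 0) :
    0 < finrank ℂ (Wt f hf ρ θ sZ 0 ⊓ Wt f hf ρ θ sZ' (one sZ' 53 1) : Submodule ℂ V) ∨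
      0 < finrank ℂ (Wt f hf ρ θ sZ 0 ⊓ Wt f hf ρ θ sZ' (two sZ' 53 1 46 1) : Submodule ℂ V) := by
  have hi : ∀ w ∈ ([[3, 4, 2, 3], [3, 4, 2], [3]] : List (List ℕ)), chkInto w sZ sZ = true := by
    decide +kernel
  refine level_dichotomy f hf hK hθ long53 long46 lg2_chk (fun l hl g hg => wel_stab_zero f hf hg (hi _ ?_))
    (fun hb s hs => elT_stab_zero f hf hK hb (by decide +kernel) hs)
    (d := ⟨53, [46, 47, 48, 50, 51, 53], [(44, 47), (43, 48), (40, 50), (39, 51)]⟩)
    (List.all_eq_true.1 chkCells2 _ (by simp [cells2])) rfl (by decide +kernel)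
    (fun hb hs => elT_stab_zero f hf hK hb (by decide +kernel) hs) coch2b coch2b coch2c
    (torStab_wt_zero f hf) (by decide) (fun a => rg_stab_zero f hf (by decide +kernel) a) hnt
  simp only [List.mem_cons, List.not_mem_nil, or_false] at hl ⊢
  rcases hl with rfl | rfl | rfl <;> simp

theorem cells2_stab (d : Cell) (hd : d ∈ cells2) (hb : chkBlocks d.es = true) {s : ℕ → K}
    (hs : Compat q d.es s) : Stab f ρ (Wt f hf ρ θ sZ 0) (elT f hf hK hb hs) := by
  refine elT_stab_zero f hf hK hb ?_ hs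
  have h : (cells2.all fun d => d.es.all fun e => chkMove tabE6 [] sZ e.1) = true := by decide +kernel
  exact List.all_eq_true.1 h d hd

/-- The count at the second level. -/
theorem count2 :
    (q - 1) * (q ^ 4 + q ^ 3 + q + 1) *
        finrank ℂ (Wt f hf ρ θ sZ 0 ⊓ Wt f hf ρ θ sZ' (one sZ' 53 1) : Submodule ℂ V) +
      finrank ℂ (Wt f hf ρ θ sZ 0 ⊓ Wt f hf ρ θ sZ' 0 : Submodule ℂ V) ≤
      finrank ℂ (Wt f hf ρ θ sZ 0 : Submodule ℂ V) := by
  have hi : ∀ p ∈ ([(46, [3, 2, 4, 3]), (47, [2, 4, 3]), (51, [3]), (53, [])] : List (ℕ × List ℕ)),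
      chkInto p.2 sZ sZ = true := by decide +kernel
  have h := sing_le (θ := θ) (ρ := ρ) (W := Wt f hf ρ θ sZ 0) f hf hK hθ long53 coch2b
    (torStab_wt_zero f hf) chkCells2 leads2 (by decide +kernel) ws2_chk
    (fun p hp g hg => wel_stab_zero f hf hg (hi p hp)) (by decide)
    (fun d hd hb s hs => cells2_stab f hf hK hθ d hd hb hs)
  refine le_of_eq_of_le ?_ h
  simp only [cells2, List.map_cons, List.map_nil, List.sum_cons, List.sum_nil, List.length_cons,
    List.length_nil]
  ring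

/-- Weights off the quadric force many dimensions. -/
theorem big2 (hne : 0 < finrank ℂ (Wt f hf ρ θ sZ 0 ⊓ Wt f hf ρ θ sZ' (two sZ' 53 1 46 1) : Submodule ℂ V)) :
    (q - 1) ^ 2 * q ^ 4 + q ^ 3 ≤ finrank ℂ (Wt f hf ρ θ sZ 0 : Submodule ℂ V) := by
  classical
  obtain ⟨g, hg⟩ := exists_wel f hf hK (w := [3]) (by decide +kernel)
  obtain ⟨c, hc, hA⟩ := hg.act f (S := sZ') (S' := sZ') (by decide +kernel)
  have hst : Stab f ρ (Wt f hf ρ θ sZ 0) g := wel_stab_zero f hf hg (by decide +kernel)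
  have hrw : rword tabE6 ([3] : List ℕ).reverse 51 = 53 ∧ rword tabE6 ([3] : List ℕ).reverse 47 = 46 ∧
      ∀ b ∈ sZ', (rword tabE6 ([3] : List ℕ).reverse b = 53 → b = 51) ∧
        (rword tabE6 ([3] : List ℕ).reverse b = 46 → b = 47) ∧ rword tabE6 ([3] : List ℕ).reverse b ∈ sZ' := by
    decide +kernel
  obtain ⟨hr1, hr2, hr3⟩ := hrw
  set d1 := c ⟨51, by decide⟩ with hd1
  set d2 := c ⟨47, by decide⟩ with hd2'
  have himg : (fun b : Ix sZ' => c b * co (two sZ' 53 (1 : K) 46 1) (rword tabE6 ([3] : List ℕ).reverse b)) =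
      two sZ' 51 d1 47 d2 := by
    rw [img_two _ c (show 51 ∈ sZ' by decide) (show 47 ∈ sZ' by decide) hr1 hr2 hr3, mul_one, mul_one]
  have hφ : sg q (two sZ' 53 (1 : K) 46 1) = two sZ' 53 1 46 1 :=
    sg_two f hf long53 long46 (one_pow_q f hf) (one_pow_q f hf)
  have himgf := hA.fixed f hf hK (hom_incl f g) hφ
  have hdim2 := finrank_Wt_eq f hf hst hA (two sZ' 53 (1 : K) 46 1) (θ := θ)
  simp only [himg] at himgf
  have hd2 : 0 < finrank ℂ (Wt f hf ρ θ sZ 0 ⊓ Wt f hf ρ θ sZ' (two sZ' 51 d1 47 d2) : Submodule ℂ V) := by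
    rw [← himg]; exact hne.trans_eq hdim2.symm
  let Fu := {u : Kˣ // u ^ (q - 1) = 1}
  let k : (Fu × Fu) ⊕ Unit → Fin cells2.length := fun i =>
    i.elim (fun _ => ⟨0, by decide⟩) (fun _ => ⟨1, by decide⟩)
  let b : (Fu × Fu) ⊕ Unit → Ix sZ' → K := fun i =>
    i.elim (fun p => two sZ' 53 (p.1.1 : K) 46 (p.2.1 : K)) (fun _ => two sZ' 51 d1 47 d2)
  have key := family_le (θ := θ) (ρ := ρ) (W := Wt f hf ρ θ sZ 0) f hf hK hθ
    (List.all_eq_true.1 chkCells2) leads2 k b (fun i => ?_) (fun i j e1 e2 => ?_) (fun i => ?_)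
    (fun i s => cells2_stab f hf hK hθ _ (List.get_mem _ _) _ s.2) (D := 1) (fun i => ?_)
  · refine le_trans ?_ (le_trans (Nat.le_add_right _ _) key)
    rw [mul_one, Fintype.sum_sum_type]
    have hF : Fintype.card Fu = q - 1 := card_fu f hf hK
    simp only [k, Sum.elim_inl, Sum.elim_inr, cells2, List.get_eq_getElem, List.getElem_cons_zero,
      List.getElem_cons_succ, List.length_cons, List.length_nil, Finset.sum_const, Finset.card_univ,
      Fintype.card_prod, Fintype.card_unit, smul_eq_mul, one_mul]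
    rw [hF]
    apply le_of_eq
    ring
  · rcases i with p | u
    · refine ⟨supp_two (show 53 ∈ [46, 47, 48, 50, 51, 53] by simp)
        (show 46 ∈ [46, 47, 48, 50, 51, 53] by simp) _ _, ?_, fun e he => ?_⟩
      · show co (two sZ' 53 (p.1.1 : K) 46 (p.2.1 : K)) 53 ≠ 0
        rw [co_two (by decide), if_pos rfl]; exact p.1.1.ne_zero
      · have h0 : ∀ x ∈ ([(44, 47), (43, 48), (40, 50), (39, 51)] : List (ℕ × ℕ)),
            x.2 ∈ sZ' ∧ x.2 ≠ 53 ∧ x.2 ≠ 46 := by decide
        obtain ⟨a1, a2, a3⟩ := h0 e he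
        show co (two sZ' 53 (p.1.1 : K) 46 (p.2.1 : K)) e.2 = 0
        rw [co_two a1, if_neg a2, if_neg a3]
    · refine ⟨supp_two (show 51 ∈ [46, 47, 48, 50, 51] by simp) (show 47 ∈ [46, 47, 48, 50, 51] by simp) _ _,
        ?_, fun e he => ?_⟩
      · show co (two sZ' 51 d1 47 d2) 51 ≠ 0
        rw [co_two (by decide), if_pos rfl]; exact hc _
      · have h0 : ∀ x ∈ ([(44, 46), (42, 48), (37, 50)] : List (ℕ × ℕ)), x.2 ∈ sZ' ∧ x.2 ≠ 51 ∧ x.2 ≠ 47 := by
          decide
        obtain ⟨a1, a2, a3⟩ := h0 e he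
        show co (two sZ' 51 d1 47 d2) e.2 = 0
        rw [co_two a1, if_neg a2, if_neg a3]
  · rcases i with p | u <;> rcases j with p' | u'
    · have h1 := congrFun e2 ⟨53, by decide⟩
      have h2 := congrFun e2 ⟨46, by decide⟩
      simp [b, two] at h1 h2
      rw [Prod.ext (Subtype.ext (Units.ext h1)) (Subtype.ext (Units.ext h2)) (x := p) (y := p')]
    · simp [k] at e1
    · simp [k] at e1
    · rfl
  · rcases i with p | u
    · exact sg_two f hf long53 long46 (fu_fixed f hf hK p.1) (fu_fixed f hf hK p.2)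
    · exact himgf
  · rcases i with p | u
    · refine le_trans hne ?_
      show _ ≤ finrank ℂ (_ ⊓ Wt f hf ρ θ sZ' (two sZ' 53 (p.1.1 : K) 46 (p.2.1 : K)) : Submodule ℂ V)
      have hswap : ∀ x y : K, two sZ' 46 x 53 y = two sZ' 53 y 46 x := fun x y => funext fun b => by
        simp only [two]
        split_ifs with h1 h2 <;> first | rfl | omega
      have e1 := dim_scale (θ := θ) (W := Wt f hf ρ θ sZ 0) (ρ := ρ) f hf hK (torStab_wt_zero f hf)
        (show 53 ∈ sZ' by decide) coch2b (fu_fixed f hf hK p.1) p.1.1.ne_zero 1 (p.2.1 : K)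
      have e2 := dim_scale (θ := θ) (W := Wt f hf ρ θ sZ 0) (ρ := ρ) f hf hK (torStab_wt_zero f hf)
        (show 46 ∈ sZ' by decide) coch2c (fu_fixed f hf hK p.2) p.2.1.ne_zero 1 1
      rw [hswap, hswap, mul_one] at e2
      rw [mul_one] at e1
      rw [e1, e2]
    · exact hd2

theorem cover_le {S : List ℕ} [IsSet S] {W W' : Submodule ℂ V} (hW : W ≤ W')
    (hst : ∀ a, Stab f ρ W (rg f hf S a)) {ι : Type*} [Fintype ι] (φ : ι → Ix S → K)
    (h1 : ∀ i, finrank ℂ (W' ⊓ Wt f hf ρ θ S (φ i) : Submodule ℂ V) ≤ 1)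
    (hc : ∀ χ, sg q χ = χ → χ ≠ 0 → W ⊓ Wt f hf ρ θ S χ ≠ ⊥ → ∃ i, φ i = χ) :
    finrank ℂ W ≤ Fintype.card ι + finrank ℂ (W' ⊓ Wt f hf ρ θ S 0 : Submodule ℂ V) := by
  classical
  have h := finrank_le_sum f hf hK hθ hst (fun o : Option ι => o.elim 0 φ) (fun χ hχ hne => by
    by_cases h0 : χ = 0
    · exact ⟨none, h0.symm⟩
    · obtain ⟨i, hi⟩ := hc χ hχ h0 hne
      exact ⟨some i, hi⟩)
  refine h.trans ?_
  rw [Fintype.sum_option, add_comm]
  refine Nat.add_le_add ?_ (Submodule.finrank_mono (inf_le_inf_right _ hW))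
  calc ∑ i, finrank ℂ (W ⊓ Wt f hf ρ θ S (Option.elim (some i) 0 φ) : Submodule ℂ V)
      ≤ ∑ _i : ι, 1 := Finset.sum_le_sum fun i _ =>
        (Submodule.finrank_mono (inf_le_inf_right _ hW)).trans (h1 i)
    _ = Fintype.card ι := by rw [Finset.sum_const, Finset.card_univ, smul_eq_mul, mul_one]

section NoBig

variable (hB : finrank ℂ (Wt f hf ρ θ sZ 0 ⊓ Wt f hf ρ θ sZ' (two sZ' 53 1 46 1) : Submodule ℂ V) = 0)
include hB

theorem no_two {a c : K} (ha : a ^ q = a) (hc : c ^ q = c) (ha0 : a ≠ 0)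
    (hne : Wt f hf ρ θ sZ 0 ⊓ Wt f hf ρ θ sZ' (two sZ' 51 a 47 c) ≠ ⊥) : c = 0 := by
  by_contra hc0
  obtain ⟨g, hg⟩ := exists_wel f hf hK (w := [3]) (by decide +kernel)
  obtain ⟨d, hd, hA⟩ := hg.act f (S := sZ') (S' := sZ') (by decide +kernel)
  have hst : Stab f ρ (Wt f hf ρ θ sZ 0) g := wel_stab_zero f hf hg (by decide +kernel)
  have hrw : rword tabE6 ([3] : List ℕ).reverse 53 = 51 ∧ rword tabE6 ([3] : List ℕ).reverse 46 = 47 ∧
      ∀ b ∈ sZ', (rword tabE6 ([3] : List ℕ).reverse b = 51 → b = 53) ∧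
        (rword tabE6 ([3] : List ℕ).reverse b = 47 → b = 46) ∧ rword tabE6 ([3] : List ℕ).reverse b ∈ sZ' := by
    decide +kernel
  obtain ⟨hr1, hr2, hr3⟩ := hrw
  have himg : (fun b : Ix sZ' => d b * co (two sZ' 51 a 47 c) (rword tabE6 ([3] : List ℕ).reverse b)) =
      two sZ' 53 (d ⟨53, by decide⟩ * a) 46 (d ⟨46, by decide⟩ * c) :=
    img_two _ d (show 53 ∈ sZ' by decide) (show 46 ∈ sZ' by decide) hr1 hr2 hr3 a c
  have hfx := hA.fixed f hf hK (hom_incl f g) (sg_two f hf long51 long47 ha hc)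
  simp only [himg] at hfx
  have e := finrank_Wt_eq f hf hst hA (two sZ' 51 a 47 c) (θ := θ)
  have hX := co_fixed hfx long53
  have hY := co_fixed hfx long46
  rw [co_two (by decide), if_pos rfl] at hX
  rw [co_two (by decide), if_neg (by decide), if_pos rfl] at hY
  have hswap : ∀ x y : K, two sZ' 46 x 53 y = two sZ' 53 y 46 x := fun x y => funext fun b => by
    simp only [two]
    split_ifs with h1 h2 <;> first | rfl | omega
  have e1 := dim_scale (θ := θ) (W := Wt f hf ρ θ sZ 0) (ρ := ρ) f hf hK (torStab_wt_zero f hf)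
    (show 53 ∈ sZ' by decide) coch2b hX (mul_ne_zero (hd _) ha0) 1 (d ⟨46, by decide⟩ * c)
  have e2 := dim_scale (θ := θ) (W := Wt f hf ρ θ sZ 0) (ρ := ρ) f hf hK (torStab_wt_zero f hf)
    (show 46 ∈ sZ' by decide) coch2c hY (mul_ne_zero (hd _) hc0) 1 1
  rw [hswap, hswap, mul_one] at e2
  rw [mul_one] at e1
  refine hne (Submodule.finrank_eq_zero.1 ?_)
  rw [← e, himg, e1, e2, hB]

/-- A pure weight with a long and a short coordinate does not occur. -/
theorem no_pure {ω : Ix sZ' → K} (hω : sg q ω = ω) (h51 : co ω 51 ≠ 0) (h48 : co ω 48 ≠ 0)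
    (h53 : co ω 53 = 0) (h47 : co ω 47 = 0) (h46 : co ω 46 = 0) :
    Wt f hf ρ θ sZ 0 ⊓ Wt f hf ρ θ sZ' ω = ⊥ := by
  classical
  by_contra hne
  have hsupp : Supp cell51b.A ω := fun x hx hn => by
    have : ∀ y ∈ sZ', y ∉ cell51b.A → y = 53 := by decide
    rw [this x hx hn, h53]
  have hel : ∀ s : FPar K q cell51b.es, Stab f ρ (Wt f hf ρ θ sZ 0) (elT f hf hK (Cell.spec chk51b).2.1 s.2) :=
    fun s => elT_stab_zero f hf hK _ (by decide +kernel) s.2
  obtain ⟨s, φ₀, e, hφ₀, hs0, hm0, hz0⟩ := clear f hf hK chk51b hω hsupp h51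
  have hm : cell51b.m = 51 := rfl
  rw [hm] at hm0
  have h48z : co φ₀ 48 = 0 := hz0 (42, 48) (by simp [cell51b])
  have h50z : co φ₀ 50 = 0 := hz0 (37, 50) (by simp [cell51b])
  have hkeep : ∀ b ∈ [46, 53], co φ₀ b = co ω b := by
    intro b hb
    rw [← e]
    have h := (show (([46, 53] : List ℕ).all fun b => cell51b.es.all fun e =>
      outside tabE6 sZ' cell51b.A e.1 b) = true by decide +kernel)
    exact (run_other (Cell.spec chk51b).1 _ hs0 b (List.all_eq_true.1 (List.all_eq_true.1 h b hb))).symm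
  have e0 : φ₀ = two sZ' 51 (co φ₀ 51) 47 (co φ₀ 47) := co_ext fun x hx => by
    rw [co_two hx]
    simp only [sZ', List.mem_cons, List.not_mem_nil, or_false] at hx
    rcases hx with rfl | rfl | rfl | rfl | rfl | rfl
    · simp [hkeep 46 (by simp), h46]
    · simp
    · simp [h48z]
    · simp [h50z]
    · simp
    · simp [hkeep 53 (by simp), h53]
  have hne0 : Wt f hf ρ θ sZ 0 ⊓ Wt f hf ρ θ sZ' φ₀ ≠ ⊥ := fun e' => hne (Submodule.finrank_eq_zero.1 (by
    rw [← e, finrank_Wt_eq f hf (hel s) (cpt_act f hf hK chk51b s) φ₀, e', finrank_bot]))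
  have hc0 : co φ₀ 47 = 0 := no_two f hf hK hθ hB (co_fixed hφ₀ long51) (co_fixed hφ₀ long47)
    (by rw [hm0]; exact h51) (by rw [← e0]; exact hne0)
  have hT : (match tgt tabE6 sZ' 42 47, tgt tabE6 sZ' 37 50, tgt tabE6 sZ' 42 48, tgt tabE6 sZ' 37 47 with
    | some a, some b, some c, some d => decide (a.1 = 50) && decide (b.1 = 51) && decide (c.1 = 51) &&
        decide (d.1 = 48) && decide (a.2 * a.2 = 1) && decide (b.2 * b.2 = 1) &&
        decide (tgt tabE6 sZ' 37 48 = none)
    | _, _, _, _ => false) = true := by decide +kernel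
  cases t1 : tgt tabE6 sZ' 42 47 with
  | none => rw [t1] at hT; exact absurd hT (by simp)
  | some a =>
  cases t2 : tgt tabE6 sZ' 37 50 with
  | none => rw [t1, t2] at hT; exact absurd hT (by simp)
  | some b =>
  cases t3 : tgt tabE6 sZ' 42 48 with
  | none => rw [t1, t2, t3] at hT; exact absurd hT (by simp)
  | some c =>
  cases t4 : tgt tabE6 sZ' 37 47 with
  | none => rw [t1, t2, t3, t4] at hT; exact absurd hT (by simp)
  | some d =>
  obtain ⟨a, ca⟩ := a
  obtain ⟨b, cb⟩ := b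
  obtain ⟨c, cc⟩ := c
  obtain ⟨d, cd⟩ := d
  simp only [t1, t2, t3, t4, Bool.and_eq_true, decide_eq_true_eq] at hT
  obtain ⟨⟨⟨⟨⟨⟨rfl, rfl⟩, rfl⟩, rfl⟩, hca⟩, hcb⟩, t5⟩ := hT
  set σ := ext0 s.1 with hσ
  have e48 := congrArg (fun ω => co ω 48) e
  change co (mv tabE6 42 (σ 48) (mv tabE6 37 (σ 50) φ₀)) 48 = co ω 48 at e48
  have t6 : tgt tabE6 sZ' 37 51 = none := by decide +kernel
  rw [co_mv_some t3 (by decide), co_mv_none t5, co_mv_none t6, h48z, zero_add] at e48
  have hs48 : σ 48 ≠ 0 := fun e0' => h48 (by rw [← e48, e0']; simp)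
  have hs50 : σ 50 ≠ 0 := by
    have hcomp := s.2 (42, 48) (by simp [cell51b])
    rw [show twistE6.rt 48 = 50 by decide +kernel, ← hσ] at hcomp
    rw [hcomp]
    refine mul_ne_zero (int_ne_zero ?_) (pow_ne_zero _ hs48)
    exact (tw_spec (show 42 < tabE6.n by decide)).2.2.2.2
  have e47 := congrArg (fun ω => co ω 47) e
  change co (mv tabE6 42 (σ 48) (mv tabE6 37 (σ 50) φ₀)) 47 = co ω 47 at e47
  rw [co_mv_some t1 (by decide), co_mv_some t4 (by decide), co_mv_some t2 (by decide), hc0, h48z, h50z,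
    h47, mul_zero, zero_add, zero_add, zero_add, hm0] at e47
  exact mul_ne_zero (mul_ne_zero (int_ne_zero hca) (neg_ne_zero.2 hs48))
    (mul_ne_zero (mul_ne_zero (int_ne_zero hcb) (neg_ne_zero.2 hs50)) h51) e47

/-- The weights vanishing at the top are in the lower cells. -/
theorem classify {χ : Ix sZ' → K} (hχ : sg q χ = χ) (h53 : co χ 53 = 0) (hχ0 : χ ≠ 0)
    (hne : Wt f hf ρ θ sZ 0 ⊓ Wt f hf ρ θ sZ' χ ≠ ⊥) :
    ∃ (i : Fin cells2.length) (_ : i.1 ≠ 0) (a : {u : Kˣ // u ^ (q - 1) = 1}) (s : FPar K q (cells2.get i).es),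
      cpt s.1 (one sZ' (cells2.get i).m (a.1 : K)) = χ := by
  classical
  have back : ∀ {d : Cell} (hd : d.chk sZ' = true) (hm : (d.es.all fun e => chkMove tabE6 [] sZ e.1) = true)
      (s : FPar K q d.es) (φ₀ : Ix sZ' → K) {χ : Ix sZ' → K}, cpt s.1 φ₀ = χ →
      Wt f hf ρ θ sZ 0 ⊓ Wt f hf ρ θ sZ' χ ≠ ⊥ → Wt f hf ρ θ sZ 0 ⊓ Wt f hf ρ θ sZ' φ₀ ≠ ⊥ :=
    fun hd hm s φ₀ χ e h h' => h (Submodule.finrank_eq_zero.1 (by
      rw [← e, finrank_Wt_eq f hf (elT_stab_zero f hf hK _ hm s.2) (cpt_act f hf hK hd s) φ₀, h', finrank_bot]))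
  by_cases h51 : co χ 51 = 0
  · by_cases h48 : co χ 48 = 0
    · have h50 : co χ 50 = 0 := by
        have := congrFun hχ ⟨50, by decide⟩
        simp only [sg, show twistE6.rt 50 = 48 by decide +kernel, h48, zero_pow_q f hf, mul_zero] at this
        rw [co_of_mem χ (show (50 : ℕ) ∈ sZ' by decide), ← this]
      by_cases h47 : co χ 47 = 0
      · have h46 : co χ 46 ≠ 0 := fun h0 => hχ0 (co_ext fun x hx => by
          rw [co_of_mem (0 : Ix sZ' → K) hx, Pi.zero_apply]
          simp only [sZ', List.mem_cons, List.not_mem_nil, or_false] at hx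
          rcases hx with rfl | rfl | rfl | rfl | rfl | rfl <;> assumption)
        obtain ⟨u, hu⟩ := fu_of f hf hK (co_fixed hχ long46) h46
        refine ⟨⟨3, by decide⟩, by decide, u, ⟨fun a => absurd a.2 List.not_mem_nil,
          fun e he => absurd he List.not_mem_nil⟩, ?_⟩
        show one sZ' 46 (u.1 : K) = χ
        refine co_ext fun x hx => ?_
        rw [co_one hx, hu]
        simp only [sZ', List.mem_cons, List.not_mem_nil, or_false] at hx
        rcases hx with rfl | rfl | rfl | rfl | rfl | rfl <;> simp [h47, h48, h50, h51, h53]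
      · have hd : Cell.chk sZ' ⟨47, [46, 47], [(39, 46)]⟩ = true :=
          List.all_eq_true.1 chkCells2 _ (by simp [cells2])
        have hsupp : Supp [46, 47] χ := fun x hx hn => by
          simp only [sZ', List.mem_cons, List.not_mem_nil, or_false] at hx hn
          rcases hx with rfl | rfl | rfl | rfl | rfl | rfl <;> first | assumption | simp at hn
        obtain ⟨s, φ₀, e, hφ₀, hs0, hm0, hz0⟩ := clear f hf hK hd hχ hsupp h47
        obtain ⟨u, hu⟩ := fu_of f hf hK (co_fixed hχ long47) h47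
        refine ⟨⟨2, by decide⟩, by decide, u, s, ?_⟩
        show cpt s.1 (one sZ' 47 (u.1 : K)) = χ
        rw [← e, hu]
        congr 1
        refine co_ext fun x hx => ?_
        rw [co_one hx]
        by_cases e1 : x = 47
        · rw [if_pos e1, e1]; exact hm0.symm
        · rw [if_neg e1]
          have : ∀ y ∈ sZ', y ≠ 47 → y ∉ [46, 47] ∨ y = 46 := by decide
          rcases this x hx e1 with h | rfl
          · exact (hs0 x hx h).symm
          · exact (hz0 (39, 46) (by simp)).symm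
    · exfalso
      by_cases h47 : co χ 47 = 0
      · obtain ⟨hb, s, hs, h51', hA⟩ := exists_feed f hf hK feed51 hχ h48 h51 (fun kc hkc => by
          have : (match tgt tabE6 sZ' 34 48 with
            | some kc => decide (kc.1 = 47)
            | none => true) = true := by decide +kernel
          rw [hkc] at this
          rw [of_decide_eq_true this]; exact h47)
        set ω := run tabE6 [(29, 48), (34, 50)] s χ with hω
        have hne' : Wt f hf ρ θ sZ 0 ⊓ Wt f hf ρ θ sZ' ω ≠ ⊥ := fun e => hne (Submodule.finrank_eq_zero.1 (by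
          rw [← finrank_Wt_eq f hf (elT_stab_zero f hf hK hb (by decide +kernel) hs) hA χ, e, finrank_bot]))
        have hωf : sg q ω = ω := hA.fixed f hf hK (hom_incl f _) hχ
        have hkeep : ∀ x, (tgt tabE6 sZ' 29 x = none ∧ tgt tabE6 sZ' 34 x = none) → co ω x = co χ x :=
          fun x hx => by
            show co (mv tabE6 29 _ (mv tabE6 34 _ χ)) x = _
            rw [co_mv_none hx.1, co_mv_none hx.2]
        have hzero : co ω 48 = co χ 48 := by
          show co (mv tabE6 29 _ (mv tabE6 34 _ χ)) 48 = _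
          cases t1 : tgt tabE6 sZ' 29 48 with
          | none =>
            rw [co_mv_none t1]
            cases t2 : tgt tabE6 sZ' 34 48 with
            | none => rw [co_mv_none t2]
            | some kc =>
              obtain ⟨k, c⟩ := kc
              have : (match tgt tabE6 sZ' 34 48 with
                | some kc => decide (kc.1 = 47)
                | none => true) = true := by decide +kernel
              rw [t2] at this
              rw [co_mv_some t2 (by decide), show k = 47 from of_decide_eq_true this, h47, mul_zero, add_zero]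
          | some kc =>
            obtain ⟨k, c⟩ := kc
            have : (match tgt tabE6 sZ' 29 48 with
              | some kc => decide (kc.1 = 47) && decide (tgt tabE6 sZ' 34 47 = none) &&
                  decide (tgt tabE6 sZ' 34 48 = none)
              | none => true) = true := by decide +kernel
            simp only [t1, Bool.and_eq_true, decide_eq_true_eq] at this
            rw [co_mv_some t1 (by decide), show k = 47 from this.1.1, co_mv_none this.1.2, co_mv_none this.2, h47, mul_zero,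
              add_zero]
        have hk : ∀ x ∈ [46, 47, 53], tgt tabE6 sZ' 29 x = none ∧ tgt tabE6 sZ' 34 x = none := by decide +kernel
        have hsupp : Supp cell51a.A ω := fun x hx hn => by
          have : ∀ y ∈ sZ', y ∉ cell51a.A → y = 53 := by decide
          rw [this x hx hn, hkeep 53 (hk 53 (by simp)), h53]
        obtain ⟨s', ω₀, e, hω₀, hs0, hm0, hz0⟩ := clear f hf hK chk51a hωf hsupp h51'
        have hk2 : ∀ x ∈ [47, 48, 53], co ω₀ x = co ω x := fun x hx => by
          rw [← e]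
          have h := (show (([47, 48, 53] : List ℕ).all fun b => cell51a.es.all fun e =>
            outside tabE6 sZ' cell51a.A e.1 b) = true by decide +kernel)
          exact (run_other (Cell.spec chk51a).1 _ hs0 x
            (List.all_eq_true.1 (List.all_eq_true.1 h x hx))).symm
        refine back chk51a (by decide +kernel) s' ω₀ e hne' (no_pure f hf hK hθ hB hω₀
          (by rw [show (51 : ℕ) = cell51a.m from rfl, hm0]; exact h51') ?_ ?_ ?_
          (hz0 (44, 46) (by simp [cell51a])))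
        · rw [hk2 48 (by simp), hzero]; exact h48
        · rw [hk2 53 (by simp), hkeep 53 (hk 53 (by simp))]; exact h53
        · rw [hk2 47 (by simp), hkeep 47 (hk 47 (by simp))]; exact h47
      · have hsupp : Supp cell47s.A χ := fun x hx hn => by
          have : ∀ y ∈ sZ', y ∉ cell47s.A → y = 51 ∨ y = 53 := by decide
          rcases this x hx hn with rfl | rfl <;> assumption
        obtain ⟨s', χ₀, e, hχ₀, hs0, hm0, hz0⟩ := clear f hf hK chk47s hχ hsupp h47
        have hk2 : ∀ x ∈ [48, 51, 53], co χ₀ x = co χ x := fun x hx => by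
          rw [← e]
          have h := (show (([48, 51, 53] : List ℕ).all fun b => cell47s.es.all fun e =>
            outside tabE6 sZ' cell47s.A e.1 b) = true by decide +kernel)
          exact (run_other (Cell.spec chk47s).1 _ hs0 x
            (List.all_eq_true.1 (List.all_eq_true.1 h x hx))).symm
        have hne0 := back chk47s (by decide +kernel) s' χ₀ e hne
        obtain ⟨g, hg⟩ := exists_wel f hf hK (w := [2, 4]) (by decide +kernel)
        obtain ⟨c, hc, hA⟩ := hg.act f (S := sZ') (S' := sZ') (by decide +kernel)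
        have hst : Stab f ρ (Wt f hf ρ θ sZ 0) g := wel_stab_zero f hf hg (by decide +kernel)
        have hr : ∀ x ∈ ([(51, 47), (53, 53), (46, 46), (47, 51)] : List (ℕ × ℕ)),
            rword tabE6 ([2, 4] : List ℕ).reverse x.1 = x.2 := by decide +kernel
        have hr48 : rword tabE6 ([2, 4] : List ℕ).reverse 48 = 48 ∨
            rword tabE6 ([2, 4] : List ℕ).reverse 48 = 50 := by decide +kernel
        set ω := fun b : Ix sZ' => c b * co χ₀ (rword tabE6 ([2, 4] : List ℕ).reverse b) with hω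
        have hval : ∀ x (hx : x ∈ sZ'), co ω x = c ⟨x, hx⟩ * co χ₀ (rword tabE6 ([2, 4] : List ℕ).reverse x) :=
          fun x hx => by rw [co_of_mem ω hx]
        refine hne0 (Submodule.finrank_eq_zero.1 ?_)
        rw [← finrank_Wt_eq f hf hst hA χ₀]
        refine Submodule.finrank_eq_zero.2 (no_pure f hf hK hθ hB (hA.fixed f hf hK (hom_incl f g) hχ₀) ?_ ?_ ?_ ?_ ?_)
        · rw [hval 51 (by decide), hr (51, 47) (by simp), show (47 : ℕ) = cell47s.m from rfl, hm0]
          exact mul_ne_zero (hc _) h47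
        · rw [hval 48 (by decide)]
          refine mul_ne_zero (hc _) ?_
          rcases hr48 with h | h <;> rw [h]
          · rw [hk2 48 (by simp)]; exact h48
          · intro h0
            have := congrFun hχ₀ ⟨48, by decide⟩
            simp only [sg, show twistE6.rt 48 = 50 by decide +kernel, h0, zero_pow_q f hf, mul_zero] at this
            exact h48 (by rw [← hk2 48 (by simp), co_of_mem χ₀ (show (48 : ℕ) ∈ sZ' by decide), ← this])
        · rw [hval 53 (by decide), hr (53, 53) (by simp), hk2 53 (by simp), h53, mul_zero]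
        · rw [hval 47 (by decide), hr (47, 51) (by simp), hk2 51 (by simp), h51, mul_zero]
        · rw [hval 46 (by decide), hr (46, 46) (by simp), hz0 (39, 46) (by simp [cell47s]), mul_zero]
  · have hd : Cell.chk sZ' ⟨51, [46, 47, 48, 50, 51], [(44, 46), (42, 48), (37, 50)]⟩ = true :=
      List.all_eq_true.1 chkCells2 _ (by simp [cells2])
    have hsupp : Supp [46, 47, 48, 50, 51] χ := fun x hx hn => by
      have : ∀ y ∈ sZ', y ∉ [46, 47, 48, 50, 51] → y = 53 := by decide
      rw [this x hx hn, h53]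
    obtain ⟨s, φ₀, e, hφ₀, hs0, hm0, hz0⟩ := clear f hf hK hd hχ hsupp h51
    have e0 : φ₀ = two sZ' 51 (co φ₀ 51) 47 (co φ₀ 47) := co_ext fun x hx => by
      rw [co_two hx]
      simp only [sZ', List.mem_cons, List.not_mem_nil, or_false] at hx
      rcases hx with rfl | rfl | rfl | rfl | rfl | rfl
      · simp [hz0 (44, 46) (by simp)]
      · simp
      · simp [hz0 (42, 48) (by simp)]
      · simp [hz0 (37, 50) (by simp)]
      · simp
      · simp [hs0 53 (by decide) (by decide)]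
    have hne0 := back hd (by decide +kernel) s φ₀ e hne
    have hc0 : co φ₀ 47 = 0 := no_two f hf hK hθ hB (co_fixed hφ₀ long51) (co_fixed hφ₀ long47)
      (fun h => h51 (hm0.symm.trans h)) (by rw [← e0]; exact hne0)
    obtain ⟨u, hu⟩ := fu_of f hf hK (co_fixed hχ long51) h51
    refine ⟨⟨1, by decide⟩, by decide, u, s, ?_⟩
    show cpt s.1 (one sZ' 51 (u.1 : K)) = χ
    rw [hc0, two_zero, show co φ₀ 51 = co χ 51 from hm0, ← hu] at e0
    rw [← e0, e]

theorem cell_dim (hD : finrank ℂ (Wt f hf ρ θ sZ 0 ⊓ Wt f hf ρ θ sZ' (one sZ' 53 1) : Submodule ℂ V) = 1) (d : Cell) (hd : d ∈ cells2)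
    (a : {u : Kˣ // u ^ (q - 1) = 1}) (s : FPar K q d.es) :
    finrank ℂ (Wt f hf ρ θ sZ 0 ⊓ Wt f hf ρ θ sZ' (cpt s.1 (one sZ' d.m (a.1 : K))) : Submodule ℂ V) = 1 := by
  have hi : ∀ p ∈ ([(46, [3, 2, 4, 3]), (47, [2, 4, 3]), (51, [3]), (53, [])] : List (ℕ × List ℕ)),
      chkInto p.2 sZ sZ = true := by decide +kernel
  have hdc := List.all_eq_true.1 chkCells2 d hd
  rw [finrank_Wt_eq f hf (cells2_stab f hf hK hθ d hd _ s.2) (cpt_act f hf hK hdc s)]
  have hm : ∃ w, (d.m, w) ∈ ([(46, [3, 2, 4, 3]), (47, [2, 4, 3]), (51, [3]), (53, [])] : List (ℕ × List ℕ)) := by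
    simp only [cells2, List.mem_cons, List.not_mem_nil, or_false] at hd
    rcases hd with rfl | rfl | rfl | rfl <;> simp
  obtain ⟨w, hw⟩ := hm
  have := dim_move (θ := θ) (ρ := ρ) (W := (Wt f hf ρ θ sZ (0 : Ix sZ → K))) f hf hK (List.all_eq_true.1 ws2_chk _ hw)
    (fun g hg => wel_stab_zero f hf hg (hi _ hw)) (torStab_wt_zero f hf) long53 coch2b (fu_fixed f hf hK a)
    a.1.ne_zero
  rw [hD] at this
  exact this

theorem upper3 (hD : finrank ℂ (Wt f hf ρ θ sZ 0 ⊓ Wt f hf ρ θ sZ' (one sZ' 53 1) : Submodule ℂ V) = 1) :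
    finrank ℂ (Wt f hf ρ θ sZ 0 ⊓ Wt f hf ρ θ s53 0 : Submodule ℂ V) ≤
      (q - 1) * (q ^ 3 + q + 1) + finrank ℂ (Wt f hf ρ θ sZ 0 ⊓ Wt f hf ρ θ sZ' 0 : Submodule ℂ V) := by
  classical
  set W0 := Wt f hf ρ θ sZ (0 : Ix sZ → K) with hW0
  let Fu := {u : Kˣ // u ^ (q - 1) = 1}
  let J := {i : Fin cells2.length // i.1 ≠ 0}
  have hst : ∀ a, Stab f ρ (W0 ⊓ Wt f hf ρ θ s53 0 : Submodule ℂ V) (rg f hf sZ' a) := fun a =>
    (rg_stab_zero f hf (by decide +kernel) a).inf f (rg_stab f hf (by decide) _ a)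
  have h := cover_le f hf hK hθ (W := W0 ⊓ Wt f hf ρ θ s53 0) (W' := W0) inf_le_left hst
    (fun p : (Σ p : J × Fu, FPar K q (cells2.get p.1.1).es) =>
      cpt p.2.1 (one sZ' (cells2.get p.1.1.1).m (p.1.2.1 : K)))
    (fun p => (cell_dim f hf hK hθ hB hD (cells2.get p.1.1.1) (List.get_mem _ _) p.1.2 p.2).le)
    (fun χ hχ hχ0 hne => ?_)
  · refine h.trans (Nat.add_le_add_right ?_ _)
    rw [Fintype.card_sigma, Fintype.sum_prod_type]
    refine le_of_eq ((Finset.sum_congr rfl fun (j : J) _ => Finset.sum_congr rfl fun (a : Fu) _ =>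
      show _ = q ^ (cells2.get j.1).es.length by
        rw [← Nat.card_eq_fintype_card]
        exact card_fpar f hf hK (List.all_eq_true.1 chkCells2 _ (List.get_mem _ _))).trans ?_)
    simp only [Finset.sum_const, Finset.card_univ, smul_eq_mul,
      show Fintype.card Fu = q - 1 from card_fu f hf hK, ← Finset.mul_sum]
    congr 1
    refine ((Finset.sum_subtype (Finset.univ.filter fun i : Fin cells2.length => i.1 ≠ 0)
      (p := fun i => i.1 ≠ 0) (fun i => by simp) (fun i => q ^ (cells2.get i).es.length)).symm).trans ?_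
    rw [Finset.sum_filter]
    show ∑ i : Fin 4, (if i.1 ≠ 0 then q ^ (cells2.get i).es.length else 0) = _
    rw [Fin.sum_univ_four]
    simp [cells2]
  · obtain ⟨w, ⟨⟨hw1, hw2⟩, hw3⟩, hw0⟩ := (Submodule.ne_bot_iff _).1 hne
    have hres := res_eq (W := W0 ⊓ Wt f hf ρ θ s53 0) f hf hK hθ (S := s53) (by decide)
      (fixV f hf s53).zero_mem hχ inf_le_right hne
    have h53 : co χ 53 = 0 := congrFun hres ⟨53, by decide⟩
    obtain ⟨i, hi', a, s, e⟩ := classify f hf hK hθ hB hχ h53 hχ0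
      ((Submodule.ne_bot_iff _).2 ⟨w, ⟨hw1, hw3⟩, hw0⟩)
    exact ⟨⟨(⟨i, hi'⟩, a), s⟩, e⟩

theorem lower3 (hD : finrank ℂ (Wt f hf ρ θ sZ 0 ⊓ Wt f hf ρ θ sZ' (one sZ' 53 1) : Submodule ℂ V) = 1)
    (hcon : (Wt f hf ρ θ sZ 0 ⊓ Wt f hf ρ θ sZ' 0 : Submodule ℂ V) ≤ Wt f hf ρ θ s44 0) :
    (q - 1) * (q ^ 3 + q ^ 2) + finrank ℂ (Wt f hf ρ θ sZ 0 ⊓ Wt f hf ρ θ sZ' 0 : Submodule ℂ V) ≤
      finrank ℂ (Wt f hf ρ θ sZ 0 ⊓ Wt f hf ρ θ s44 0 : Submodule ℂ V) := by
  classical
  set W0 := Wt f hf ρ θ sZ (0 : Ix sZ → K) with hW0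
  let Fu := {u : Kˣ // u ^ (q - 1) = 1}
  have hi : ∀ p ∈ ([(46, [3, 2, 4, 3]), (47, [2, 4, 3]), (51, [3]), (53, [])] : List (ℕ × List ℕ)),
      chkInto p.2 sZ sZ = true := by decide +kernel
  let ι := Σ p : Fin cells2g.length × Fu, FPar K q (cells2g.get p.1).es
  let φ : ι → Ix sZ' → K := fun p => cpt p.2.1 (one sZ' (cells2g.get p.1.1).m (p.1.2.1 : K))
  have hcard : Fintype.card ι = (q - 1) * (q ^ 3 + q ^ 2) := by
    rw [Fintype.card_sigma, Fintype.sum_prod_type]
    have hc : ∀ j : Fin cells2g.length, Fintype.card (FPar K q (cells2g.get j).es) =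
        q ^ (cells2g.get j).es.length := fun j => by
      rw [← Nat.card_eq_fintype_card]
      exact card_fpar f hf hK (List.all_eq_true.1 chkCells2g _ (List.get_mem _ _))
    simp only [hc, Finset.sum_const, Finset.card_univ, smul_eq_mul,
      show Fintype.card Fu = q - 1 from card_fu f hf hK, ← Finset.mul_sum]
    congr 1
  have hl : ∀ d ∈ cells2g, d.chk sZ' = true := List.all_eq_true.1 chkCells2g
  have hgood : ∀ i : Fin cells2g.length, chkLong sZ' (cells2g.get i).m = true ∧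
      (cells2g.get i).m ∈ (cells2g.get i).A ∧ (cells2g.get i).m ∉ (cells2g.get i).es.map Prod.snd := by
    decide +kernel
  have hsupp : ∀ p : Fin cells2g.length × Fu,
      Supp (cells2g.get p.1).A (one sZ' (cells2g.get p.1).m (p.2.1 : K)) := fun p => supp_one (hgood p.1).2.1 _
  have hφ : ∀ p, sg q (φ p) = φ p := fun p =>
    cpt_fixed f hf hK (hl _ (List.get_mem _ _)) p.2 (sg_one f hf (hgood p.1.1).1 (fu_fixed f hf hK p.1.2))
  have hlead : ∀ p : ι, co (φ p) (cells2g.get p.1.1).m = (p.1.2.1 : K) := fun p => by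
    show co (cpt p.2.1 _) _ = _
    rw [cpt_keep (hl _ (List.get_mem _ _)) p.2.1 (hsupp p.1), co_one (long_spec (hgood p.1.1).1).1, if_pos rfl]
  have hne : ∀ p, W0 ⊓ Wt f hf ρ θ sZ' (φ p) ≠ ⊥ := by
    intro p e
    have h1 : finrank ℂ (W0 ⊓ Wt f hf ρ θ sZ' (φ p) : Submodule ℂ V) = 1 := by
      show finrank ℂ (W0 ⊓ Wt f hf ρ θ sZ' (cpt p.2.1 _) : Submodule ℂ V) = 1
      rw [finrank_Wt_eq f hf (elT_stab_zero f hf hK _ (List.all_eq_true.1
        (show (cells2g.all fun d => d.es.all fun e => chkMove tabE6 [] sZ e.1) = true by decide +kernel) _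
        (List.get_mem _ _)) p.2.2) (cpt_act f hf hK (hl _ (List.get_mem _ _)) p.2)]
      have hm : ∃ w, ((cells2g.get p.1.1).m, w) ∈
          ([(46, [3, 2, 4, 3]), (47, [2, 4, 3]), (51, [3]), (53, [])] : List (ℕ × List ℕ)) := by
        have := List.get_mem cells2g p.1.1
        simp only [cells2g, List.mem_cons, List.not_mem_nil, or_false] at this
        rcases this with h | h <;> (simp only [cells2g] at h ⊢; rw [h]; simp)
      obtain ⟨w, hw⟩ := hm
      have := dim_move (θ := θ) (ρ := ρ) (W := W0) f hf hK (List.all_eq_true.1 ws2_chk _ hw)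
        (fun g hg => wel_stab_zero f hf hg (hi _ hw)) (torStab_wt_zero f hf) long53 coch2b
        (fu_fixed f hf hK p.1.2) p.1.2.1.ne_zero
      rw [hD] at this
      exact this
    rw [e, finrank_bot] at h1
    omega
  have hst : ∀ a, Stab f ρ W0 (rg f hf s44 a) := fun a => rg_stab_zero f hf (by decide +kernel) a
  have key := orbit_le f hf hK hθ hst (Φ := fun a => run tabE6 (diag s44) (co (a : Ix s44 → K)))
    (fun a => act_rg f hf (by decide +kernel) a) hcon φ hφ
    (fun p e => p.1.2.1.ne_zero (by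
      have := hlead p
      rw [e, co_of_mem (0 : Ix sZ' → K) (long_spec (hgood p.1.1).1).1] at this
      exact this.symm)) hne ?_
  · rw [hcard] at key; exact key
  have t := (show (match tgt tabE6 sZ' 44 47, tgt tabE6 sZ' 44 46 with
    | some a, some b => decide (a.1 = 53) && decide (a.2 * a.2 = 1) && decide (b.1 = 51) &&
        decide (b.2 * b.2 = 1) && decide (tgt tabE6 sZ' 44 53 = none) && decide (tgt tabE6 sZ' 44 51 = none)
    | _, _ => false) = true by decide +kernel)
  cases t1 : tgt tabE6 sZ' 44 47 with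
  | none => rw [t1] at t; exact absurd t (by simp)
  | some a =>
  cases t2 : tgt tabE6 sZ' 44 46 with
  | none => rw [t1, t2] at t; exact absurd t (by simp)
  | some b =>
  obtain ⟨a, ca⟩ := a
  obtain ⟨b, cb⟩ := b
  simp only [t1, t2, Bool.and_eq_true, decide_eq_true_eq] at t
  obtain ⟨⟨⟨⟨⟨rfl, hca⟩, rfl⟩, hcb⟩, t3⟩, t4⟩ := t
  rintro ⟨p, a⟩ ⟨p', a'⟩ e
  set x := co (a : Ix s44 → K) 44 with hx
  set x' := co (a' : Ix s44 → K) 44 with hx'
  change mv tabE6 44 x (φ p) = mv tabE6 44 x' (φ p') at e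
  have hout : ((cells2g.zip [47, 46]).all fun db => (decide (db.2 ∈ sZ') && decide (db.2 ≠ db.1.m)) &&
      db.1.es.all fun e => outside tabE6 sZ' db.1.A e.1 db.2) = true := by decide +kernel
  have hb0 : ∀ p : ι, (p.1.1.1 = 0 → co (φ p) 47 = 0) ∧ (p.1.1.1 = 1 → co (φ p) 46 = 0 ∧ co (φ p) 53 = 0) := by
    rintro ⟨⟨i, u⟩, s⟩
    fin_cases i
    · refine ⟨fun _ => ?_, fun h => absurd h (by simp)⟩
      have h := List.all_eq_true.1 hout ((cells2g.get ⟨0, by decide⟩), 47) (by simp [cells2g])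
      simp only [Bool.and_eq_true, decide_eq_true_eq] at h
      show co (cpt s.1 (one sZ' _ (u.1 : K))) 47 = 0
      rw [cpt, run_other (Cell.spec (hl _ (List.get_mem _ _))).1 _ (hsupp (⟨0, by decide⟩, u)) 47
        (List.all_eq_true.1 h.2), co_one h.1.1, if_neg h.1.2]
    · refine ⟨fun h => absurd h (by simp), fun _ => ⟨?_, ?_⟩⟩
      · have h := List.all_eq_true.1 hout ((cells2g.get ⟨1, by decide⟩), 46) (by simp [cells2g])
        simp only [Bool.and_eq_true, decide_eq_true_eq] at h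
        show co (cpt s.1 (one sZ' _ (u.1 : K))) 46 = 0
        rw [cpt, run_other (Cell.spec (hl _ (List.get_mem _ _))).1 _ (hsupp (⟨1, by decide⟩, u)) 46
          (List.all_eq_true.1 h.2), co_one h.1.1, if_neg h.1.2]
      · exact cpt_supp (hl _ (List.get_mem _ _)) s.1 (hsupp (⟨1, by decide⟩, u)) 53 (by decide)
          (show (53 : ℕ) ∉ (cells2g.get ⟨1, by decide⟩).A by decide)
  have hne53 : ∀ p : ι, p.1.1.1 = 0 → co (φ p) 53 ≠ 0 := fun p h => by
    have : (cells2g.get p.1.1).m = 53 := by rw [show p.1.1 = ⟨0, by decide⟩ from Fin.ext h]; rfl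
    rw [← this, hlead]; exact p.1.2.1.ne_zero
  have hne51 : ∀ p : ι, p.1.1.1 = 1 → co (φ p) 51 ≠ 0 := fun p h => by
    have : (cells2g.get p.1.1).m = 51 := by rw [show p.1.1 = ⟨1, by decide⟩ from Fin.ext h]; rfl
    rw [← this, hlead]; exact p.1.2.1.ne_zero
  have e53 := congrArg (fun ω => co ω 53) e
  simp only [co_mv_none t3] at e53
  have e51 := congrArg (fun ω => co ω 51) e
  simp only [co_mv_none t4] at e51
  have hcase : ∀ p : ι, p.1.1.1 = 0 ∨ p.1.1.1 = 1 := fun p => by
    have := p.1.1.2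
    simp only [cells2g, List.length_cons, List.length_nil] at this
    omega
  have hxx : x = x' := by
    rcases hcase p with hp | hp <;> rcases hcase p' with hp' | hp'
    · have h := congrArg (fun ω => co ω 47) e
      simp only [co_mv_some t1 (show (47 : ℕ) ∈ sZ' by decide), (hb0 p).1 hp, (hb0 p').1 hp', zero_add,
        ← e53] at h
      simpa using mul_left_cancel₀ (int_ne_zero hca) (mul_right_cancel₀ (hne53 p hp) h)
    · exact absurd ((e53.trans ((hb0 p').2 hp').2)) (hne53 p hp)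
    · exact absurd (e53.symm.trans ((hb0 p).2 hp).2) (hne53 p' hp')
    · have h := congrArg (fun ω => co ω 46) e
      simp only [co_mv_some t2 (show (46 : ℕ) ∈ sZ' by decide), ((hb0 p).2 hp).1, ((hb0 p').2 hp').1, zero_add,
        ← e51] at h
      simpa using mul_left_cancel₀ (int_ne_zero hcb) (mul_right_cancel₀ (hne51 p hp) h)
  rw [← hxx] at e
  have e' := mv_injective (K := []) (show chkMove tabE6 [] sZ' 44 = true by decide +kernel) x e
  have hpp : p = p' := by
    obtain ⟨⟨i, u⟩, s⟩ := p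
    obtain ⟨⟨i', u'⟩, s'⟩ := p'
    have := family_inj (S := sZ') f hf hK hl leads2g (ι := Fin cells2g.length × Fu) (fun p => p.1)
      (fun p => one sZ' (cells2g.get p.1).m (p.2.1 : K))
      (fun p => ⟨hsupp p, by rw [co_one (long_spec (hgood p.1).1).1, if_pos rfl]; exact p.2.1.ne_zero,
        fun e he => by
          rw [co_one (chkRun_mem (Cell.spec (hl _ (List.get_mem _ _))).1 e he), if_neg]
          exact fun e0 => (hgood p.1).2.2 (List.mem_map.2 ⟨e, he, e0⟩)⟩)
      (fun p p' e1 e2 => by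
        obtain ⟨i, a⟩ := p
        obtain ⟨i', a'⟩ := p'
        simp only at e1 e2
        subst e1
        have := congrFun e2 ⟨_, (long_spec (hgood i).1).1⟩
        simp only [one, if_true] at this
        rw [Subtype.ext (Units.ext this) (a1 := a) (a2 := a')])
    exact this (a₁ := ⟨(i, u), s⟩) (a₂ := ⟨(i', u'), s'⟩) e'
  refine Prod.ext hpp (Subtype.ext (co_ext fun y hy => ?_))
  rw [List.mem_singleton.1 hy]
  exact hxx

/-- The second level also moves the doubly fixed vectors. -/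
theorem nontrivial3
    (hD : finrank ℂ (Wt f hf ρ θ sZ 0 ⊓ Wt f hf ρ θ sZ' (one sZ' 53 1) : Submodule ℂ V) = 1) :
    ¬ (Wt f hf ρ θ sZ 0 ⊓ Wt f hf ρ θ sZ' 0 : Submodule ℂ V) ≤ Wt f hf ρ θ s44 0 := by
  intro hcon
  have hup := upper3 f hf hK hθ hB hD
  have hlow := lower3 f hf hK hθ hB hD hcon
  set W0 := Wt f hf ρ θ sZ (0 : Ix sZ → K) with hW0
  have hle : finrank ℂ (W0 ⊓ Wt f hf ρ θ s44 0 : Submodule ℂ V) ≤
      finrank ℂ (W0 ⊓ Wt f hf ρ θ s53 0 : Submodule ℂ V) := by
    obtain ⟨g, hg⟩ := exists_wel f hf hK (w := [3, 1]) (by decide +kernel)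
    obtain ⟨c, -, hA⟩ := hg.act f (S := s53) (S' := s44) (by decide +kernel)
    have := finrank_Wt_le f hf (W := W0) (θ := θ) (wel_stab_zero f hf hg (by decide +kernel)) hA 0
    rwa [hA.map_zero] at this
  have h2 := two_le_q hK
  have h3 : q + 1 < q ^ 2 := by nlinarith
  have h4 : (q - 1) * (q ^ 3 + q + 1) < (q - 1) * (q ^ 3 + q ^ 2) :=
    Nat.mul_lt_mul_of_pos_left (by omega) (by omega)
  omega

end NoBig

end CfsgLib.TwE6MinDeg
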