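import Cfsg.Agent.Lib.TwE6MinDeg.LevelThree
import Cfsg.Agent.Lib.TwE6MinDeg.Arith
import Cfsg.Agent.Lib.Char.Central
import Cfsg.Agent.Lib.Chev.All
import Cfsg.Agent.Lib.Chev.TwistE6

/-!
The smallest degree of a nontrivial irreducible representation of twisted E6.
-/

set_option autoImplicit false
set_option linter.unusedSectionVars false
set_option maxRecDepth 100000

namespace CfsgLib.TwE6MinDeg

open Module Cfsg.Lie CfsgLib.Chev CfsgLib.EMinDeg CfsgLib.SUMinDegree

variable {K : Type*} [Field K] [Fintype K] {q : ℕ} (f : K →+* K) (hf : ∀ t, f t = t ^ q)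
  (hK : Fintype.card K = q ^ 2)
include hf hK

theorem tw_simple (hq : IsPrimePow q) : IsSimpleGroup (Tw f) :=
  ((endoE6 f).simple_of_eq rfl (std_fixE6 f hf hK hq) hq.two_le
    (hcardE6 f hf hK hq) chkLinkTwE6 (perfect_fixE6 f hf hK hq) (by simp [dataTwE6])).1

variable {V : Type*} [AddCommGroup V] [Module ℂ V] [FiniteDimensional ℂ V] {θ : AddChar K ℂ} (hθ : θ 1 ≠ 1)
  {ρ : Representation ℂ (Tw f) V}

/-- The first radical acts nontrivially. -/
theorem nontrivial1 (hq : IsPrimePow q) (hρ : ρ.IsIrreducible) (hk : 2 ≤ finrank ℂ V) :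
    ¬ (⊤ : Submodule ℂ V) ≤ Wt f hf ρ θ sZ 0 := by
  intro htop
  let a : fixV f hf sZ := ⟨one sZ 71 1, sg_one f hf long71 (one_pow_q f hf)⟩
  have hker : ρ (rg f hf sZ a) = 1 :=
    LinearMap.ext fun w => by
      have := (mem_Wt_zero f hf).1 (htop (Submodule.mem_top : w ∈ ⊤)) a
      rw [this]; rfl
  rcases (tw_simple f hf hK hq).eq_bot_or_eq_top_of_normal _ (inferInstance : (MonoidHom.ker ρ).Normal) with hb | ht
  · have hm : rg f hf sZ a ∈ MonoidHom.ker ρ := hker
    rw [hb, Subgroup.mem_bot] at hm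
    have e1 := congrArg (incl f) hm
    rw [incl_rg, map_one, ← AddChar.map_zero_eq_one (yy sZ (K := K))] at e1
    have e2 := congrFun (yy_injective e1) ⟨71, by decide⟩
    simp [a, one] at e2
  · have hall : ∀ g, ρ g = 1 := fun g => (ht ▸ Subgroup.mem_top g : g ∈ MonoidHom.ker ρ)
    haveI : Nontrivial V := Module.nontrivial_of_finrank_pos (R := ℂ) (by omega)
    obtain ⟨v, hv⟩ := exists_ne (0 : V)
    let W : Subrepresentation ρ := ⟨Submodule.span ℂ {v}, fun g w hw => by rw [hall g]; exact hw⟩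
    rcases hρ.eq_bot_or_eq_top W with hW | hW
    · have : Submodule.span ℂ {v} = (⊥ : Submodule ℂ V) := congrArg Subrepresentation.toSubmodule hW
      exact hv (Submodule.span_singleton_eq_bot.1 this)
    · have : Submodule.span ℂ {v} = (⊤ : Submodule ℂ V) := congrArg Subrepresentation.toSubmodule hW
      have hfin := finrank_span_singleton (K := ℂ) hv
      rw [this, finrank_top] at hfin
      omega

include hθ

/-- The bound of the chain. -/
theorem chain_bound (hq : IsPrimePow q) (hρ : ρ.IsIrreducible) (hk : 2 ≤ finrank ℂ V) :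
    degT q ≤ finrank ℂ V + 2 ∨ (q = 2 ∧ 1926 ≤ finrank ℂ V) := by
  classical
  have h2 := two_le_q hK
  have hnt := nontrivial1 f hf hK (θ := θ) hq hρ hk
  have hdeg : degT q ≤ q ^ 14 := by
    rw [degT]
    have a1 : q ^ 11 + q ^ 7 + q ^ 5 + q ≤ 4 * q ^ 11 := by
      have := Nat.pow_le_pow_right (show 1 ≤ q by omega) (show 7 ≤ 11 by omega)
      have := Nat.pow_le_pow_right (show 1 ≤ q by omega) (show 5 ≤ 11 by omega)
      have := Nat.le_self_pow (show 11 ≠ 0 by omega) q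
      omega
    have a2 : 4 * q ^ 11 ≤ q ^ 14 := by
      rw [show q ^ 14 = q ^ 3 * q ^ 11 by ring]
      exact Nat.mul_le_mul_right _ (le_trans (by norm_num) (Nat.pow_le_pow_left h2 3))
    omega
  rcases top1 f hf hK hθ hnt with h | h
  swap
  · rw [top_inf_eq] at h
    exact Or.inl ((hdeg.trans (big1 f hf hK hθ h)).trans (Nat.le_add_right _ _))
  rw [top_inf_eq] at h
  obtain ⟨hline, hpos⟩ := half_one f hf hK hθ (c := 0) (zero_pow_q f hf) (by rwa [two_zero])
  rw [two_zero, two_zero] at hline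
  rw [two_zero] at hpos
  have hc1 := count1 f hf hK hθ (ρ := ρ)
  set D1 := finrank ℂ (Wt f hf ρ θ sZ (one sZ 71 (1 : K))) with hD1
  set L := finrank ℂ (Wt f hf ρ θ sZL (one sZL 71 (1 : K))) with hL
  set d := finrank ℂ V with hd
  obtain ⟨m, rfl⟩ : ∃ m, q = m + 2 := ⟨q - 2, by omega⟩
  rw [show m + 2 - 1 = m + 1 by omega] at hc1
  have hc1' : (m + 1) * ((m + 2) ^ 6 + (m + 2) ^ 5 + (m + 2) ^ 4 + (m + 2) ^ 2 + (m + 2) + 1) *
      ((m + 2) ^ 4 * L) + finrank ℂ (Wt f hf ρ θ sZ 0) ≤ d :=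
    le_trans (Nat.add_le_add_right (Nat.mul_le_mul_left _ hline) _) hc1
  by_cases hL1 : L = 1
  swap
  · left
    have h' := Nat.mul_le_mul_left
      ((m + 1) * ((m + 2) ^ 6 + (m + 2) ^ 5 + (m + 2) ^ 4 + (m + 2) ^ 2 + (m + 2) + 1))
      (Nat.mul_le_mul_left ((m + 2) ^ 4) (show 2 ≤ L by omega))
    have h'' := le_trans (le_trans h' (Nat.le_add_right _ _)) hc1'
    rw [degT]
    ring_nf at h'' ⊢
    omega
  rw [hL1, mul_one] at hc1'
  have hkey := key f hf hK hθ (ρ := ρ) hL1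
  have hV2 : (m = 0 ∧ 22 ≤ finrank ℂ (Wt f hf ρ θ sZ 0)) ∨
      (1 ≤ m ∧ (m + 2) ^ 5 + (m + 2) ≤ finrank ℂ (Wt f hf ρ θ sZ 0) + 2) := by
    rcases Nat.eq_zero_or_pos (finrank ℂ (Wt f hf ρ θ sZ 0 ⊓
        Wt f hf ρ θ sZ' (two sZ' 53 (1 : K) 46 1) : Submodule ℂ V)) with hB | hB
    swap
    · have hb := big2 f hf hK hθ hB
      rw [show m + 2 - 1 = m + 1 by omega] at hb
      rcases Nat.eq_zero_or_pos m with rfl | hm
      · left; norm_num at hb; omega
      · right
        obtain ⟨n, rfl⟩ : ∃ n, m = n + 1 := ⟨m - 1, by omega⟩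
        refine ⟨hm, ?_⟩
        ring_nf at hb ⊢
        omega
    have hD := (top2 f hf hK hθ hkey).resolve_right (fun e => by omega)
    have hc2 := count2 f hf hK hθ (ρ := ρ)
    rw [show m + 2 - 1 = m + 1 by omega] at hc2
    rcases Nat.eq_zero_or_pos m with rfl | hm
    · left
      norm_num at hc2
      omega
    right
    obtain ⟨n, rfl⟩ : ∃ n, m = n + 1 := ⟨m - 1, by omega⟩
    refine ⟨hm, ?_⟩
    by_cases hD1' : finrank ℂ (Wt f hf ρ θ sZ 0 ⊓ Wt f hf ρ θ sZ' (one sZ' 53 (1 : K)) : Submodule ℂ V) = 1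
    · have hnt3 : ¬ (Wt f hf ρ θ sZ 0 ⊓ Wt f hf ρ θ sZ' 0 : Submodule ℂ V) ≤ Wt f hf ρ θ sZ'' 0 :=
        fun e => nontrivial3 f hf hK hθ hB hD1' (e.trans (wt3_le f hf))
      rw [hD1', mul_one] at hc2
      rcases level3 f hf hK hθ hnt3 with h3 | h3 <;>
        (rw [show n + 1 + 2 - 1 = n + 2 by omega] at h3; ring_nf at h3 hc2 ⊢; omega)
    · have h' := Nat.mul_le_mul_left ((n + 1 + 1) * ((n + 1 + 2) ^ 4 + (n + 1 + 2) ^ 3 + (n + 1 + 2) + 1))
        (show 2 ≤ finrank ℂ (Wt f hf ρ θ sZ 0 ⊓ Wt f hf ρ θ sZ' (one sZ' 53 (1 : K)) : Submodule ℂ V) by omega)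
      have h'' := le_trans (le_trans h' (Nat.le_add_right _ _)) hc2
      ring_nf at h'' ⊢
      omega
  rcases hV2 with ⟨rfl, hV⟩ | ⟨hm, hV⟩
  · right
    norm_num at hc1'
    exact ⟨rfl, by omega⟩
  · left
    rw [degT]
    ring_nf at hc1' hV ⊢
    omega

omit hθ in
/-- The bound. -/
theorem degree_bound (hq : IsPrimePow q) (hρ : ρ.IsIrreducible) (hk : 2 ≤ finrank ℂ V) :
    degT q ≤ finrank ℂ V := by
  classical
  have hψ := AddChar.FiniteField.primitiveChar_to_Complex_isPrimitive K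
  have hne := hψ one_ne_zero
  obtain ⟨a, ha⟩ := AddChar.ne_one_iff.1 hne
  rw [AddChar.mulShift_apply, one_mul] at ha
  have hθ : ((AddChar.FiniteField.primitiveChar_to_Complex K).mulShift a) 1 ≠ 1 := by
    rw [AddChar.mulShift_apply, mul_one]; exact ha
  haveI := hρ
  have hdvd : finrank ℂ V ∣ ordW q :=
    (CfsgLib.Char.degree_dvd_card ρ).trans ⟨Nat.gcd 3 (q + 1), by
      rw [show Nat.card (Tw f) = Nat.card ↥(endoE6 f).fix from rfl, ordW,
        ← card_twistE6 f hf hK hq]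
      ring⟩
  by_contra hlt
  rcases chain_bound f hf hK hθ hq hρ hk with h | ⟨rfl, h⟩
  · rcases Nat.lt_or_ge q 3 with hq2 | hq3
    · obtain rfl : q = 2 := by have := two_le_q hK; omega
      have hs := smallTwoTwE6
      simp only [List.all_eq_true, List.mem_range, decide_eq_true_eq] at hs
      refine hs (degT 2 - finrank ℂ V - 1) (by omega) (Nat.mod_eq_zero_of_dvd ?_)
      rwa [show degT 2 - (degT 2 - finrank ℂ V - 1 + 1) = finrank ℂ V by omega]
    · refine not_dvd_TwE6 hq3 (d := degT q - finrank ℂ V - 1) (by omega) ?_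
      rwa [show degT q - (degT q - finrank ℂ V - 1 + 1) = finrank ℂ V by omega]
  · have hs := smallTwoTwE6
    simp only [List.all_eq_true, List.mem_range, decide_eq_true_eq] at hs
    have hT : degT 2 = 1938 := by decide
    refine hs (degT 2 - finrank ℂ V - 1) (by omega) (Nat.mod_eq_zero_of_dvd ?_)
    rwa [show degT 2 - (degT 2 - finrank ℂ V - 1 + 1) = finrank ℂ V by omega]

end CfsgLib.TwE6MinDeg
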