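import Cfsg.Agent.Lib.TwE6MinDeg.Weights

/-!
Sequences of root elements, monomial elements, and restriction of weights.
-/

set_option autoImplicit false
set_option linter.unusedSectionVars false
set_option maxRecDepth 100000

namespace CfsgLib.TwE6MinDeg

open Module Cfsg.Lie CfsgLib.Chev CfsgLib.EMinDeg CfsgLib.SUMinDegree

/-- Blocks of a fixed root or of two commuting roots exchanged by the twist, with their targets. -/
noncomputable def chkBlocks : List (ℕ × ℕ) → Bool
  | [] => true
  | [e] => decide (e.1 < tabE6.n) && decide (twistE6.rt e.1 = e.1) && decide (twistE6.rt e.2 = e.2)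
  | e :: e' :: r =>
    if twistE6.rt e.1 = e.1 then
      decide (e.1 < tabE6.n) && decide (twistE6.rt e.2 = e.2) && chkBlocks (e' :: r)
    else
      decide (e.1 < tabE6.n) && decide (twistE6.rt e.1 = e'.1) && decide (twistE6.rt e.2 = e'.2) &&
        chkTerms tabE6 [] e.1 e'.1 && chkBlocks r

/-- The element of a sequence. -/
noncomputable def el {K : Type*} [Field K] (es : List (ℕ × ℕ)) (s : ℕ → K) : Amb K :=
  (es.map fun e => xr certE6 e.1 (s e.2)).prod

variable {K : Type*} [Field K] [Fintype K] {q : ℕ}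

/-- The parameters give a fixed element. -/
def Compat (q : ℕ) (es : List (ℕ × ℕ)) (s : ℕ → K) : Prop :=
  ∀ e ∈ es, s (twistE6.rt e.2) = (twistE6.ep e.1 : K) * s e.2 ^ q

/-- A single root element. -/
theorem act_xr {S : List ℕ} [IsSet S] {g : ℕ} (hg : chkMove tabE6 [] S g = true) (s : K) :
    Act (xr certE6 g s : Amb K) S S (mv tabE6 g s) := by
  classical
  simp only [chkMove, Bool.and_eq_true, decide_eq_true_eq, List.all_eq_true] at hg
  have hconj : ∀ (b : Ix S) (t : K), ∃ u : Ix S → K,
      (xr certE6 g s : Amb K)⁻¹ * xr certE6 (b : ℕ) t * xr certE6 g s = yy S u ∧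
        ∀ φ : Ix S → K, dot φ u = mv tabE6 g s φ b * t := by
    intro b t
    obtain ⟨⟨hne, hneg⟩, h2⟩ := hg.2 b b.2
    have hb := (set_spec b.2).2.1
    rw [xr_inv]
    cases e : tgt tabE6 S g b with
    | none =>
      rw [e] at h2
      simp only [List.all_eq_true, Bool.and_eq_true, decide_eq_true_eq, List.not_mem_nil, and_false] at h2
      have hnil := List.eq_nil_iff_forall_not_mem.2 fun x hx => h2 x hx
      have ec := xr_conj certE6 hg.1 hb hne hneg (by simp [hnil]) (-s) t
      rw [xr_inv, _root_.neg_neg, hnil, List.map_nil, List.prod_nil, mul_one] at ec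
      refine ⟨Pi.single b t, by rw [ec, yy_single], fun φ => ?_⟩
      simp only [dot_single, mv, e]
    | some kc =>
      obtain ⟨k, c⟩ := kc
      obtain ⟨hk, el⟩ := tgt_mem e
      have ec := xr_conj certE6 hg.1 hb hne hneg (fun x hx => by
        rw [el, List.mem_singleton] at hx; subst hx; exact (set_spec hk).2.1) (-s) t
      rw [xr_inv, _root_.neg_neg, el, List.map_singleton, List.prod_singleton, pow_one, pow_one] at ec
      refine ⟨Pi.single b t + Pi.single ⟨k, hk⟩ ((c : K) * (-s) * t), ?_, fun φ => ?_⟩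
      · rw [ec, AddChar.map_add_eq_mul, yy_single, yy_single]
      · simp only [dot_add, dot_single, mv, e, co_of_mem φ hk]
        ring
  choose u hu hd using hconj
  refine ⟨fun v => ∑ b, u b (v b), fun v => ?_, fun φ v => ?_⟩
  · let L : AddChar (Ix S → K) (Amb K) :=
      ((MulAut.conj (xr certE6 g s : Amb K)⁻¹).toMonoidHom).compAddChar (yy S)
    have hL : ∀ v, L v = (xr certE6 g s : Amb K)⁻¹ * yy S v * xr certE6 g s := fun v => by
      show MulAut.conj (xr certE6 g s : Amb K)⁻¹ (yy S v) = _
      rw [MulAut.conj_apply, inv_inv]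
    rw [← hL]
    conv_lhs => rw [← Finset.univ_sum_single v]
    suffices key : ∀ l : Finset (Ix S), L (∑ b ∈ l, Pi.single b (v b)) = yy S (∑ b ∈ l, u b (v b)) from
      key Finset.univ
    intro l
    induction l using Finset.induction_on with
    | empty => simp
    | insert a l ha ih =>
      rw [Finset.sum_insert ha, Finset.sum_insert ha, AddChar.map_add_eq_mul, AddChar.map_add_eq_mul, ih,
        hL, yy_single, hu]
  · have hsum : ∀ l : Finset (Ix S), dot φ (∑ b ∈ l, u b (v b)) = ∑ b ∈ l, dot φ (u b (v b)) := by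
      intro l
      induction l using Finset.induction_on with
      | empty => simp [dot_zero_right]
      | insert a l ha ih => rw [Finset.sum_insert ha, Finset.sum_insert ha, dot_add, ih]
    rw [hsum, dot]
    exact Finset.sum_congr rfl fun b _ => (hd b (v b) φ).symm

theorem act_el {S : List ℕ} [IsSet S] : ∀ {es : List (ℕ × ℕ)},
    (∀ e ∈ es, chkMove tabE6 [] S e.1 = true) → ∀ s : ℕ → K, Act (el es s) S S (run tabE6 es s)
  | [], _, s => Act.one
  | e :: r, h, s => by
    show Act (xr certE6 e.1 (s e.2) * el r s) S S (mv tabE6 e.1 (s e.2) ∘ run tabE6 r s)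
    exact (act_xr (h e List.mem_cons_self) _).mul
      (act_el (fun x hx => h x (List.mem_cons_of_mem _ hx)) s)

variable (f : K →+* K) (hf : ∀ t, f t = t ^ q) (hK : Fintype.card K = q ^ 2)
include hf

theorem hom_xr {r : ℕ} (hr : r < tabE6.n) (t : K) :
    (endoE6 f).hom (xr certE6 r t) = xr certE6 (twistE6.rt r) ((twistE6.ep r : K) * t ^ q) :=
  Subtype.ext (by
    rw [(endoE6 f).map_X r hr t _ (coe_xr certE6 hr t), coe_xr certE6 (tw_spec hr).1, τ_eq f hf hr]
    rfl)

include hK

theorem el_fixed : ∀ {es : List (ℕ × ℕ)}, chkBlocks es = true → ∀ {s : ℕ → K}, Compat q es s →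
    (endoE6 f).hom (el es s) = el es s
  | [], _, _, _ => map_one _
  | [e], h, s, hs => by
    simp only [chkBlocks, Bool.and_eq_true, decide_eq_true_eq] at h
    have e1 := hs e List.mem_cons_self
    rw [h.2] at e1
    simp only [el, List.map_cons, List.map_nil, List.prod_cons, List.prod_nil, mul_one]
    rw [hom_xr f hf h.1.1, h.1.2, ← e1]
  | e :: e' :: r, h, s, hs => by
    have hel : ∀ (a : ℕ × ℕ) l, el (a :: l) s = xr certE6 a.1 (s a.2) * el l s := fun a l => rfl
    rw [chkBlocks] at h
    split_ifs at h with hfx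
    · simp only [Bool.and_eq_true, decide_eq_true_eq] at h
      have e1 := hs e List.mem_cons_self
      rw [h.1.2] at e1
      rw [hel, map_mul, el_fixed h.2 (fun x hx => hs x (List.mem_cons_of_mem _ hx)), hom_xr f hf h.1.1,
        hfx, ← e1]
    · simp only [Bool.and_eq_true, decide_eq_true_eq] at h
      obtain ⟨⟨⟨⟨hlt, h1⟩, h2⟩, hc⟩, hr⟩ := h
      have hsp := tw_spec hlt
      have hlt' : e'.1 < tabE6.n := h1 ▸ hsp.1
      have e1 := hs e List.mem_cons_self
      rw [h2] at e1
      rw [hel, hel, map_mul, map_mul,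
        el_fixed hr (fun x hx => hs x (List.mem_cons_of_mem _ (List.mem_cons_of_mem _ hx))),
        hom_xr f hf hlt, hom_xr f hf hlt', ← mul_assoc, ← mul_assoc]
      congr 1
      rw [← h1, hsp.2.1, h1, ← h1, hsp.2.2.2.1, h1, ← e1]
      have hee : (twistE6.ep e.1 : K) * twistE6.ep e.1 = 1 := by
        exact_mod_cast congrArg (fun z : ℤ => (z : K)) hsp.2.2.2.2
      rw [e1, mul_pow, int_pow_q f hf, pow_q_q hK, ← mul_assoc, hee, one_mul, ← e1]
      exact (xr_comm certE6 hlt hlt' hc _ _).symm

/-- The element of a sequence in the group. -/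
noncomputable def elT {es : List (ℕ × ℕ)} (h : chkBlocks es = true) {s : ℕ → K} (hs : Compat q es s) :
    Tw f := ofFix f (el es s) (el_fixed f hf hK h hs)

theorem incl_elT {es : List (ℕ × ℕ)} (h : chkBlocks es = true) {s : ℕ → K} (hs : Compat q es s) :
    incl f (elT f hf hK h hs) = el es s := rfl

omit hf hK

/-- A monomial element. -/
theorem act_monomial {S S' : List ℕ} [IsSet S] [IsSet S'] {g : Amb K} {π : Ix S → Ix S'} {c : Ix S → K}
    (hg : ∀ (b : Ix S) t, g⁻¹ * xr certE6 (b : ℕ) t * g = xr certE6 (π b : ℕ) (c b * t)) :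
    Act g S S' (fun φ b => c b * φ (π b)) := by
  classical
  refine ⟨fun v => ∑ b, Pi.single (π b) (c b * v b), fun v => ?_, fun φ v => ?_⟩
  · let L : AddChar (Ix S → K) (Amb K) := ((MulAut.conj g⁻¹).toMonoidHom).compAddChar (yy S)
    have hL : ∀ v, L v = g⁻¹ * yy S v * g := fun v => by
      show MulAut.conj g⁻¹ (yy S v) = _
      rw [MulAut.conj_apply, inv_inv]
    rw [← hL]
    conv_lhs => rw [← Finset.univ_sum_single v]
    suffices key : ∀ l : Finset (Ix S),
        L (∑ b ∈ l, Pi.single b (v b)) = yy S' (∑ b ∈ l, Pi.single (π b) (c b * v b)) from key Finset.univ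
    intro l
    induction l using Finset.induction_on with
    | empty => simp
    | insert a l ha ih =>
      rw [Finset.sum_insert ha, Finset.sum_insert ha, AddChar.map_add_eq_mul, AddChar.map_add_eq_mul, ih,
        hL, yy_single, hg, yy_single]
  · have hsum : ∀ l : Finset (Ix S),
        dot φ (∑ b ∈ l, Pi.single (π b) (c b * v b)) = ∑ b ∈ l, φ (π b) * (c b * v b) := by
      intro l
      induction l using Finset.induction_on with
      | empty => simp [dot_zero_right]
      | insert a l ha ih => rw [Finset.sum_insert ha, Finset.sum_insert ha, dot_add, ih, dot_single]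
    rw [hsum, dot]
    exact Finset.sum_congr rfl fun b _ => by ring

/-- Restriction of a weight. -/
def res {S S2 : List ℕ} (φ : Ix S2 → K) : Ix S → K := fun a => co φ a

/-- Extension by zero. -/
def ext {S S2 : List ℕ} (v : Ix S → K) : Ix S2 → K := fun a => co v a

section Res

variable {S S' S2 : List ℕ} [IsSet S] [IsSet S'] [IsSet S2]

omit [Fintype K] [IsSet S] [IsSet S'] [IsSet S2] in
theorem ext_add (v u : Ix S → K) : (ext (v + u) : Ix S2 → K) = ext v + ext u := by
  funext a
  simp only [ext, Pi.add_apply, co]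
  split_ifs <;> simp

omit [Fintype K] [IsSet S] [IsSet S'] [IsSet S2] in
theorem ext_single (h : ∀ a ∈ S, a ∈ S2) (b : Ix S) (t : K) :
    (ext (Pi.single b t : Ix S → K) : Ix S2 → K) = Pi.single ⟨b, h b b.2⟩ t := by
  funext a
  by_cases e : (a : ℕ) = b
  · obtain rfl : a = ⟨b, h b b.2⟩ := Subtype.ext e
    simp [ext, co_of_mem _ b.2]
  · rw [Pi.single_eq_of_ne (fun h' => e (congrArg Subtype.val h')), ext, co]
    split_ifs with ha
    · exact Pi.single_eq_of_ne (fun h' => e (congrArg Subtype.val h')) _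
    · rfl

theorem yy_ext (h : ∀ a ∈ S, a ∈ S2) (v : Ix S → K) : yy S2 (ext v) = yy S v := by
  classical
  let L : AddChar (Ix S → K) (Amb K) :=
    { toFun := fun v => yy S2 (ext v)
      map_zero_eq_one' := by
        rw [show (ext (0 : Ix S → K) : Ix S2 → K) = 0 from funext fun a => by
          simp [ext, co], AddChar.map_zero_eq_one]
      map_add_eq_mul' := fun v u => by rw [ext_add, AddChar.map_add_eq_mul] }
  have e : L = yy S := addChar_ext fun b t => by
    show yy S2 (ext (Pi.single b t : Ix S → K)) = _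
    rw [ext_single h, yy_single, yy_single]
  exact DFunLike.congr_fun e v

omit [IsSet S] [IsSet S'] [IsSet S2] in
theorem dot_ext_eq (h : ∀ a ∈ S, a ∈ S2) (φ : Ix S2 → K) (v : Ix S → K) :
    dot φ (ext v) = dot (res φ) v := by
  classical
  conv_lhs => rw [← Finset.univ_sum_single v]
  suffices key : ∀ l : Finset (Ix S),
      dot φ (ext (∑ b ∈ l, Pi.single b (v b))) = ∑ b ∈ l, co φ b * v b from key Finset.univ
  intro l
  induction l using Finset.induction_on with
  | empty =>
    rw [Finset.sum_empty, show (ext (0 : Ix S → K) : Ix S2 → K) = 0 from funext fun a => by simp [ext, co]]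
    simp [dot_zero_right]
  | insert a l ha ih =>
    rw [Finset.sum_insert ha, Finset.sum_insert ha, ext_add, dot_add, ih, ext_single h, dot_single,
      co_of_mem φ (h a a.2)]

include hf

theorem sg_ext (h : ∀ a ∈ S, a ∈ S2) {v : Ix S → K} (hv : sg q v = v) :
    sg q (ext v : Ix S2 → K) = ext v := by
  funext a
  show (twistE6.ep a : K) * co (ext v : Ix S2 → K) (twistE6.rt a) ^ q = co v a
  rw [co_of_mem _ (set_spec a.2).2.2.1]
  show (twistE6.ep a : K) * co v (twistE6.rt a) ^ q = co v a
  by_cases ha : (a : ℕ) ∈ S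
  · rw [co_of_mem v ha]
    exact congrFun hv ⟨a, ha⟩
  · have : twistE6.rt a ∉ S := fun h' => ha (by
      have := (set_spec h').2.2.1
      rwa [(tw_spec (set_spec a.2).2.1).2.1] at this)
    rw [co, co, dif_neg ha, dif_neg this, zero_pow_q f hf, mul_zero]

variable {V : Type*} [AddCommGroup V] [Module ℂ V] {θ : AddChar K ℂ} {ρ : Representation ℂ (Tw f) V}

theorem Wt_res (h : ∀ a ∈ S, a ∈ S2) {φ : Ix S2 → K} {w : V} (hw : w ∈ Wt f hf ρ θ S2 φ) :
    w ∈ Wt f hf ρ θ S (res φ) := by
  rw [mem_Wt] at hw ⊢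
  intro a
  have e : rg f hf S a = rg f hf S2 ⟨ext (a : Ix S → K), sg_ext f hf h a.2⟩ := incl_injective f (by
    rw [incl_rg, incl_rg, yy_ext h])
  rw [e, hw, dot_ext_eq h]

theorem Wt_union (h : ∀ a ∈ S, a ∈ S2) (h' : ∀ a ∈ S', a ∈ S2) (hc : ∀ a ∈ S2, a ∈ S ∨ a ∈ S')
    {φ : Ix S2 → K} {w : V} (hw : w ∈ Wt f hf ρ θ S (res φ)) (hw' : w ∈ Wt f hf ρ θ S' (res φ)) :
    w ∈ Wt f hf ρ θ S2 φ := by
  classical
  rw [mem_Wt] at hw hw' ⊢
  intro a
  let v : Ix S → K := fun b => co (a : Ix S2 → K) b
  let v' : Ix S' → K := fun b => if (b : ℕ) ∈ S then 0 else co (a : Ix S2 → K) b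
  have hv : sg q v = v := funext fun b => by
    have hb := h b b.2
    show (twistE6.ep b : K) * co v (twistE6.rt b) ^ q = co (a : Ix S2 → K) b
    rw [co_of_mem v (set_spec b.2).2.2.1, co_of_mem _ hb]
    show (twistE6.ep b : K) * co (a : Ix S2 → K) (twistE6.rt b) ^ q = _
    exact congrFun a.2 ⟨b, hb⟩
  have hv' : sg q v' = v' := funext fun b => by
    have hb := h' b b.2
    have hr := (set_spec b.2).2.2.1
    show (twistE6.ep b : K) * co v' (twistE6.rt b) ^ q = v' b
    rw [co_of_mem v' hr]
    by_cases hbS : (b : ℕ) ∈ S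
    · simp only [v', if_pos (set_spec hbS).2.2.1, if_pos hbS, zero_pow_q f hf, mul_zero]
    · have : twistE6.rt b ∉ S := fun h1 => hbS (by
        have := (set_spec h1).2.2.1
        rwa [(tw_spec (set_spec b.2).2.1).2.1] at this)
      simp only [v', if_neg this, if_neg hbS, co_of_mem _ hb]
      exact congrFun a.2 ⟨b, hb⟩
  have e : (a : Ix S2 → K) = ext v + ext v' := funext fun b => by
    show (a : Ix S2 → K) b = co v b + co v' b
    by_cases hbS : (b : ℕ) ∈ S
    · rw [co_of_mem v hbS]
      show (a : Ix S2 → K) b = co (a : Ix S2 → K) b + co v' b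
      rw [co_of_mem _ b.2]
      by_cases hb' : (b : ℕ) ∈ S'
      · rw [co_of_mem v' hb']; simp [v', hbS]
      · rw [co, dif_neg hb', add_zero]
    · have hb' := (hc b b.2).resolve_left hbS
      rw [co, dif_neg hbS, zero_add, co_of_mem v' hb']
      simp [v', hbS, co_of_mem _ b.2]
  have eg : rg f hf S2 a = rg f hf S ⟨v, hv⟩ * rg f hf S' ⟨v', hv'⟩ := incl_injective f (by
    rw [map_mul, incl_rg, incl_rg, incl_rg]
    show yy S2 (a : Ix S2 → K) = _
    rw [e, AddChar.map_add_eq_mul, yy_ext h, yy_ext h'])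
  rw [eg, map_mul, Module.End.mul_apply, hw', map_smul, hw, smul_smul, ← AddChar.map_add_eq_mul]
  congr 2
  conv_rhs => rw [e, dot_add, dot_ext_eq h, dot_ext_eq h']
  rw [add_comm]

end Res

end CfsgLib.TwE6MinDeg
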