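import Cfsg.Agent.Lib.TwE6MinDeg.Common

/-!
Scaling by tori, the dimensions along the singular orbit, and the dichotomy of a level.
-/

set_option autoImplicit false
set_option linter.unusedSectionVars false
set_option maxRecDepth 100000

namespace CfsgLib.TwE6MinDeg

open Module Cfsg.Lie CfsgLib.Chev CfsgLib.EMinDeg CfsgLib.SUMinDegree

/-- The twisted cochar. -/
noncomputable def twv (v : List ℤ) : List ℤ := (List.range 6).map fun i => v.getD (piTwE6 i) 0

/-- A cocharacter pairs with two fixed roots as prescribed. -/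
noncomputable def chkCoch (v : List ℤ) (z o : ℕ) : Bool :=
  decide (pairV tabE6 v z = 1) && decide (pairV tabE6 (twv v) z = 1) &&
    decide (pairV tabE6 v o = 0) && decide (pairV tabE6 (twv v) o = 0)

/-- A word moves `z` to `m` inside a list. -/
noncomputable def chkMoveTo (S : List ℕ) (z : ℕ) (p : ℕ × List ℕ) : Bool :=
  chkWel p.2 && chkInto p.2 S S && decide (rword tabE6 p.2 z = p.1) && chkLong S p.1 &&
    decide (rword tabE6 p.2.reverse p.1 = z) &&
    S.all fun b => !decide (rword tabE6 p.2.reverse b = z) || decide (b = p.1)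

variable {K : Type*} [Field K] [Fintype K] {q : ℕ} (f : K →+* K) (hf : ∀ t, f t = t ^ q)
  (hK : Fintype.card K = q ^ 2) {S : List ℕ} [IsSet S]
  {V : Type*} [AddCommGroup V] [Module ℂ V] [FiniteDimensional ℂ V] {θ : AddChar K ℂ}
  {ρ : Representation ℂ (Tw f) V} {W : Submodule ℂ V}
include hf hK

/-- Tori preserve a subspace. -/
def TorStab (ρ : Representation ℂ (Tw f) V) (W : Submodule ℂ V) : Prop :=
  ∀ g : Tw f, (∀ (S : List ℕ) [IsSet S], ∃ Φ, Act (incl f g) S S Φ) → Stab f ρ W g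

omit hK in
theorem torStab_wt_zero : TorStab f ρ (Wt f hf ρ θ S 0) := fun _ hg => by
  obtain ⟨Φ, hA⟩ := hg S
  exact stab_wt_zero f hf hA

omit hf hK in
theorem TorStab.inf {W' : Submodule ℂ V} (h : TorStab f ρ W) (h' : TorStab f ρ W') :
    TorStab f ρ (W ⊓ W') := fun g hg => (h g hg).inf f (h' g hg)

omit hf hK in
theorem torStab_top : TorStab f ρ (⊤ : Submodule ℂ V) := fun _ _ => Stab.top f

theorem dim_scale (hW : TorStab f ρ W) {z o : ℕ} (hzS : z ∈ S) {v : List ℤ} (hv : chkCoch v z o = true)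
    {a : K} (ha : a ^ q = a) (ha0 : a ≠ 0) (b c : K) :
    finrank ℂ (W ⊓ Wt f hf ρ θ S (two S z (a * b) o c) : Submodule ℂ V) =
      finrank ℂ (W ⊓ Wt f hf ρ θ S (two S z b o c) : Submodule ℂ V) := by
  obtain ⟨u, hu⟩ := exists_norm hK ha ha0
  obtain ⟨g, hg⟩ := exists_tor f hf hK v u⁻¹
  simp only [chkCoch, Bool.and_eq_true, decide_eq_true_eq] at hv
  obtain ⟨⟨⟨h1, h2⟩, h3⟩, h4⟩ := hv
  have e := finrank_Wt_eq f hf (hW g fun S _ => ⟨_, hg S⟩) (hg S) (two S z b o c) (θ := θ)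
  have hinv : ((↑u⁻¹ : K) ^ (1 : ℤ) * ((↑u⁻¹ : K) ^ q) ^ (1 : ℤ))⁻¹ = a := by
    rw [zpow_one, zpow_one, Units.val_inv_eq_inv_val, inv_pow, mul_inv, inv_inv, inv_inv, hu]
  have hfun : (fun x : Ix S => ((↑u⁻¹ : K) ^ pairV tabE6 v x *
      ((↑u⁻¹ : K) ^ q) ^ pairV tabE6 (twv v) x)⁻¹ * two S z b o c x) = two S z (a * b) o c := by
    funext x
    by_cases hxz : (x : ℕ) = z
    · simp only [two, hxz, if_true]
      rw [h1, h2, hinv]
    · simp only [two, hxz, if_false]
      by_cases hxo : (x : ℕ) = o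
      · simp only [hxo, if_true]
        rw [h3, h4]
        simp
      · simp [hxo]
  rw [← hfun]
  exact e

theorem dim_one (hW : TorStab f ρ W) {z : ℕ} (hzS : z ∈ S) {v : List ℤ} {o' : ℕ} (hv : chkCoch v z o' = true)
    {a : K} (ha : a ^ q = a) (ha0 : a ≠ 0) :
    finrank ℂ (W ⊓ Wt f hf ρ θ S (one S z a) : Submodule ℂ V) =
      finrank ℂ (W ⊓ Wt f hf ρ θ S (one S z 1) : Submodule ℂ V) := by
  have := dim_scale (θ := θ) (W := W) f hf hK hW hzS hv ha ha0 1 0
  rwa [two_zero, two_zero, mul_one] at this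

theorem dim_move {z : ℕ} {p : ℕ × List ℕ} (hp : chkMoveTo S z p = true)
    (hwel : ∀ g : Tw f, IsWel f g p.2 → Stab f ρ W g) (hW : TorStab f ρ W) (hz : chkLong S z = true)
    {v : List ℤ} {o' : ℕ} (hv : chkCoch v z o' = true) {a : K} (ha : a ^ q = a) (ha0 : a ≠ 0) :
    finrank ℂ (W ⊓ Wt f hf ρ θ S (one S p.1 a) : Submodule ℂ V) =
      finrank ℂ (W ⊓ Wt f hf ρ θ S (one S z 1) : Submodule ℂ V) := by
  simp only [chkMoveTo, Bool.and_eq_true, Bool.or_eq_true, Bool.not_eq_true', decide_eq_false_iff_not,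
    decide_eq_true_eq, List.all_eq_true] at hp
  obtain ⟨⟨⟨⟨⟨hw, hinto⟩, -⟩, hm⟩, hback⟩, honly⟩ := hp
  obtain ⟨hmS, -, -⟩ := long_spec hm
  obtain ⟨hzS, -, -⟩ := long_spec hz
  obtain ⟨g, hg⟩ := exists_wel f hf hK hw
  obtain ⟨c, hc, hA⟩ := hg.act f hinto
  set d := c ⟨p.1, hmS⟩
  have himg : ∀ x : K, (fun b : Ix S => c b * co (one S z x) (rword tabE6 p.2.reverse b)) =
      one S p.1 (d * x) := by
    intro x
    funext b
    have hb' : rword tabE6 p.2.reverse b ∈ S := by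
      simp only [chkInto, List.all_eq_true, decide_eq_true_eq] at hinto
      exact hinto b b.2
    rw [co_one hb']
    by_cases hbm : (b : ℕ) = p.1
    · obtain rfl : b = ⟨p.1, hmS⟩ := Subtype.ext hbm
      simp [one, hback, d]
    · have hne : ¬ rword tabE6 p.2.reverse b = z := fun e => hbm ((honly b b.2).resolve_left (fun h => h e))
      simp [one, hbm, hne]
  have hd : d ^ q = d := by
    have h1 := hA.fixed f hf hK (hom_incl f g) (sg_one f hf hz (one_pow_q f hf))
    simp only [himg, mul_one] at h1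
    have h2 := co_fixed h1 hm
    rwa [co_one hmS, if_pos rfl] at h2
  have hd0 : d ≠ 0 := hc _
  have e := finrank_Wt_eq f hf (hwel g hg) hA (one S z (d⁻¹ * a)) (θ := θ)
  have hΦ := himg (d⁻¹ * a)
  rw [mul_inv_cancel_left₀ hd0] at hΦ
  rw [← hΦ]
  exact e.trans (dim_one f hf hK hW hzS hv (by rw [mul_pow, inv_pow, hd, ha])
    (mul_ne_zero (inv_ne_zero hd0) ha0))

/-- The count along the singular orbit. -/
theorem sing_le (hθ : θ 1 ≠ 1) {z : ℕ} (hz : chkLong S z = true) {v : List ℤ} {o' : ℕ} (hv : chkCoch v z o' = true)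
    (hW : TorStab f ρ W) {cs : List Cell} (hcs : (cs.all fun d => d.chk S) = true)
    (hl : cs.Pairwise fun d d' => d.m ∉ d'.A)
    (hA : (cs.all fun d => decide (d.m ∈ d.A) && !decide (d.m ∈ d.es.map Prod.snd)) = true)
    {ws : List (ℕ × List ℕ)} (hws : (ws.all (chkMoveTo S z)) = true)
    (hwel : ∀ p ∈ ws, ∀ g : Tw f, IsWel f g p.2 → Stab f ρ W g)
    (hcov : (cs.all fun d => decide (d.m ∈ ws.map Prod.fst)) = true)
    (hel : ∀ d ∈ cs, ∀ (hb : chkBlocks d.es = true) {s : ℕ → K} (hs : Compat q d.es s),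
      Stab f ρ W (elT f hf hK hb hs)) :
    (q - 1) * (cs.map fun d => q ^ d.es.length).sum *
      finrank ℂ (W ⊓ Wt f hf ρ θ S (one S z 1) : Submodule ℂ V) +
      finrank ℂ (W ⊓ Wt f hf ρ θ S 0 : Submodule ℂ V) ≤ finrank ℂ W := by
  classical
  simp only [List.all_eq_true, Bool.and_eq_true, Bool.not_eq_true', decide_eq_false_iff_not,
    decide_eq_true_eq] at hA hws hcov hcs
  let Fu := {u : Kˣ // u ^ (q - 1) = 1}
  have hFu : Fintype.card Fu = q - 1 := by
    rw [← Nat.card_eq_fintype_card, card_units_pow_eq_one, Nat.gcd_eq_right (dvd_card_E6 hK)]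
  have hu : ∀ u : Fu, ((u.1 : K)) ^ q = u.1 := fun u => by
    have h2 := two_le_q hK
    have e : (u.1 : K) ^ (q - 1 + 1) = u.1 := by
      rw [pow_succ, ← Units.val_pow_eq_pow_val, u.2, Units.val_one, one_mul]
    rwa [Nat.sub_add_cancel (by omega)] at e
  have key := family_le (θ := θ) (ρ := ρ) (W := W) f hf hK hθ hcs hl (ι := Fin cs.length × Fu)
    (fun p => p.1) (fun p => one S (cs.get p.1).m (p.2.1 : K))
    (fun p => by
      obtain ⟨hm, hnt⟩ := hA _ (List.get_mem cs p.1)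
      have hmS := (Cell.spec (hcs _ (List.get_mem cs p.1))).2.2.2.1
      refine ⟨supp_one hm _, by rw [co_one hmS, if_pos rfl]; exact p.2.1.ne_zero, fun e he => ?_⟩
      rw [co_one (chkRun_mem (Cell.spec (hcs _ (List.get_mem cs p.1))).1 e he), if_neg]
      exact fun e0 => hnt (List.mem_map.2 ⟨e, he, e0⟩))
    (fun p p' e1 e2 => by
      obtain ⟨i, a⟩ := p
      obtain ⟨i', a'⟩ := p'
      simp only at e1 e2
      subst e1
      have hmS := (Cell.spec (hcs _ (List.get_mem cs i))).2.2.2.1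
      have := congrFun e2 ⟨_, hmS⟩
      simp only [one, if_true] at this
      rw [Subtype.ext (Units.ext this) (a1 := a) (a2 := a')])
    (fun p => by
      obtain ⟨-, -, -, hmS, hr, he, -, -⟩ := Cell.spec (hcs _ (List.get_mem cs p.1))
      exact sg_one f hf (by simp only [chkLong, Bool.and_eq_true, decide_eq_true_eq]; exact ⟨⟨hmS, hr⟩, he⟩) (hu p.2))
    (fun p s => hel _ (List.get_mem cs p.1) _ s.2)
    (D := finrank ℂ (W ⊓ Wt f hf ρ θ S (one S z 1) : Submodule ℂ V)) (fun p => by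
      obtain ⟨l, hl', e⟩ := List.mem_map.1 (hcov _ (List.get_mem cs p.1))
      rw [← e]
      exact (dim_move f hf hK (hws l hl') (hwel l hl') hW hz hv (hu p.2) p.2.1.ne_zero).ge)
  refine le_of_eq_of_le ?_ key
  congr 2
  rw [Fintype.sum_prod_type]
  simp only [Finset.sum_const, Finset.card_univ, hFu, smul_eq_mul, ← Finset.mul_sum]
  rw [← Fin.sum_univ_getElem (cs.map fun d => q ^ d.es.length)]
  congr 1
  refine Fintype.sum_equiv (finCongr (List.length_map _)) _ _ fun i => ?_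
  simp

/-- Some weight is a multiple of the unit at `z`, or has both coordinates of a pair. -/
theorem level_dichotomy (hθ : θ 1 ≠ 1) {z o : ℕ} (hz : chkLong S z = true) (ho : chkLong S o = true)
    {Lg : List (ℕ × List ℕ)} {es : List (ℕ × ℕ)} (htop : chkTop S z Lg es = true)
    (hwel : ∀ l ∈ Lg, ∀ g : Tw f, IsWel f g l.2 → Stab f ρ W g)
    (hel : ∀ (hb : chkBlocks es = true) {s : ℕ → K} (hs : Compat q es s), Stab f ρ W (elT f hf hK hb hs))
    {d : Cell} (hd : d.chk S = true) (hdm : d.m = z)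
    (hcov : (S.all fun a => decide (a ∈ d.A) && (decide (a = z) || decide (a = o) ||
      decide (a ∈ d.es.map Prod.snd))) = true)
    (hcell : ∀ {s : ℕ → K} (hb : chkBlocks d.es = true) (hs : Compat q d.es s),
      Stab f ρ W (elT f hf hK hb hs))
    {v : List ℤ} {o' : ℕ} (hv : chkCoch v z o' = true) (hv1 : chkCoch v z o = true)
    {v2 : List ℤ} (hv2 : chkCoch v2 o z = true) (hW : TorStab f ρ W) (hzo : z ≠ o)
    (hS : ∀ a, Stab f ρ W (rg f hf S a)) (hnt : ¬ W ≤ Wt f hf ρ θ S 0) :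
    0 < finrank ℂ (W ⊓ Wt f hf ρ θ S (one S z 1) : Submodule ℂ V) ∨
      0 < finrank ℂ (W ⊓ Wt f hf ρ θ S (two S z 1 o 1) : Submodule ℂ V) := by
  classical
  simp only [List.all_eq_true, Bool.and_eq_true, Bool.or_eq_true, decide_eq_true_eq] at hcov
  obtain ⟨φ, hφ, hφ0, hne⟩ := exists_wt_ne f hf hK hθ hS hnt
  obtain ⟨χ, hχ, hχz, hχne⟩ := exists_top f hf hK htop hwel hel hφ hφ0 hne
  have hsupp : Supp d.A χ := fun a ha hn => absurd (hcov a ha).1 hn
  obtain ⟨s, φ₀, e, hφ0', hs0, hm0, hzero⟩ := clear f hf hK hd hχ hsupp (by rw [hdm]; exact hχz)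
  have hdim : 0 < finrank ℂ (W ⊓ Wt f hf ρ θ S φ₀ : Submodule ℂ V) := by
    rw [← finrank_Wt_eq f hf (hcell _ s.2) (cpt_act f hf hK hd s) φ₀, e]
    exact Nat.pos_of_ne_zero fun e0 => hχne (Submodule.finrank_eq_zero.1 e0)
  obtain ⟨hzS, -, -⟩ := long_spec hz
  obtain ⟨hoS, -, -⟩ := long_spec ho
  have e0 : φ₀ = two S z (co φ₀ z) o (co φ₀ o) := co_ext fun a ha => by
    rw [co_two ha]
    by_cases h1 : a = z
    · rw [if_pos h1, h1]
    · rw [if_neg h1]
      by_cases h2 : a = o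
      · rw [if_pos h2, h2]
      · rw [if_neg h2]
        obtain ⟨x, hx, hxe⟩ := List.mem_map.1 (((hcov a ha).2).resolve_left (by simp [h1, h2]))
        rw [← hxe]; exact hzero x hx
  have ha := co_fixed hφ0' hz
  have hc := co_fixed hφ0' ho
  have ha0 : co φ₀ z ≠ 0 := by rw [← hdm, hm0, hdm]; exact hχz
  rw [e0] at hdim
  by_cases hc0 : co φ₀ o = 0
  · left
    rw [hc0, two_zero, dim_one f hf hK hW hzS hv ha ha0] at hdim
    exact hdim
  · right
    have e1 := dim_scale (θ := θ) (W := W) f hf hK hW hzS hv1 ha ha0 1 (co φ₀ o)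
    rw [mul_one] at e1
    rw [e1] at hdim
    have e2 := dim_scale (θ := θ) (W := W) f hf hK hW hoS hv2 hc hc0 1 1
    have hswap : ∀ x y : K, two S o x z y = two S z y o x := fun x y => funext fun b => by
      simp only [two]
      split_ifs with h1 h2 <;> first | rfl | exact absurd (h2.symm.trans h1) hzo
    rw [hswap, hswap, mul_one] at e2
    rw [e2] at hdim
    exact hdim

end CfsgLib.TwE6MinDeg
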