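import Cfsg.Agent.Lib.TwE6MinDeg.Core

/-!
Weights of the abelian root groups and their transport by normalising elements.
-/

set_option autoImplicit false
set_option linter.unusedSectionVars false
set_option maxRecDepth 100000

namespace CfsgLib.TwE6MinDeg

open Module Cfsg.Lie CfsgLib.Chev CfsgLib.EMinDeg CfsgLib.SUMinDegree

section Field

variable {K : Type*} [Field K] [Fintype K] {q : ℕ} (hK : Fintype.card K = q ^ 2)
include hK

theorem pow_q_q (t : K) : (t ^ q) ^ q = t := by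
  rw [← pow_mul, show q * q = Fintype.card K by rw [hK]; ring, FiniteField.pow_card]

theorem two_le_q : 2 ≤ q := by
  by_contra h
  have h1 := Fintype.one_lt_card (α := K)
  interval_cases q <;> simp_all

theorem card_small : Nat.card {t : K // t ^ q = t} = q := by
  have h2 := two_le_q hK
  exact card_pow_eq_self (by omega) (dvd_card_E6 hK)

/-- The norm is surjective. -/
theorem exists_norm {a : K} (ha : a ^ q = a) (ha0 : a ≠ 0) : ∃ u : Kˣ, (u : K) * (u : K) ^ q = a := by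
  classical
  have h2 := two_le_q hK
  have hfac : q ^ 2 - 1 = (q + 1) * (q - 1) := by simpa using Nat.sq_sub_sq q 1
  have hcard : Fintype.card K - 1 = (q + 1) * (q - 1) := by rw [hK, hfac]
  let φ : Kˣ →* Kˣ := powMonoidHom (q + 1)
  let H : Subgroup Kˣ := (powMonoidHom (q - 1) : Kˣ →* Kˣ).ker
  have hle : φ.range ≤ H := by
    rintro _ ⟨u, rfl⟩
    show (u ^ (q + 1)) ^ (q - 1) = 1
    rw [← pow_mul, ← hcard, ← Fintype.card_units, pow_card_eq_one]
  have hH : Nat.card H = q - 1 := by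
    rw [show Nat.card H = Nat.card {u : Kˣ // u ^ (q - 1) = 1} from rfl, card_units_pow_eq_one,
      Nat.gcd_eq_right (dvd_card_E6 hK)]
  have hker : Nat.card φ.ker = q + 1 := by
    rw [show Nat.card φ.ker = Nat.card {u : Kˣ // u ^ (q + 1) = 1} from rfl, card_units_pow_eq_one,
      hcard, Nat.gcd_eq_right (Dvd.intro _ rfl)]
  have hrange : Nat.card φ.range = q - 1 := by
    have h := Subgroup.card_mul_index φ.ker
    rw [Subgroup.index_ker, hker, Nat.card_eq_fintype_card (α := Kˣ), Fintype.card_units, hcard] at h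
    exact Nat.eq_of_mul_eq_mul_left (by omega) h
  have e : φ.range = H := Subgroup.eq_of_le_of_card_ge hle (by rw [hH, hrange])
  have hm : Units.mk0 a ha0 ∈ H := by
    show Units.mk0 a ha0 ^ (q - 1) = 1
    refine Units.ext ?_
    rw [Units.val_pow_eq_pow_val, Units.val_mk0, Units.val_one]
    refine mul_right_cancel₀ ha0 ?_
    rw [← pow_succ, Nat.sub_add_cancel (by omega), ha, one_mul]
  rw [← e] at hm
  obtain ⟨u, hu⟩ := hm
  refine ⟨u, ?_⟩
  rw [← pow_succ']
  simpa [φ] using congrArg Units.val hu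

variable {f : K →+* K} (hf : ∀ t, f t = t ^ q)
include hf

/-- The trace takes the value one. -/
theorem exists_trace_one : ∃ u : K, u + u ^ q = 1 := by
  classical
  let g : K →+ K := AddMonoidHom.id K + f.toAddMonoidHom
  have hg : ∀ u, g u = u + u ^ q := fun u => by simp [g, hf]
  have hrange : ∀ x ∈ g.range, x ^ q = x := by
    rintro _ ⟨u, rfl⟩
    rw [hg, pow_add_q f hf, pow_q_q hK, add_comm]
  have hker : Nat.card g.ker ≤ q := by
    by_cases h : ∃ a ∈ g.ker, a ≠ 0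
    · obtain ⟨a, ha, ha0⟩ := h
      rw [AddMonoidHom.mem_ker, hg] at ha
      refine le_trans ?_ (card_small hK).le
      refine Nat.card_le_card_of_injective (fun u : g.ker => (⟨(u : K) / a, ?_⟩ : {t : K // t ^ q = t}))
        fun u v e => Subtype.ext ((div_left_inj' ha0).1 (congrArg Subtype.val e))
      have hu := u.2
      rw [AddMonoidHom.mem_ker, hg] at hu
      rw [div_pow, eq_neg_of_add_eq_zero_right hu, eq_neg_of_add_eq_zero_right ha, neg_div_neg_eq]
    · push Not at h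
      rw [show g.ker = ⊥ from (AddSubgroup.eq_bot_iff_forall _).2 h, AddSubgroup.card_bot]
      have := two_le_q hK
      omega
  let Fq : AddSubgroup K := (f.toAddMonoidHom - AddMonoidHom.id K).ker
  have hFq : ∀ x, x ∈ Fq ↔ x ^ q = x := fun x => by simp [Fq, AddMonoidHom.mem_ker, sub_eq_zero, hf]
  have hle : g.range ≤ Fq := fun x hx => (hFq x).2 (hrange x hx)
  have hcF : Nat.card Fq = q := by
    rw [← card_small hK]
    exact Nat.card_congr (Equiv.subtypeEquivRight hFq)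
  have hge : q ≤ Nat.card g.range := by
    have h := AddSubgroup.card_mul_index g.ker
    rw [AddSubgroup.index_ker, Nat.card_eq_fintype_card (α := K), hK] at h
    have h2 : q * q ≤ q * Nat.card g.range := by
      rw [← sq, ← h]; exact Nat.mul_le_mul_right _ hker
    exact Nat.le_of_mul_le_mul_left h2 (by have := two_le_q hK; omega)
  have e : g.range = Fq := AddSubgroup.eq_of_le_of_card_ge hle (by rw [hcF]; exact hge)
  obtain ⟨u, hu⟩ : (1 : K) ∈ g.range := by rw [e, hFq, one_pow]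
  exact ⟨u, by rw [← hg, hu]⟩

end Field

variable {K : Type*} [Field K] [Fintype K] {q : ℕ} (f : K →+* K) (hf : ∀ t, f t = t ^ q)
  (hK : Fintype.card K = q ^ 2)

/-- A conjugation between abelian root groups with the transposed map of the weights. -/
def Act (g : Amb K) (S S' : List ℕ) [IsSet S] [IsSet S'] (Φ : (Ix S' → K) → (Ix S → K)) : Prop :=
  ∃ M : (Ix S → K) → (Ix S' → K),
    (∀ v, g⁻¹ * yy S v * g = yy S' (M v)) ∧ ∀ φ v, dot (Φ φ) v = dot φ (M v)

section Dot

variable {S : List ℕ}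

theorem dot_comm (φ v : Ix S → K) : dot φ v = dot v φ := by simp only [dot, mul_comm]

theorem dot_ext {φ χ : Ix S → K} (h : ∀ v, dot φ v = dot χ v) : φ = χ :=
  funext fun b => by simpa [dot_single] using h (Pi.single b 1)

theorem dot_zero_left (v : Ix S → K) : dot (0 : Ix S → K) v = 0 := by simp [dot]

theorem dot_zero_right (v : Ix S → K) : dot v (0 : Ix S → K) = 0 := by simp [dot]

theorem dot_sub_left (φ χ v : Ix S → K) : dot (φ - χ) v = dot φ v - dot χ v := by
  simp [dot, sub_mul, Finset.sum_sub_distrib]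

end Dot

namespace Act

variable {S S' S'' : List ℕ} [IsSet S] [IsSet S'] [IsSet S''] {g g' : Amb K}
  {Φ : (Ix S' → K) → (Ix S → K)} {Ψ : (Ix S'' → K) → (Ix S' → K)}

theorem one : Act (1 : Amb K) S S id := ⟨id, fun v => by simp, fun _ _ => rfl⟩

theorem mul (h : Act g S S' Φ) (h' : Act g' S' S'' Ψ) : Act (g * g') S S'' (Φ ∘ Ψ) := by
  obtain ⟨M, hM, hd⟩ := h
  obtain ⟨N, hN, hd'⟩ := h'
  refine ⟨N ∘ M, fun v => ?_, fun φ v => ?_⟩
  · rw [Function.comp_apply, ← hN, ← hM]; group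
  · rw [Function.comp_apply, Function.comp_apply, hd, hd']

theorem map_zero (h : Act g S S' Φ) : Φ 0 = 0 := by
  obtain ⟨M, -, hd⟩ := h
  exact dot_ext fun v => by rw [hd, dot_zero_left, dot_zero_left]

theorem inv {Φ : (Ix S → K) → (Ix S → K)} (h : Act g S S Φ) :
    ∃ Ψ : (Ix S → K) → (Ix S → K), (∀ φ, Ψ (Φ φ) = φ) ∧ Act g⁻¹ S S Ψ := by
  obtain ⟨M, hM, hd⟩ := h
  have hMi : Function.Injective M := fun v u e => yy_injective (S := S) (by
    have h1 := hM v
    rw [e, ← hM u] at h1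
    exact mul_left_cancel (mul_right_cancel h1))
  have hMb := Finite.injective_iff_bijective.1 hMi
  obtain ⟨N, -, hNr⟩ := Function.bijective_iff_has_inverse.1 hMb
  have hΦi : Function.Injective Φ := fun φ χ e => dot_ext fun v => by
    rw [← hNr v, ← hd, ← hd, e]
  obtain ⟨Ψ, hl, hr⟩ := Function.bijective_iff_has_inverse.1 (Finite.injective_iff_bijective.1 hΦi)
  refine ⟨Ψ, hl, N, fun v => ?_, fun φ v => ?_⟩
  · conv_lhs => rw [← hNr v, ← hM (N v)]
    group
  · conv_lhs => rw [← hNr v, ← hd, hr φ]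

include hf

theorem sg_comm (hg : (endoE6 f).hom g = g) {M : (Ix S → K) → (Ix S' → K)}
    (hM : ∀ v, g⁻¹ * yy S v * g = yy S' (M v)) (v : Ix S → K) : sg q (M v) = M (sg q v) := by
  refine yy_injective ?_
  rw [← hM, ← act_yy f hf, ← hM, map_mul, map_mul, map_inv, hg, act_yy f hf]

include hK

theorem sg_sg (v : Ix S → K) : sg q (sg q v) = v := by
  funext a
  have ha := tw_spec (set_spec a.2).2.1
  have hm := (set_spec a.2).2.2.1
  show (twistE6.ep a : K) * co (sg q v) (twistE6.rt a) ^ q = v a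
  rw [co_of_mem _ hm]
  simp only [sg, ha.2.1, ha.2.2.2.1, mul_pow, int_pow_q f hf]
  rw [co_of_mem v a.2, pow_q_q hK, ← mul_assoc,
    show (twistE6.ep a : K) * twistE6.ep a = 1 by
      exact_mod_cast congrArg (fun z : ℤ => (z : K)) ha.2.2.2.2, one_mul]

theorem fixed (h : Act g S S' Φ) (hg : (endoE6 f).hom g = g) {φ : Ix S' → K} (hφ : sg q φ = φ) :
    sg q (Φ φ) = Φ φ := by
  obtain ⟨M, hM, hd⟩ := h
  refine dot_ext fun v => ?_
  conv_lhs => rw [← sg_sg f hf hK v, dot_sg f hf, hd, ← dot_sg f hf, hφ, sg_comm f hf hg hM]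
  rw [← hd, sg_sg f hf hK]

end Act

include hf

noncomputable instance (S : List ℕ) [IsSet S] : Fintype (fixV f hf S) := Fintype.ofFinite _

section Weight

variable {V : Type*} [AddCommGroup V] [Module ℂ V] {θ : AddChar K ℂ} {S S' : List ℕ} [IsSet S] [IsSet S']

omit hf in
/-- The character attached to a weight. -/
noncomputable def chi (θ : AddChar K ℂ) (hf : ∀ t, f t = t ^ q) (φ : Ix S → K) :
    AddChar (fixV f hf S) ℂ where
  toFun a := θ (dot φ (a : Ix S → K))
  map_zero_eq_one' := by simp [dot_zero_right]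
  map_add_eq_mul' a b := by rw [AddSubgroup.coe_add, dot_add, AddChar.map_add_eq_mul]

/-- The weight space. -/
noncomputable def Wt (ρ : Representation ℂ (Tw f) V) (θ : AddChar K ℂ) (S : List ℕ) [IsSet S]
    (φ : Ix S → K) : Submodule ℂ V := weight ρ (rg f hf S) (fun a => chi f θ hf φ a)

theorem mem_Wt {ρ : Representation ℂ (Tw f) V} {φ : Ix S → K} {w : V} :
    w ∈ Wt f hf ρ θ S φ ↔ ∀ a : fixV f hf S, ρ (rg f hf S a) w = θ (dot φ (a : Ix S → K)) • w :=
  mem_weight _ _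

theorem mem_Wt_zero {ρ : Representation ℂ (Tw f) V} {w : V} :
    w ∈ Wt f hf ρ θ S 0 ↔ ∀ a : fixV f hf S, ρ (rg f hf S a) w = w := by
  rw [mem_Wt]
  simp [dot_zero_left]

/-- A subspace preserved by an element. -/
def Stab (ρ : Representation ℂ (Tw f) V) (W : Submodule ℂ V) (g : Tw f) : Prop := ∀ w ∈ W, ρ g w ∈ W

variable {ρ : Representation ℂ (Tw f) V} {g : Tw f}

theorem rho_mem_Wt {Φ : (Ix S' → K) → (Ix S → K)} (h : Act (incl f g) S S' Φ) {φ : Ix S' → K} {w : V}
    (hw : w ∈ Wt f hf ρ θ S' φ) : ρ g w ∈ Wt f hf ρ θ S (Φ φ) := by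
  obtain ⟨M, hM, hd⟩ := h
  rw [mem_Wt] at hw ⊢
  intro a
  have hma : sg q (M (a : Ix S → K)) = M (a : Ix S → K) := by
    rw [Act.sg_comm f hf (hom_incl f g) hM, a.2]
  have e : rg f hf S a * g = g * rg f hf S' ⟨_, hma⟩ := incl_injective f (by
    rw [map_mul, map_mul, incl_rg, incl_rg, ← hM]; group)
  rw [← Module.End.mul_apply, ← map_mul, e, map_mul, Module.End.mul_apply, hw, map_smul, hd]

theorem stab_wt_zero {Φ : (Ix S → K) → (Ix S → K)} (h : Act (incl f g) S S Φ) :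
    Stab f ρ (Wt f hf ρ θ S 0) g := fun w hw => by
  have := rho_mem_Wt f hf h hw
  rwa [h.map_zero] at this

omit hf in
theorem Stab.inf {W W' : Submodule ℂ V} (h : Stab f ρ W g) (h' : Stab f ρ W' g) :
    Stab f ρ (W ⊓ W') g := fun w hw => ⟨h w hw.1, h' w hw.2⟩

omit hf in
theorem Stab.top : Stab f ρ ⊤ g := fun _ _ => trivial

variable [FiniteDimensional ℂ V]

omit hf in
theorem rho_injective (g : Tw f) : Function.Injective (ρ g) := fun a b h => by
  have h1 := congrArg (ρ g⁻¹) h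
  simpa [← Module.End.mul_apply, ← map_mul] using h1

omit hf in
theorem Stab.inv {W : Submodule ℂ V} (h : Stab f ρ W g) : Stab f ρ W g⁻¹ := by
  intro w hw
  obtain ⟨u, hu⟩ := LinearMap.surjective_of_injective (f := (ρ g).restrict h)
    (fun a b e => Subtype.ext (rho_injective f g (congrArg Subtype.val e))) ⟨w, hw⟩
  have hu' : ρ g u = w := congrArg Subtype.val hu
  rw [← hu', ← Module.End.mul_apply, ← map_mul]
  simp

theorem finrank_Wt_le {W : Submodule ℂ V} (hW : Stab f ρ W g) {Φ : (Ix S' → K) → (Ix S → K)}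
    (h : Act (incl f g) S S' Φ) (φ : Ix S' → K) :
    finrank ℂ (W ⊓ Wt f hf ρ θ S' φ : Submodule ℂ V) ≤
      finrank ℂ (W ⊓ Wt f hf ρ θ S (Φ φ) : Submodule ℂ V) := by
  refine LinearMap.finrank_le_finrank_of_injective
    (f := (ρ g).restrict (p := W ⊓ Wt f hf ρ θ S' φ) (q := W ⊓ Wt f hf ρ θ S (Φ φ))
      fun w hw => ⟨hW w hw.1, rho_mem_Wt f hf h hw.2⟩)
    fun a b e => Subtype.ext (rho_injective f g (congrArg Subtype.val e))

theorem finrank_Wt_eq {W : Submodule ℂ V} (hW : Stab f ρ W g) {Φ : (Ix S → K) → (Ix S → K)}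
    (h : Act (incl f g) S S Φ) (φ : Ix S → K) :
    finrank ℂ (W ⊓ Wt f hf ρ θ S (Φ φ) : Submodule ℂ V) =
      finrank ℂ (W ⊓ Wt f hf ρ θ S φ : Submodule ℂ V) := by
  refine le_antisymm ?_ (finrank_Wt_le f hf hW h φ)
  obtain ⟨Ψ, hl, hA⟩ := h.inv
  rw [← map_inv] at hA
  have := finrank_Wt_le f hf (hW.inv f) hA (Φ φ) (θ := θ)
  rwa [hl] at this

end Weight

section Characters

variable {θ : AddChar K ℂ} (hθ : θ 1 ≠ 1) {S : List ℕ} [IsSet S]
include hθ hK

theorem chi_separates {d : Ix S → K} (hd : sg q d = d)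
    (h : ∀ a : fixV f hf S, θ (dot d (a : Ix S → K)) = 1) : d = 0 := by
  classical
  funext b
  by_contra hb
  simp only [Pi.zero_apply] at hb
  have hs := tw_spec (set_spec b.2).2.1
  have hdb := congrFun hd ⟨twistE6.rt b, (set_spec b.2).2.2.1⟩
  simp only [sg, hs.2.1, hs.2.2.2.1, co_of_mem _ b.2] at hdb
  have hee : (twistE6.ep (b : ℕ) : K) * twistE6.ep (b : ℕ) = 1 := by
    exact_mod_cast congrArg (fun z : ℤ => (z : K)) hs.2.2.2.2
  by_cases hfx : twistE6.rt b = b
  · rw [show (⟨twistE6.rt b, (set_spec b.2).2.2.1⟩ : Ix S) = b from Subtype.ext hfx] at hdb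
    have hfix : sg q (Pi.single b (d b)⁻¹ : Ix S → K) = Pi.single b (d b)⁻¹ := by
      rw [sg_single f hf, show (⟨twistE6.rt b, (set_spec b.2).2.2.1⟩ : Ix S) = b from Subtype.ext hfx]
      congr 1
      conv_rhs => rw [← hdb, mul_inv]
      rw [inv_pow]
      congr 1
      exact (inv_eq_of_mul_eq_one_right hee).symm
    have := h ⟨_, hfix⟩
    rw [dot_single, mul_inv_cancel₀ hb] at this
    exact hθ this
  · obtain ⟨u, hu⟩ := exists_trace_one hK hf
    set t := u / d b with ht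
    set b' : Ix S := ⟨twistE6.rt b, (set_spec b.2).2.2.1⟩
    have hfix : sg q (Pi.single b t + Pi.single b' ((twistE6.ep (b : ℕ) : K) * t ^ q) : Ix S → K) =
        Pi.single b t + Pi.single b' ((twistE6.ep (b : ℕ) : K) * t ^ q) := by
      rw [sg_add f hf, sg_single f hf, sg_single f hf, add_comm]
      congr 1
      rw [show (⟨twistE6.rt b', (set_spec b'.2).2.2.1⟩ : Ix S) = b from Subtype.ext hs.2.1]
      congr 1
      rw [show twistE6.ep (b' : ℕ) = twistE6.ep (b : ℕ) from hs.2.2.2.1, mul_pow, int_pow_q f hf,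
        pow_q_q hK, ← mul_assoc, hee, one_mul]
    have := h ⟨_, hfix⟩
    rw [dot_add, dot_single, dot_single, ← hdb] at this
    refine hθ ?_
    rw [← this]
    congr 1
    have hdt : d b * t = u := by rw [ht, mul_div_cancel₀ _ hb]
    calc (1 : K) = u + u ^ q := hu.symm
      _ = _ := by
        rw [← hdt, mul_pow]
        linear_combination (-(d b ^ q * t ^ q)) * hee

theorem chi_injective {φ χ : Ix S → K} (hφ : sg q φ = φ) (hχ : sg q χ = χ)
    (h : chi f θ hf φ = chi f θ hf χ) : φ = χ := by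
  refine sub_eq_zero.1 (chi_separates f hf hK hθ (d := φ - χ) ?_ fun a => ?_)
  · have := (fixV f hf S).sub_mem (x := φ) (y := χ) hφ hχ
    exact this
  · have e : θ (dot φ (a : Ix S → K)) = θ (dot χ (a : Ix S → K)) := DFunLike.congr_fun h a
    rw [dot_sub_left, AddChar.map_sub_eq_div, e, div_self]
    exact (AddChar.val_isUnit θ _).ne_zero

theorem chi_surjective (ξ : AddChar (fixV f hf S) ℂ) : ∃ φ : Ix S → K, sg q φ = φ ∧ chi f θ hf φ = ξ := by
  classical
  have hinj : Function.Injective fun φ : fixV f hf S => chi f θ hf (φ : Ix S → K) := fun φ χ e =>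
    Subtype.ext (chi_injective f hf hK hθ φ.2 χ.2 e)
  have hb := (Fintype.bijective_iff_injective_and_card _).2
    ⟨hinj, (AddChar.card_eq (α := fixV f hf S)).symm⟩
  obtain ⟨φ, hφ⟩ := hb.2 ξ
  exact ⟨φ, φ.2, hφ⟩

variable {V : Type*} [AddCommGroup V] [Module ℂ V] [FiniteDimensional ℂ V]
  {ρ : Representation ℂ (Tw f) V} {W : Submodule ℂ V}

theorem exists_wt (hW : ∀ a, Stab f ρ W (rg f hf S a)) (hW0 : W ≠ ⊥) :
    ∃ φ : Ix S → K, sg q φ = φ ∧ W ⊓ Wt f hf ρ θ S φ ≠ ⊥ := by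
  obtain ⟨v, hv, hv0⟩ := W.ne_bot_iff.1 hW0
  obtain ⟨ξ, w, hw0, hwW, hw⟩ := exists_weight ρ (rg_add f hf) (fun a => hW a) hv hv0
  obtain ⟨φ, hφ, rfl⟩ := chi_surjective f hf hK hθ ξ
  exact ⟨φ, hφ, (Submodule.ne_bot_iff _).2 ⟨w, ⟨hwW, hw⟩, hw0⟩⟩

theorem exists_wt_ne (hW : ∀ a, Stab f ρ W (rg f hf S a)) (h : ¬ W ≤ Wt f hf ρ θ S 0) :
    ∃ φ : Ix S → K, sg q φ = φ ∧ φ ≠ 0 ∧ W ⊓ Wt f hf ρ θ S φ ≠ ⊥ := by
  obtain ⟨v, hv, hv0⟩ := SetLike.not_le_iff_exists.1 h
  rw [mem_Wt_zero] at hv0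
  push Not at hv0
  obtain ⟨a, ha⟩ := hv0
  obtain ⟨ξ, w, hξ, hw0, hwW, hw⟩ := exists_weight_ne ρ (rg_add f hf) (fun a => hW a) hv ha
  obtain ⟨φ, hφ, rfl⟩ := chi_surjective f hf hK hθ ξ
  refine ⟨φ, hφ, fun e => hξ ?_, (Submodule.ne_bot_iff _).2 ⟨w, ⟨hwW, hw⟩, hw0⟩⟩
  subst e
  exact DFunLike.ext _ _ fun a => by
    show θ (dot (0 : Ix S → K) (a : Ix S → K)) = 1
    rw [dot_zero_left, AddChar.map_zero_eq_one]

theorem sum_wt_le {ι : Type*} [Fintype ι] (φ : ι → Ix S → K) (hφ : ∀ i, sg q (φ i) = φ i)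
    (hi : Function.Injective φ) :
    ∑ i, finrank ℂ (W ⊓ Wt f hf ρ θ S (φ i) : Submodule ℂ V) ≤ finrank ℂ W := by
  exact sum_finrank_le ρ (T := rg f hf S) (fun i => chi f θ hf (φ i))
    (fun i j e => hi (chi_injective f hf hK hθ (hφ i) (hφ j) e)) W

/-- A subspace is spanned by its weight spaces. -/
theorem finrank_le_sum (hW : ∀ a, Stab f ρ W (rg f hf S a)) {ι : Type*} [Fintype ι]
    (φ : ι → Ix S → K)
    (hc : ∀ χ, sg q χ = χ → W ⊓ Wt f hf ρ θ S χ ≠ ⊥ → ∃ i, φ i = χ) :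
    finrank ℂ W ≤ ∑ i, finrank ℂ (W ⊓ Wt f hf ρ θ S (φ i) : Submodule ℂ V) := by
  classical
  let U := fun i => (W ⊓ Wt f hf ρ θ S (φ i) : Submodule ℂ V)
  have hle : W ≤ ⨆ i, U i := by
    intro v hv
    have h := sum_proj ρ (rg_add f hf (S := S)) v
    have hm : ∀ ξ : AddChar (fixV f hf S) ℂ, proj ρ (rg f hf S) ξ v ∈ ⨆ i, U i := by
      intro ξ
      by_cases h0 : proj ρ (rg f hf S) ξ v = 0
      · rw [h0]; exact Submodule.zero_mem _
      obtain ⟨χ, hχ, rfl⟩ := chi_surjective f hf hK hθ ξ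
      have hp : proj ρ (rg f hf S) (chi f θ hf χ) v ∈ W ⊓ Wt f hf ρ θ S χ :=
        ⟨proj_mem ρ (fun a => hW a) _ hv, proj_mem_weight ρ (rg_add f hf) _ v⟩
      obtain ⟨i, rfl⟩ := hc χ hχ ((Submodule.ne_bot_iff _).2 ⟨_, hp, h0⟩)
      exact Submodule.mem_iSup_of_mem (p := U) i hp
    have h2 := (⨆ i, U i).sum_mem (t := Finset.univ) fun ξ _ => hm ξ
    rw [h] at h2
    have hne : (Fintype.card (fixV f hf S) : ℂ) ≠ 0 := Nat.cast_ne_zero.2 Fintype.card_ne_zero
    simpa [smul_smul, inv_mul_cancel₀ hne] using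
      (⨆ i, U i).smul_mem (Fintype.card (fixV f hf S) : ℂ)⁻¹ h2
  refine (Submodule.finrank_mono hle).trans ?_
  rw [← Finset.sup_univ_eq_iSup]
  have key : ∀ s : Finset ι, finrank ℂ (s.sup U : Submodule ℂ V) ≤ ∑ i ∈ s, finrank ℂ (U i) := by
    intro s
    induction s using Finset.induction_on with
    | empty => simp
    | insert a s ha ih =>
      rw [Finset.sup_insert, Finset.sum_insert ha]
      exact (Submodule.finrank_add_le_finrank_add_finrank _ _).trans (Nat.add_le_add_left ih _)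
  exact key Finset.univ

end Characters

end CfsgLib.TwE6MinDeg
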